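import Cfsg.Agent.Lib.Fi22Local.TripleData

/-!
Commuting pairs and triples of transpositions of the presented Fi22: one orbit each, a pair is determined by
its product, and every product of a commuting triple arises from exactly two triples.
-/

set_option autoImplicit false
set_option maxRecDepth 100000

namespace Cfsg.Agent.Fi22Local.Triple

open Cfsg.Agent.CosetCert
open Cfsg.Agent.CosetData
open Cfsg.Agent.FischerPresented

/-- The word of the transpositions of listed cosets, applied in order. -/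
noncomputable def wd (l : List ℕ) : List ℕ := l.flatMap trW

/-- A coset is fixed by the transposition of another. -/
noncomputable def cm (a p : ℕ) : Bool := Nat.beq (tapp a p) p

/-- Number of cosets fixed by a word. -/
noncomputable def fcount (w : List ℕ) : ℕ := Out22.countBelow (fun p => Nat.beq (act w p) p) 3510

/-- The number of cosets fixed by an element. -/
noncomputable def fixN (g : GG) : ℕ := {p : Fin 3510 | Out22.hm g p = p}.ncard

theorem fixN_el {w : List ℕ} (hw : wok w = true) : fixN (el w) = fcount w := by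
  rw [fcount, Out22.countBelow_eq, fixN]
  refine congrArg Set.ncard (Set.ext fun p => ?_)
  show Out22.hm (el w) p = p ↔ Nat.beq (act w p) p = true
  rw [Nat.beq_eq, Fin.ext_iff, ← apt_el hw p.2, apt_of_lt _ p.2]

theorem fixN_conj (g h : GG) : fixN (g * h * g⁻¹) = fixN h := by
  have e : {p : Fin 3510 | Out22.hm (g * h * g⁻¹) p = p} = Out22.hm g '' {p | Out22.hm h p = p} := by
    ext p
    constructor
    · intro hp
      refine ⟨Out22.hm g⁻¹ p, ?_, ?_⟩
      · have := congrArg (Out22.hm g⁻¹) (show Out22.hm (g * h * g⁻¹) p = p from hp)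
        rw [← Out22.hom_mul_apply, show g⁻¹ * (g * h * g⁻¹) = h * g⁻¹ by group, Out22.hom_mul_apply] at this
        exact this
      · rw [← Out22.hom_mul_apply, mul_inv_cancel, map_one]; rfl
    · rintro ⟨q, hq, rfl⟩
      show Out22.hm (g * h * g⁻¹) (Out22.hm g q) = Out22.hm g q
      rw [← Out22.hom_mul_apply, inv_mul_cancel_right, Out22.hom_mul_apply, hq]
  rw [fixN, fixN, e, Set.ncard_image_of_injective _ (Out22.hm g).injective]

/-- The elements fixing listed cosets. -/
noncomputable def pfix (l : List ℕ) : Subgroup GG where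
  carrier := {g | ∀ c ∈ l, apt g c = c}
  one_mem' := fun c _ => apt_one c
  mul_mem' := fun {a b} ha hb c hc => by rw [apt_mul, hb c hc, ha c hc]
  inv_mem' := fun {a} ha c hc => by
    have := congrArg (apt a⁻¹) (ha c hc)
    rw [← apt_mul, inv_mul_cancel, apt_one] at this
    exact this.symm

/-- A certified orbit of a subgroup. -/
theorem orbit_mem {S : Subgroup GG} {sw : List (List ℕ)} {c : ℕ} {l : List (ℕ × ℕ)} {size : ℕ}
    (h : orbitOK Fi22B.P 3510 sw c l size = true) (hS : ∀ w ∈ sw, el w ∈ S) {p : ℕ}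
    (hp : bit (orbitBits Fi22B.P sw c l) p = true) : ∃ g ∈ S, apt g c = p := by
  simp only [orbitOK, Bool.and_eq_true, Nat.blt_eq] at h
  obtain ⟨⟨hc, hlet⟩, hm⟩ := h
  cases hg : grow Fi22B.P sw l [c] (insBit 0 c) with
  | none => simp [hg] at hm
  | some om =>
    obtain ⟨o, m⟩ := om
    rw [orbitBits, hg] at hp
    obtain ⟨k1, k2, -, -⟩ := grow_spec (R := fun t => ∃ g ∈ S, apt g c = t)
      (fun t ⟨g, hgS, hgt⟩ w hw => ⟨el w * g, S.mul_mem (hS w hw) hgS, by
        rw [apt_mul, apt_el (List.all_eq_true.1 hlet w hw) (apt_lt g hc), hgt]; rfl⟩)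
      l [c] (insBit 0 c) o m
      (fun t => ⟨fun ht => by
          rcases bit_insBit ht with rfl | ht
          · exact List.mem_singleton_self _
          · rw [bit_zero] at ht; exact Bool.noConfusion ht,
        fun ht => by rw [List.mem_singleton.1 ht]; exact bit_insBit_self _ _⟩)
      (fun t ht => ⟨1, S.one_mem, by rw [List.mem_singleton.1 ht, apt_one]⟩)
      (List.nodup_singleton c) hg
    exact k2 p ((k1 p).1 hp)

theorem el_mem_pfix {w : List ℕ} {l : List ℕ}
    (h : (wok w && l.all fun c => Nat.blt c 3510 && Nat.beq (act w c) c) = true) : el w ∈ pfix l := by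
  simp only [Bool.and_eq_true, List.all_eq_true, Nat.blt_eq, Nat.beq_eq] at h
  exact fun c hc => by rw [apt_el h.1 (h.2 c hc).1, (h.2 c hc).2]

/-- Words of the transpositions of the pair stabiliser. -/
noncomputable def swA : List (List ℕ) := gensA.map trW

/-- Words of the transpositions of the triple stabiliser. -/
noncomputable def swB : List (List ℕ) := gensB.map trW

theorem sw_fix : (Fi22B.sw.all fun w => wok w && [0].all fun c => Nat.blt c 3510 && Nat.beq (act w c) c) = true := by
  decide +kernel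

theorem swA_fix : (swA.all fun w => wok w && [0, 7].all fun c => Nat.blt c 3510 && Nat.beq (act w c) c) = true := by
  decide +kernel

theorem swB_fix : (swB.all fun w => wok w && [0, 7, 50].all fun c => Nat.blt c 3510 && Nat.beq (act w c) c) = true := by
  decide +kernel

theorem orbA_ok : orbitOK Fi22B.P 3510 swA 50 growA 180 = true := by decide +kernel

theorem orbB_ok : orbitOK Fi22B.P 3510 swB 53 growB 48 = true := by decide +kernel

theorem cover1 : allBelow (fun p => !(cm 0 p) || Nat.beq p 0 ||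
    bit (orbitBits Fi22B.P Fi22B.sw 7 Fi22B.orb1) p) 3510 = true := by decide +kernel

theorem cover2 : allBelow (fun p => !(cm 0 p && cm 7 p) || Nat.beq p 0 || Nat.beq p 7 ||
    bit (orbitBits Fi22B.P swA 50 growA) p) 3510 = true := by decide +kernel

theorem coverJ2 : allBelow (fun p => !(Nat.beq (act (wd [0, 7]) p) p) || Nat.beq p 0 || Nat.beq p 7 ||
    bit (orbitBits Fi22B.P swA 50 growA) p) 3510 = true := by decide +kernel

/-- The cosets of the two triples with one product. -/
def six : List ℕ := [0, 7, 50, 172, 2124, 2250]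

theorem coverJ3 : allBelow (fun p => !(Nat.beq (act (wd [0, 7, 50]) p) p) || six.contains p ||
    bit (orbitBits Fi22B.P swB 53 growB) p) 3510 = true := by decide +kernel

theorem counts : fcount (trW 0) = 694 ∧ fcount (wd [0, 7]) = 182 ∧ fcount (wd [0, 7] ++ trW 50) = 54 ∧
    fcount (wd [0, 7, 50] ++ trW 53) = 54 ∧
    wok (trW 0) = true ∧ wok (wd [0, 7]) = true ∧ wok (wd [0, 7] ++ trW 50) = true ∧
    wok (wd [0, 7, 50] ++ trW 53) = true ∧ wok (wd [0, 7, 50]) = true := by decide +kernel

theorem commute_iff {p q : ℕ} (hp : p < 3510) (hq : q < 3510) :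
    Commute (trN p) (trN q) ↔ tapp p q = q := by
  rw [← apt_fix_iff _ hq, apt_trN hp hq]

theorem trN_sq {p : ℕ} (hp : p < 3510) : trN p * trN p = 1 := by
  obtain ⟨g, hg⟩ := Fi22Class.mem_D.1 (trN_mem hp)
  rw [← hg]
  calc g * Fi22Class.z * g⁻¹ * (g * Fi22Class.z * g⁻¹) = g * (Fi22Class.z * Fi22Class.z) * g⁻¹ := by group
    _ = 1 := by rw [Fi22Class.z_sq]; group

theorem exists_base {p : ℕ} (hp : p < 3510) : ∃ g : GG, apt g 0 = p := by
  have h := allBelow_spec pathW_ok hp
  simp only [Bool.and_eq_true, Nat.beq_eq] at h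
  exact ⟨el (pathW p), by rw [apt_el h.1 (by norm_num), h.2]⟩

theorem tapp_move {g : GG} {a b : ℕ} (ha : a < 3510) (hb : b < 3510) (h : tapp a b = b) :
    tapp (apt g a) (apt g b) = apt g b := by rw [← apt_tapp g ha hb, h]

theorem pair_normal {p : ℕ} (hp : p < 3510) (h0 : p ≠ 0) (hc : tapp 0 p = p) :
    ∃ g : GG, apt g 0 = 0 ∧ apt g 7 = p := by
  have h := allBelow_spec cover1 hp
  simp only [cm, hc, Bool.or_eq_true, Nat.beq_eq, Bool.not_eq_true'] at h
  rcases h with (h | h) | h
  · simp at h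
  · exact absurd h h0
  · obtain ⟨g, hg, hgp⟩ := orbit_mem (S := pfix [0]) Fi22B.orb1_ok
      (fun w hw => el_mem_pfix (List.all_eq_true.1 sw_fix w hw)) h
    exact ⟨g, hg 0 (by simp), hgp⟩

theorem exists_pair {p q : ℕ} (hp : p < 3510) (hq : q < 3510) (hne : p ≠ q) (hc : tapp p q = q) :
    ∃ g : GG, apt g 0 = p ∧ apt g 7 = q := by
  obtain ⟨a, ha⟩ := exists_base hp
  have hq' : apt a⁻¹ q < 3510 := apt_lt _ hq
  have hinv : apt a⁻¹ p = 0 := by rw [← ha, ← apt_mul, inv_mul_cancel, apt_one]
  obtain ⟨b, hb0, hb7⟩ := pair_normal hq' (fun h => hne (apt_injective a⁻¹ (hinv.trans h.symm)))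
    (hinv ▸ tapp_move hp hq hc)
  exact ⟨a * b, by rw [apt_mul, hb0, ha], by rw [apt_mul, hb7, ← apt_mul, mul_inv_cancel, apt_one]⟩

theorem exists_triple {p q r : ℕ} (hp : p < 3510) (hq : q < 3510) (hr : r < 3510) (hpq : p ≠ q)
    (hpr : p ≠ r) (hqr : q ≠ r) (cpq : tapp p q = q) (cpr : tapp p r = r) (cqr : tapp q r = r) :
    ∃ g : GG, apt g 0 = p ∧ apt g 7 = q ∧ apt g 50 = r := by
  obtain ⟨a, ha0, ha7⟩ := exists_pair hp hq hpq cpq
  have hr' : apt a⁻¹ r < 3510 := apt_lt _ hr
  have i0 : apt a⁻¹ p = 0 := by rw [← ha0, ← apt_mul, inv_mul_cancel, apt_one]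
  have i7 : apt a⁻¹ q = 7 := by rw [← ha7, ← apt_mul, inv_mul_cancel, apt_one]
  have c0 : tapp 0 (apt a⁻¹ r) = apt a⁻¹ r := i0 ▸ tapp_move hp hr cpr
  have c7 : tapp 7 (apt a⁻¹ r) = apt a⁻¹ r := i7 ▸ tapp_move hq hr cqr
  have h := allBelow_spec cover2 hr'
  simp only [cm, c0, c7, Bool.or_eq_true, Nat.beq_eq, Bool.not_eq_true'] at h
  rcases h with ((h | h) | h) | h
  · simp at h
  · exact absurd (apt_injective a⁻¹ (i0.trans h.symm)) hpr
  · exact absurd (apt_injective a⁻¹ (i7.trans h.symm)) hqr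
  · obtain ⟨b, hb, hbr⟩ := orbit_mem (S := pfix [0, 7]) orbA_ok
      (fun w hw => el_mem_pfix (List.all_eq_true.1 swA_fix w hw)) h
    exact ⟨a * b, by rw [apt_mul, hb 0 (by simp), ha0], by rw [apt_mul, hb 7 (by simp), ha7],
      by rw [apt_mul, hbr, ← apt_mul, mul_inv_cancel, apt_one]⟩

theorem el_wd : ∀ l : List ℕ, (∀ a ∈ l, a < 3510) →
    (∀ a ∈ l, ∀ b ∈ l, tapp a b = b) → el (wd l) = (l.map trN).prod
  | [], _, _ => el_nil
  | a :: l, hlt, hc => by
    rw [wd, List.flatMap_cons, el_append, List.map_cons, List.prod_cons]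
    have ih := el_wd l (fun x hx => hlt x (List.mem_cons_of_mem _ hx))
      (fun x hx y hy => hc x (List.mem_cons_of_mem _ hx) y (List.mem_cons_of_mem _ hy))
    rw [wd] at ih
    rw [ih]
    refine (Commute.list_prod_left _ _ fun y hy => ?_).eq
    obtain ⟨b, hb, rfl⟩ := List.mem_map.1 hy
    exact ((commute_iff (hlt a List.mem_cons_self) (hlt b (List.mem_cons_of_mem _ hb))).2
      (hc a List.mem_cons_self b (List.mem_cons_of_mem _ hb))).symm

theorem base_commute : tapp 0 7 = 7 ∧ tapp 0 50 = 50 ∧ tapp 7 50 = 50 ∧ tapp 172 2124 = 2124 ∧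
    tapp 172 2250 = 2250 ∧ tapp 2124 2250 = 2250 := by decide +kernel

theorem other_triple : sameW (wd [0, 7, 50]) (wd [172, 2124, 2250]) = true := by decide +kernel

theorem el_pair : el (wd [0, 7]) = trN 0 * trN 7 := by
  rw [wd]
  simp only [List.flatMap_cons, List.flatMap_nil, List.append_nil, el_append]
  exact ((commute_iff (by norm_num) (by norm_num)).2 base_commute.1).symm.eq

theorem el_triple : el (wd [0, 7, 50]) = trN 0 * trN 7 * trN 50 := by
  obtain ⟨h1, h2, h3, -⟩ := base_commute
  rw [wd]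
  simp only [List.flatMap_cons, List.flatMap_nil, List.append_nil, el_append]
  have c07 := (commute_iff (show 0 < 3510 by norm_num) (show 7 < 3510 by norm_num)).2 h1
  have c05 := (commute_iff (show 0 < 3510 by norm_num) (show 50 < 3510 by norm_num)).2 h2
  have c75 := (commute_iff (show 7 < 3510 by norm_num) (show 50 < 3510 by norm_num)).2 h3
  show trN 50 * trN 7 * trN 0 = trN 0 * trN 7 * trN 50
  rw [← c75.eq, mul_assoc, ← c05.eq, ← mul_assoc, ← c07.eq]

/-- The base pair is determined by its product. -/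
theorem pair_unique_base {p q : ℕ} (hp : p < 3510) (hq : q < 3510) (hne : p ≠ q) (hc : tapp p q = q)
    (h : trN p * trN q = trN 0 * trN 7) : p = 0 ∨ p = 7 := by
  have hcp : Commute (trN p) (trN q) := (commute_iff hp hq).2 hc
  have hfix : apt (el (wd [0, 7])) p = p := by
    rw [apt_fix_iff _ hp, el_pair, ← h]
    exact (Commute.refl _).mul_left hcp.symm
  rw [apt_el counts.2.2.2.2.2.1 hp] at hfix
  have hcov := allBelow_spec coverJ2 hp
  simp only [hfix, Bool.or_eq_true, Nat.beq_eq, Bool.not_eq_true'] at hcov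
  rcases hcov with ((hh | hh) | hh) | hh
  · simp at hh
  · exact Or.inl hh
  · exact Or.inr hh
  · exfalso
    obtain ⟨g, hg, hgp⟩ := orbit_mem (S := pfix [0, 7]) orbA_ok
      (fun w hw => el_mem_pfix (List.all_eq_true.1 swA_fix w hw)) hh
    have hq' : trN q = g * el (wd [0, 7] ++ trW 50) * g⁻¹ := by
      have e0 : g * trN 0 * g⁻¹ = trN 0 := by rw [← trN_apt g (by norm_num), hg 0 (by simp)]
      have e7 : g * trN 7 * g⁻¹ = trN 7 := by rw [← trN_apt g (by norm_num), hg 7 (by simp)]
      rw [el_append, el_pair, show el (trW 50) = trN 50 from rfl,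
        show g * (trN 50 * (trN 0 * trN 7)) * g⁻¹ = (g * trN 50 * g⁻¹) * ((g * trN 0 * g⁻¹) * (g * trN 7 * g⁻¹)) by group,
        ← trN_apt g (by norm_num), hgp, e0, e7, ← h, ← mul_assoc, trN_sq hp, one_mul]
    have h1 : fixN (trN q) = fcount (trW 0) := by
      obtain ⟨a, rfl⟩ := exists_base hq
      rw [trN_apt a (by norm_num), fixN_conj]
      exact fixN_el counts.2.2.2.2.1
    rw [hq', fixN_conj, fixN_el counts.2.2.2.2.2.2.1, counts.1, counts.2.2.1] at h1
    exact absurd h1 (by norm_num)

/-- A commuting pair is determined by its product. -/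
theorem pair_unique {a b p q : ℕ} (ha : a < 3510) (hb : b < 3510) (hp : p < 3510) (hq : q < 3510)
    (hab : a ≠ b) (hpq : p ≠ q) (cab : tapp a b = b) (cpq : tapp p q = q)
    (h : trN p * trN q = trN a * trN b) : (p = a ∧ q = b) ∨ (p = b ∧ q = a) := by
  obtain ⟨g, g0, g7⟩ := exists_pair ha hb hab cab
  have hh : trN (apt g⁻¹ p) * trN (apt g⁻¹ q) = trN 0 * trN 7 := by
    rw [trN_apt _ hp, trN_apt _ hq, show g⁻¹ * trN p * g⁻¹⁻¹ * (g⁻¹ * trN q * g⁻¹⁻¹) = g⁻¹ * (trN p * trN q) * g by group,
      h, ← g0, ← g7, trN_apt _ (by norm_num), trN_apt _ (by norm_num)]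
    group
  have hres := pair_unique_base (apt_lt _ hp) (apt_lt _ hq) (fun e => hpq (apt_injective _ e))
    (tapp_move hp hq cpq) hh
  have back : ∀ {c u : ℕ}, apt g⁻¹ p = c → apt g c = u → p = u := fun {c u} hc hu => by
    rw [← hu, ← hc, ← apt_mul, mul_inv_cancel, apt_one]
  rcases hres with e | e
  · have hpa := back e g0
    subst hpa
    exact Or.inl ⟨rfl, trN_inj hq hb (mul_left_cancel h)⟩
  · have hpb := back e g7
    subst hpb
    refine Or.inr ⟨rfl, trN_inj hq ha (mul_left_cancel (a := trN p) ?_)⟩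
    rw [h]
    exact ((commute_iff ha hp).2 cab).eq

theorem other_prod : trN 172 * trN 2124 * trN 2250 = trN 0 * trN 7 * trN 50 := by
  obtain ⟨-, -, -, h1, h2, h3⟩ := base_commute
  rw [← el_triple, el_eq other_triple, wd]
  simp only [List.flatMap_cons, List.flatMap_nil, List.append_nil, el_append]
  have c1 := (commute_iff (show 172 < 3510 by norm_num) (show 2124 < 3510 by norm_num)).2 h1
  have c2 := (commute_iff (show 172 < 3510 by norm_num) (show 2250 < 3510 by norm_num)).2 h2
  have c3 := (commute_iff (show 2124 < 3510 by norm_num) (show 2250 < 3510 by norm_num)).2 h3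
  show _ = trN 2250 * trN 2124 * trN 172
  rw [← c3.eq, mul_assoc (trN 2124), ← c2.eq, ← mul_assoc, ← c1.eq]

/-- A commuting triple with the base product has its first member among the six cosets. -/
theorem first_mem_six {p q r : ℕ} (hp : p < 3510) (hq : q < 3510) (hr : r < 3510)
    (hqr : q ≠ r) (cpq : tapp p q = q) (cpr : tapp p r = r) (cqr : tapp q r = r)
    (h : trN p * trN q * trN r = trN 0 * trN 7 * trN 50) : p ∈ six := by
  have hfix : apt (el (wd [0, 7, 50])) p = p := by
    rw [apt_fix_iff _ hp, el_triple, ← h]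
    exact ((Commute.refl _).mul_left ((commute_iff hp hq).2 cpq).symm).mul_left ((commute_iff hp hr).2 cpr).symm
  rw [apt_el counts.2.2.2.2.2.2.2.2 hp] at hfix
  have hcov := allBelow_spec coverJ3 hp
  simp only [hfix, Bool.or_eq_true, Nat.beq_eq, Bool.not_eq_true', List.contains_iff_mem] at hcov
  rcases hcov with (hh | hh) | hh
  · simp at hh
  · exact hh
  · exfalso
    obtain ⟨g, hg, hgp⟩ := orbit_mem (S := pfix [0, 7, 50]) orbB_ok
      (fun w hw => el_mem_pfix (List.all_eq_true.1 swB_fix w hw)) hh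
    have hx : trN q * trN r = g * el (wd [0, 7, 50] ++ trW 53) * g⁻¹ := by
      have e0 : g * trN 0 * g⁻¹ = trN 0 := by rw [← trN_apt g (by norm_num), hg 0 (by simp)]
      have e7 : g * trN 7 * g⁻¹ = trN 7 := by rw [← trN_apt g (by norm_num), hg 7 (by simp)]
      have e50 : g * trN 50 * g⁻¹ = trN 50 := by rw [← trN_apt g (by norm_num), hg 50 (by simp)]
      rw [el_append, el_triple, show el (trW 53) = trN 53 from rfl,
        show g * (trN 53 * (trN 0 * trN 7 * trN 50)) * g⁻¹ =
          (g * trN 53 * g⁻¹) * ((g * trN 0 * g⁻¹) * (g * trN 7 * g⁻¹) * (g * trN 50 * g⁻¹)) by group,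
        ← trN_apt g (by norm_num), hgp, e0, e7, e50, ← h, ← mul_assoc, ← mul_assoc, trN_sq hp, one_mul]
    obtain ⟨a, a0, a7⟩ := exists_pair hq hr hqr cqr
    have h1 : fixN (trN q * trN r) = fcount (wd [0, 7]) := by
      rw [← a0, ← a7, trN_apt a (by norm_num), trN_apt a (by norm_num),
        show a * trN 0 * a⁻¹ * (a * trN 7 * a⁻¹) = a * (trN 0 * trN 7) * a⁻¹ by group, fixN_conj, ← el_pair]
      exact fixN_el counts.2.2.2.2.2.1
    rw [hx, fixN_conj, fixN_el counts.2.2.2.2.2.2.2.1, counts.2.1, counts.2.2.2.1] at h1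
    exact absurd h1 (by norm_num)

/-- A commuting triple with the base product is one of the two triples. -/
theorem triple_base {p q r : ℕ} (hp : p < 3510) (hq : q < 3510) (hr : r < 3510) (hpq : p ≠ q) (hpr : p ≠ r)
    (hqr : q ≠ r) (cpq : tapp p q = q) (cpr : tapp p r = r) (cqr : tapp q r = r)
    (h : trN p * trN q * trN r = trN 0 * trN 7 * trN 50) :
    ({p, q, r} : Set ℕ) = {0, 7, 50} ∨ ({p, q, r} : Set ℕ) = {172, 2124, 2250} := by
  have key : ∀ {a b c : ℕ}, a < 3510 → b < 3510 → c < 3510 → b ≠ c → tapp b c = c →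
      trN a * trN b * trN c = trN p * trN q * trN r → p = a →
      ({p, q, r} : Set ℕ) = {a, b, c} := by
    intro a b c ha hb hc hbc cbc he hpa
    subst hpa
    rw [mul_assoc, mul_assoc, mul_left_cancel_iff] at he
    rcases pair_unique hb hc hq hr hbc hqr cbc cqr he.symm with ⟨rfl, rfl⟩ | ⟨rfl, rfl⟩
    · rfl
    · exact congrArg (insert p) (Set.pair_comm _ _)
  obtain ⟨h07, h050, h750, hA, hB, hC⟩ := base_commute
  have hlt : ∀ a ∈ six, a < 3510 := by decide
  have sw12 : ∀ {a b c : ℕ}, a < 3510 → b < 3510 → tapp a b = b → trN b * trN a * trN c = trN a * trN b * trN c :=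
    fun {a b c} ha hb hab => by rw [((commute_iff ha hb).2 hab).eq]
  have sw13 : ∀ {a b c : ℕ}, a < 3510 → b < 3510 → c < 3510 → tapp a c = c → tapp b c = c →
      trN c * trN a * trN b = trN a * trN b * trN c := fun {a b c} ha hb hc hac hbc => by
    rw [← ((commute_iff ha hc).2 hac).eq, mul_assoc, ← ((commute_iff hb hc).2 hbc).eq, mul_assoc]
  have hO := other_prod.trans h.symm
  have hmem := first_mem_six hp hq hr hqr cpq cpr cqr h
  simp only [six, List.mem_cons, List.not_mem_nil, or_false] at hmem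
  rcases hmem with e | e | e | e | e | e
  · exact Or.inl (key (by norm_num) (by norm_num) (by norm_num) (by norm_num) h750 h.symm e)
  · refine Or.inl ((key (a := 7) (b := 0) (c := 50) (by norm_num) (by norm_num) (by norm_num) (by norm_num)
      h050 ((sw12 (by norm_num) (by norm_num) h07).trans h.symm) e).trans ?_)
    exact Set.insert_comm _ _ _
  · refine Or.inl ((key (a := 50) (b := 0) (c := 7) (by norm_num) (by norm_num) (by norm_num) (by norm_num)
      h07 ((sw13 (by norm_num) (by norm_num) (by norm_num) h050 h750).trans h.symm) e).trans ?_)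
    rw [Set.insert_comm (50 : ℕ) 0, Set.pair_comm (50 : ℕ) 7]
  · exact Or.inr (key (by norm_num) (by norm_num) (by norm_num) (by norm_num) hC hO e)
  · refine Or.inr ((key (a := 2124) (b := 172) (c := 2250) (by norm_num) (by norm_num) (by norm_num) (by norm_num)
      hB ((sw12 (by norm_num) (by norm_num) hA).trans hO) e).trans ?_)
    exact Set.insert_comm _ _ _
  · refine Or.inr ((key (a := 2250) (b := 172) (c := 2124) (by norm_num) (by norm_num) (by norm_num) (by norm_num)
      hA ((sw13 (by norm_num) (by norm_num) (by norm_num) hB hC).trans hO) e).trans ?_)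
    rw [Set.insert_comm (2250 : ℕ) 172, Set.pair_comm (2250 : ℕ) 2124]

end Cfsg.Agent.Fi22Local.Triple
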