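import Cfsg.Agent.Lib.FischerPresented.OutSigma
import Cfsg.Agent.Lib.Fi22Local.PathData

/-!
Computing in the presented Fi22 with words and coset numbers: elements of words, transpositions of cosets,
point derivations, and two rigidity criteria.
-/

set_option autoImplicit false
set_option maxRecDepth 100000

namespace Cfsg.Agent.Fi22Local

open Cfsg.Agent.CosetCert
open Cfsg.Agent.CosetData
open Cfsg.Agent.FischerPresented
open Cfsg.Agent.FischerPresented.Out22 (hm tr tr_hom tr_gpt gpt mir fix_iff hom_mul_apply)

/-- The presented Fi22. -/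
abbrev GG := Setup.G Fi22B.setup

/-- The generators. -/
noncomputable abbrev gn (x : ℕ) : GG := Setup.gen Fi22B.setup x

/-- All letters of a word are below nine. -/
def wok (w : List ℕ) : Bool := w.all fun x => Nat.blt x 9

/-- The element of a word, acting from the left letter first. -/
noncomputable def el (w : List ℕ) : GG := wprod gn w.reverse

/-- The action of a word on coset numbers. -/
noncomputable def act (w : List ℕ) (p : ℕ) : ℕ := tact Fi22B.P w p

/-- The action of an element on coset numbers. -/
noncomputable def apt (g : GG) (p : ℕ) : ℕ :=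
  if h : p < 3510 then (hm g ⟨p, h⟩ : ℕ) else p

theorem apt_of_lt (g : GG) {p : ℕ} (h : p < 3510) : apt g p = (hm g ⟨p, h⟩ : ℕ) := dif_pos h

theorem apt_lt (g : GG) {p : ℕ} (h : p < 3510) : apt g p < 3510 := by
  rw [apt_of_lt g h]; exact Fin.isLt _

theorem apt_one (p : ℕ) : apt 1 p = p := by
  unfold apt
  split
  · rw [show hm (1 : GG) = 1 from map_one hm]; rfl
  · rfl

theorem apt_mul (g h : GG) (p : ℕ) : apt (g * h) p = apt g (apt h p) := by
  by_cases hp : p < 3510
  · rw [apt_of_lt _ hp, apt_of_lt h hp, apt_of_lt g (Fin.isLt _), hom_mul_apply]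
  · rw [show ∀ k : GG, apt k p = p from fun k => dif_neg hp,
      show ∀ k : GG, apt k p = p from fun k => dif_neg hp, show apt g p = p from dif_neg hp]

theorem apt_injective (g : GG) {p q : ℕ} (h : apt g p = apt g q) : p = q := by
  have := congrArg (apt g⁻¹) h
  rwa [← apt_mul, ← apt_mul, inv_mul_cancel, apt_one, apt_one] at this

theorem apt_el {w : List ℕ} (hw : wok w = true) {p : ℕ} (hp : p < 3510) : apt (el w) p = act w p := by
  have hv : (w.reverse.all fun x => Nat.blt x 9) = true := by
    rw [List.all_eq_true]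
    exact fun x hx => List.all_eq_true.1 hw x (List.mem_reverse.1 hx)
  rw [apt_of_lt _ hp, el, Out22.hom_word hv, List.reverse_reverse]
  rfl

theorem el_nil : el [] = 1 := rfl

theorem el_append (u v : List ℕ) : el (u ++ v) = el v * el u := by
  rw [el, List.reverse_append, wprod_append]
  rfl

theorem el_rep (m : ℕ) (w : List ℕ) : el (rep m w) = el w ^ m := by
  induction m with
  | zero => rw [pow_zero]; exact el_nil
  | succ m ih =>
    rw [show rep (m + 1) w = w ++ rep m w from rfl, el_append, ih, pow_succ]

/-- Two words with the same images of the base points. -/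
noncomputable def sameW (u v : List ℕ) : Bool :=
  wok u && (wok v && Fi22.pts.all fun p => Nat.blt p 3510 && Nat.beq (act u p) (act v p))

theorem eq_of_apt {g h : GG} (hgh : ∀ p ∈ Fi22.pts, apt g p = apt h p) : g = h := by
  refine inv_mul_eq_one.1 (Fi22.order_facts.2.2.2 (h⁻¹ * g) ?_) |>.symm
  intro p hp
  show hm (h⁻¹ * g) p = p
  refine Fin.ext ?_
  rw [← apt_of_lt _ p.2, apt_mul, hgh _ hp, ← apt_mul, inv_mul_cancel, apt_one]

theorem el_eq {u v : List ℕ} (h : sameW u v = true) : el u = el v := by
  simp only [sameW, Bool.and_eq_true, List.all_eq_true, Nat.blt_eq, Nat.beq_eq] at h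
  obtain ⟨hu, hv, hp⟩ := h
  refine eq_of_apt fun p hpm => ?_
  obtain ⟨hlt, he⟩ := hp p hpm
  rw [apt_el hu hlt, apt_el hv hlt, he]

/-! ### Transpositions -/

/-- Unpack a word. -/
def unpack : ℕ → ℕ → List ℕ
  | 0, _ => []
  | k + 1, c => bif Nat.beq c 0 then [] else (c % 16 - 1) :: unpack k (c / 16)

/-- A word leading from the base coset to `p`. -/
noncomputable def pathW (p : ℕ) : List ℕ := unpack 64 ((pathTab.get p).getD 0 0)

/-- The word of the transposition of `p`. -/
noncomputable def trW (p : ℕ) : List ℕ := (pathW p).reverse ++ [0] ++ pathW p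

theorem pathW_ok : allBelow (fun p => wok (pathW p) && Nat.beq (act (pathW p) 0) p) 3510 = true := by
  decide +kernel

theorem trW_ok {p : ℕ} (hp : p < 3510) : wok (trW p) = true := by
  have h := allBelow_spec pathW_ok hp
  simp only [Bool.and_eq_true, wok, List.all_eq_true] at h
  simp only [trW, wok, List.all_eq_true, List.mem_append, List.mem_reverse, List.mem_singleton]
  rintro x ((hx | rfl) | hx)
  · exact h.1 x hx
  · rfl
  · exact h.1 x hx

/-- The transposition of a coset number. -/
noncomputable def trN (p : ℕ) : GG := el (trW p)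

theorem trN_eq {p : ℕ} (hp : p < 3510) : trN p = tr ⟨p, hp⟩ := by
  have h := allBelow_spec pathW_ok hp
  simp only [Bool.and_eq_true, Nat.beq_eq] at h
  rw [Out22.tr_word (v := pathW p) (p := ⟨p, hp⟩) h.1 h.2, trN, el]
  congr 1
  simp [trW]

/-- The action of the transposition of `a` on `b`. -/
noncomputable def tapp (a b : ℕ) : ℕ := act (trW a) b

theorem apt_trN {a b : ℕ} (ha : a < 3510) (hb : b < 3510) : apt (trN a) b = tapp a b :=
  apt_el (trW_ok ha) hb

theorem tapp_lt {a b : ℕ} (ha : a < 3510) (hb : b < 3510) : tapp a b < 3510 :=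
  apt_trN ha hb ▸ apt_lt _ hb

theorem trN_apt (g : GG) {p : ℕ} (hp : p < 3510) : trN (apt g p) = g * trN p * g⁻¹ := by
  rw [trN_eq (apt_lt g hp), trN_eq hp, ← tr_hom]
  exact congrArg tr (Fin.ext (apt_of_lt g hp))

theorem apt_tapp (g : GG) {a b : ℕ} (ha : a < 3510) (hb : b < 3510) :
    apt g (tapp a b) = tapp (apt g a) (apt g b) := by
  rw [← apt_trN (apt_lt g ha) (apt_lt g hb), trN_apt g ha, apt_mul, apt_mul, ← apt_mul g⁻¹ g,
    inv_mul_cancel, apt_one, apt_trN ha hb]

theorem trN_inj {p q : ℕ} (hp : p < 3510) (hq : q < 3510) (h : trN p = trN q) : p = q := by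
  rw [trN_eq hp, trN_eq hq] at h
  exact congrArg Fin.val (Out22.tr_injective h)

theorem apt_fix_iff (g : GG) {p : ℕ} (hp : p < 3510) : apt g p = p ↔ Commute g (trN p) := by
  rw [trN_eq hp, ← fix_iff, apt_of_lt g hp, Fin.ext_iff]

theorem trN_mem {p : ℕ} (hp : p < 3510) : trN p ∈ Fi22Class.D := trN_eq hp ▸ Out22.tr_mem _

theorem exists_trN {d : GG} (hd : d ∈ Fi22Class.D) : ∃ p, p < 3510 ∧ trN p = d := by
  obtain ⟨p, rfl⟩ := Out22.exists_tr hd
  exact ⟨p, p.2, trN_eq p.2⟩

/-! ### Derivations of points -/

/-- Append the derived points. -/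
noncomputable def derive : List (ℕ × ℕ) → List ℕ → List ℕ
  | [], l => l
  | (a, b) :: s, l => derive s (l ++ [tapp (l.getD a 0) (l.getD b 0)])

theorem getD_lt {l : List ℕ} (h : ∀ x ∈ l, x < 3510) (a : ℕ) : l.getD a 0 < 3510 := by
  rw [List.getD_eq_getElem?_getD]
  cases he : l[a]? with
  | none => simp
  | some x => exact h x (List.mem_of_getElem? he)

theorem derive_map (g : GG) : ∀ (s : List (ℕ × ℕ)) (l l' : List ℕ), (∀ x ∈ l, x < 3510) →
    (∀ st ∈ s, st.1 < l.length + s.length ∧ st.2 < l.length + s.length) →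
    (∀ (i : ℕ) (pre : List (ℕ × ℕ)) (st : ℕ × ℕ), pre = s.take i → s[i]? = some st →
      st.1 < l.length + i ∧ st.2 < l.length + i) →
    l' = l.map (apt g) →
    (∀ x ∈ derive s l, x < 3510) ∧ derive s l' = (derive s l).map (apt g)
  | [], l, l', hl, _, _, h => ⟨hl, h⟩
  | (a, b) :: s, l, l', hl, _, hord, h => by
    have h0 := hord 0 [] (a, b) rfl rfl
    have ha : l'.getD a 0 = apt g (l.getD a 0) := by
      have : a < l.length := h0.1
      rw [h]; simp [List.getD_eq_getElem?_getD, this]
    have hb : l'.getD b 0 = apt g (l.getD b 0) := by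
      have : b < l.length := h0.2
      rw [h]; simp [List.getD_eq_getElem?_getD, this]
    have hl2 : ∀ x ∈ l ++ [tapp (l.getD a 0) (l.getD b 0)], x < 3510 := by
      intro x hx
      rcases List.mem_append.1 hx with hx | hx
      · exact hl x hx
      · rw [List.mem_singleton] at hx; subst hx
        exact tapp_lt (getD_lt hl a) (getD_lt hl b)
    refine derive_map g s _ _ hl2 ?_ ?_ ?_
    · intro st hst
      obtain ⟨i, hi, rfl⟩ := List.getElem_of_mem hst
      have := hord (i + 1) _ _ rfl (List.getElem?_eq_getElem (l := (a, b) :: s) (i := i + 1) (by simpa using hi))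
      simp only [List.getElem_cons_succ] at this
      simp only [List.length_append, List.length_singleton]
      omega
    · intro i pre st _ hst
      have := hord (i + 1) _ st rfl (by simpa using hst)
      simp only [List.length_append, List.length_singleton]
      omega
    · rw [List.map_append, List.map_singleton, apt_tapp g (getD_lt hl a) (getD_lt hl b), ← ha, ← hb, h]

/-- Steps refer to earlier points only. -/
def stepsOK : List (ℕ × ℕ) → ℕ → Bool
  | [], _ => true
  | (a, b) :: s, m => Nat.blt a m && (Nat.blt b m && stepsOK s (m + 1))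

theorem stepsOK_spec : ∀ {s : List (ℕ × ℕ)} {m : ℕ}, stepsOK s m = true → ∀ {i : ℕ} {st : ℕ × ℕ},
    s[i]? = some st → st.1 < m + i ∧ st.2 < m + i
  | [], _, _, i, st, h => by simp at h
  | (a, b) :: s, m, hs, i, st, h => by
    simp only [stepsOK, Bool.and_eq_true, Nat.blt_eq] at hs
    cases i with
    | zero => simp only [List.getElem?_cons_zero, Option.some.injEq] at h; subst h; exact ⟨hs.1, hs.2.1⟩
    | succ i =>
      have := stepsOK_spec hs.2.2 (i := i) (st := st) (by simpa using h)
      omega

theorem derive_take {s : List (ℕ × ℕ)} {l : List ℕ} (g : GG) (hs : stepsOK s l.length = true)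
    (hl : ∀ x ∈ l, x < 3510) (n : ℕ) :
    (∀ x ∈ derive (s.take n) l, x < 3510) ∧
      derive (s.take n) (l.map (apt g)) = (derive (s.take n) l).map (apt g) := by
  refine derive_map g _ l _ hl ?_ ?_ rfl
  · intro st hst
    obtain ⟨i, hi, rfl⟩ := List.getElem_of_mem hst
    have hi' : i < s.length := by simp at hi; omega
    have := stepsOK_spec hs (List.getElem?_eq_getElem hi')
    simp only [List.getElem_take]
    omega
  · intro i pre st _ hst
    have : s[i]? = some st := by
      rw [List.getElem?_take] at hst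
      split at hst
      · exact hst
      · simp at hst
    exact stepsOK_spec hs this

/-- An invariant of two listed points. -/
noncomputable def pflag (l : List ℕ) (a b : ℕ) : Bool × Bool :=
  (Nat.beq (tapp (l.getD a 0) (l.getD b 0)) (l.getD b 0), Nat.beq (l.getD a 0) (l.getD b 0))

theorem pflag_map (g : GG) {l : List ℕ} (hl : ∀ x ∈ l, x < 3510) {a b : ℕ} (ha : a < l.length)
    (hb : b < l.length) : pflag (l.map (apt g)) a b = pflag l a b := by
  have ea : (l.map (apt g)).getD a 0 = apt g (l.getD a 0) := by simp [List.getD_eq_getElem?_getD, ha]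
  have eb : (l.map (apt g)).getD b 0 = apt g (l.getD b 0) := by simp [List.getD_eq_getElem?_getD, hb]
  simp only [pflag, ea, eb, ← apt_tapp g (getD_lt hl a) (getD_lt hl b)]
  refine Prod.ext ?_ ?_ <;> rw [Bool.eq_iff_iff, Nat.beq_eq, Nat.beq_eq] <;>
    exact ⟨apt_injective g, congrArg (apt g)⟩

theorem derive_length : ∀ (s : List (ℕ × ℕ)) (l : List ℕ), (derive s l).length = l.length + s.length
  | [], l => rfl
  | (a, b) :: s, l => by
    rw [derive, derive_length s, List.length_append, List.length_cons, List.length_cons, List.length_nil]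
    omega

/-- An element is determined by the images of points generating all the generators' cosets. -/
theorem eq_of_gpts {g h : GG} (hgh : ∀ x < 9, apt g (gpt x) = apt h (gpt x)) : g = h := by
  have hgen : ∀ x < 9, Commute (h⁻¹ * g) (gn x) := by
    intro x hx
    obtain ⟨hlt, e⟩ := tr_gpt hx
    rw [show gn x = trN (gpt x) from e.symm.trans (trN_eq hlt).symm, ← apt_fix_iff _ hlt, apt_mul, hgh x hx, ← apt_mul, inv_mul_cancel, apt_one]
  have hall : ∀ a : GG, Commute (h⁻¹ * g) a := by
    intro a
    have ha : a ∈ Subgroup.closure (gn '' {x | x < 9}) := Setup.closure_gen Fi22B.setup ▸ Subgroup.mem_top a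
    induction ha using Subgroup.closure_induction with
    | mem y hy => obtain ⟨x, hx, rfl⟩ := hy; exact hgen x hx
    | one => exact Commute.one_right _
    | mul a b _ _ ha hb => exact ha.mul_right hb
    | inv a _ ha => exact ha.inv_right
  have hz : h⁻¹ * g ∈ Subgroup.center GG := Subgroup.mem_center_iff.2 fun a => (hall a).eq.symm
  haveI := Fi22.isSimpleGroup
  rcases ((inferInstance : (Subgroup.center GG).Normal)).eq_bot_or_eq_top with hb | ht
  · rw [hb, Subgroup.mem_bot, inv_mul_eq_one] at hz
    exact hz.symm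
  · exfalso
    have : Fi22Class.z ∈ Subgroup.center GG := ht ▸ Subgroup.mem_top _
    rw [Subgroup.mem_center_iff] at this
    have hd : (1 : ℕ) < 3510 := by norm_num
    have h1 : apt Fi22Class.z (gpt 1) = gpt 1 := by
      obtain ⟨hlt, e⟩ := tr_gpt (show 1 < 9 by norm_num)
      rw [apt_fix_iff _ hlt, trN_eq hlt, e]
      exact (this _).symm
    rw [show Fi22Class.z = el [0] from (mul_one _).symm,
      apt_el rfl (show gpt 1 < 3510 by decide +kernel)] at h1
    exact absurd h1 (by decide +kernel)

/-- No element acts on the generators' cosets as the diagram symmetry followed by a word. -/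
theorem not_outer {g : GG} {c : List ℕ} (hc : wok c = true)
    (hg : ∀ x < 9, apt g (gpt x) = act c (gpt (mir x))) : False := by
  obtain ⟨σ, hσ⟩ := Out22.exists_sigma
  refine Out22.not_inner hσ ⟨(el c)⁻¹ * g, MulEquiv.ext fun a => ?_⟩
  have hgen : ∀ x < 9, MulAut.conj ((el c)⁻¹ * g) (gn x) = σ (gn x) := by
    intro x hx
    have hmx : mir x < 9 := by
      have := allBelow_spec Out22.mir_ok hx
      rw [Bool.and_eq_true, Nat.blt_eq] at this
      exact this.1
    obtain ⟨hlt, e⟩ := tr_gpt hx
    obtain ⟨hlt', e'⟩ := tr_gpt hmx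
    rw [hσ x hx, MulAut.conj_apply, show gn x = trN (gpt x) from e.symm.trans (trN_eq hlt).symm,
      ← trN_apt _ hlt, apt_mul, hg x hx, ← apt_el hc hlt', ← apt_mul, inv_mul_cancel, apt_one]
    exact (trN_eq hlt').trans e'
  have ha : a ∈ Subgroup.closure (gn '' {x | x < 9}) := Setup.closure_gen Fi22B.setup ▸ Subgroup.mem_top a
  induction ha using Subgroup.closure_induction with
  | mem y hy => obtain ⟨x, hx, rfl⟩ := hy; exact hgen x hx
  | one => exact (map_one _).trans (map_one σ).symm
  | mul a b _ _ ha hb => exact (map_mul _ a b).trans ((congrArg₂ (· * ·) ha hb).trans (map_mul σ a b).symm)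
  | inv a _ ha => exact (map_inv _ a).trans ((congrArg (·⁻¹) ha).trans (map_inv σ a).symm)

end Cfsg.Agent.Fi22Local
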