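import Cfsg.Agent.Lib.Fi22Local.Local5

/-! Words carrying the element of order five into the other subgroups of an elementary group of order 25. -/

set_option autoImplicit false
set_option maxRecDepth 100000

namespace Cfsg.Agent.Fi22Local.P5

open Cfsg.Agent.CosetCert

/-- Cosets of transpositions whose product is a five-cycle. -/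
def cPts : List ℕ := [0, 2, 1302, 136]

/-- The word of the five-cycle. -/
noncomputable def cW : List ℕ := cPts.flatMap trW

def carry0 : List ℕ := [
    8, 2, 3, 4, 1, 2, 3, 7, 5, 4, 3, 2, 1, 0, 1, 2, 3, 4, 5, 7, 3, 2, 1, 4, 3,
    2, 8, 7, 5, 6, 4, 5, 2, 3, 4, 0, 1, 2, 3, 7, 8, 4, 5, 2, 3, 4, 1, 2, 3, 7,
    6, 5, 4, 3, 2, 1, 0, 1, 2, 3, 4, 5, 6, 7, 3, 2, 1, 4, 3, 2, 5, 4, 8, 7, 3,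
    2, 1, 0, 4, 3, 2, 5, 4, 6, 5, 7, 8, 6, 5, 4, 1, 2, 3, 7, 8, 7, 4, 5, 3, 4,
    1, 2, 3, 7, 6, 5, 4, 3, 2, 1, 0, 1, 2, 3, 4, 5, 6, 7, 3, 2, 1, 4, 3, 5, 4,
    7, 8, 7, 3, 2, 1, 4, 5, 6, 4, 3, 7, 8, 7, 5, 3, 4, 2, 3, 7, 6, 5, 4, 3, 2,
    0, 1, 0, 1, 0, 2, 3, 4, 5, 6, 7, 3, 2, 4, 3, 5, 7, 8, 7, 3, 4, 1, 2, 3, 7,
    8, 4, 3, 7, 5, 2, 3, 4, 1, 2, 3, 7, 8, 4, 5, 2, 3, 4, 1, 2, 3, 7, 6, 5, 4,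
    7, 4, 3, 2, 1, 0, 1, 2, 3, 4, 7, 3, 2, 1, 8, 5, 6, 3, 4, 5, 1, 2, 3, 7, 4,
    3, 2, 1, 0, 1, 2, 3, 4, 7, 3, 2, 1, 7, 8, 2, 3, 4, 1, 2, 3, 7, 5, 4, 3, 2,
    1, 0, 1, 2, 3, 4, 5, 7, 3, 2, 1, 4, 3, 2, 3, 7, 6, 4, 3, 8, 4, 2, 3, 7, 8,
    1, 2, 3, 7, 4, 3, 2, 1, 0, 1, 2, 3, 4, 7, 3, 2, 1, 8, 7, 3, 2, 4, 3, 7, 2,
    3, 4, 1, 2, 3, 7, 8, 5, 4, 2, 3, 7, 6, 5, 4, 3, 2, 1, 0, 1, 2, 3, 4, 5, 6,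
    7, 3, 2, 4, 5, 8, 7, 3, 2, 1, 4, 3, 2, 7, 3, 4, 6, 4, 5, 3, 4, 2, 3, 7, 8,
    3, 4, 5, 2, 3, 4, 1, 2, 3, 7, 6, 5, 4, 3, 2, 1, 0, 1, 2, 3, 4, 5, 6, 7, 3,
    2, 1, 4, 3, 2, 5, 4, 3, 8, 7, 3, 2, 4, 3, 5, 4, 6, 5, 4, 2, 3, 7, 8, 7, 3,
    4, 2, 3, 7, 6, 5, 4, 7, 4, 3, 2, 1, 0, 1, 2, 3, 4, 7, 3, 2, 1, 8, 5, 1, 2,
    3, 7, 4, 3, 2, 1, 0, 1, 2, 3, 4, 7, 3, 2, 1, 3, 7, 8, 6, 4, 5, 1, 2, 3, 7,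
    4, 3, 2, 1, 0, 1, 2, 3, 4, 7, 3, 2, 1, 0, 7, 8, 3, 7, 2, 3, 4, 1, 2, 3, 7,
    5, 4, 3, 2, 1, 0, 1, 2, 3, 4, 5, 7, 3, 2, 1, 4, 3, 2, 6, 2, 3, 7, 8, 1, 2,
    3, 7, 4, 3, 2, 1, 0, 1, 2, 3, 4, 7, 3, 2, 1, 8, 7, 3, 2, 8, 2, 3, 4, 1, 2,
    3, 7, 5, 4, 3, 2, 1, 0, 1, 2, 3, 4, 5, 7, 3, 2, 1, 4, 3, 2, 5, 4, 3, 4, 6,
    2, 3, 4, 1, 2, 3, 7, 5, 4, 3, 2, 1, 0, 1, 2, 3, 4, 5, 7, 3, 2, 1, 4, 3, 2,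
    8, 2, 3, 4, 1, 0, 2, 1, 3, 2]

def carry1 : List ℕ := [
    8, 7, 5, 6, 4, 5, 2, 3, 4, 0, 1, 2, 3, 7, 8, 4, 5, 2, 3, 4, 1, 2, 3, 7, 6,
    5, 4, 3, 2, 1, 0, 1, 2, 3, 4, 5, 6, 7, 3, 2, 1, 4, 3, 2, 5, 4, 8, 7, 3, 2,
    1, 0, 4, 3, 2, 5, 4, 6, 5, 7, 8, 6, 5, 4, 1, 2, 3, 7, 8, 7, 4, 5, 3, 4, 1,
    2, 3, 7, 6, 5, 4, 3, 2, 1, 0, 1, 2, 3, 4, 5, 6, 7, 3, 2, 1, 4, 3, 5, 4, 7,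
    8, 7, 3, 2, 1, 4, 5, 6, 4, 3, 7, 8, 7, 5, 3, 4, 2, 3, 7, 6, 5, 4, 3, 2, 0,
    1, 0, 1, 0, 2, 3, 4, 5, 6, 7, 3, 2, 4, 3, 5, 7, 8, 7, 3, 4, 1, 2, 3, 7, 8,
    4, 3, 7, 5, 2, 3, 4, 1, 2, 3, 7, 8, 4, 5, 2, 3, 4, 1, 2, 3, 7, 6, 5, 4, 7,
    4, 3, 2, 1, 0, 1, 2, 3, 4, 7, 3, 2, 1, 8, 5, 6, 3, 4, 5, 1, 2, 3, 7, 4, 3,
    2, 1, 0, 1, 2, 3, 4, 7, 3, 2, 1, 7, 8, 2, 3, 4, 1, 2, 3, 7, 5, 4, 3, 2, 1,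
    0, 1, 2, 3, 4, 5, 7, 3, 2, 1, 4, 3, 2, 3, 7, 6, 4, 3, 8, 4, 3, 6, 5, 4, 2,
    3, 4, 1, 2, 3, 7, 5, 4, 3, 2, 1, 0, 1, 2, 3, 4, 5, 7, 3, 2, 1, 4, 3, 2, 7,
    8, 7, 2, 3, 4, 1, 2, 3, 7, 5, 4, 3, 2, 1, 0, 1, 2, 3, 4, 5, 7, 3, 2, 1, 4,
    3, 2, 0, 1, 2, 3, 7, 4, 3, 2, 1, 0, 1, 2, 3, 4, 7, 3, 2, 1, 5, 4, 3, 6, 5,
    8, 7, 1, 2, 3, 7, 4, 3, 2, 1, 0, 1, 2, 3, 4, 7, 3, 2, 1, 8, 7, 3, 2, 1, 2,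
    3, 4, 5, 6, 7, 3, 2, 1, 4, 3, 5, 8, 7, 3, 2, 1, 4, 3, 2, 5, 4, 7, 3, 8, 7]

def carry2 : List ℕ := [
    8, 7, 5, 6, 4, 5, 2, 3, 4, 0, 1, 2, 3, 7, 8, 4, 5, 2, 3, 4, 1, 2, 3, 7, 6,
    5, 4, 3, 2, 1, 0, 1, 2, 3, 4, 5, 6, 7, 3, 2, 1, 4, 3, 2, 5, 4, 8, 7, 3, 2,
    1, 0, 4, 3, 2, 5, 4, 6, 5, 7, 8, 6, 5, 4, 1, 2, 3, 7, 8, 7, 4, 5, 3, 4, 1,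
    2, 3, 7, 6, 5, 4, 3, 2, 1, 0, 1, 2, 3, 4, 5, 6, 7, 3, 2, 1, 4, 3, 5, 4, 7,
    8, 7, 3, 2, 1, 4, 5, 6, 4, 3, 7, 8, 7, 5, 3, 4, 2, 3, 7, 6, 5, 4, 3, 2, 0,
    1, 0, 1, 0, 2, 3, 4, 5, 6, 7, 3, 2, 4, 3, 5, 7, 8, 7, 3, 4, 1, 2, 3, 7, 8,
    4, 3, 7, 5, 2, 3, 4, 1, 2, 3, 7, 8, 4, 5, 2, 3, 4, 1, 2, 3, 7, 6, 5, 4, 7,
    4, 3, 2, 1, 0, 1, 2, 3, 4, 7, 3, 2, 1, 8, 5, 6, 3, 4, 5, 1, 2, 3, 7, 4, 3,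
    2, 1, 0, 1, 2, 3, 4, 7, 3, 2, 1, 7, 8, 2, 3, 4, 1, 2, 3, 7, 5, 4, 3, 2, 1,
    0, 1, 2, 3, 4, 5, 7, 3, 2, 1, 4, 3, 2, 3, 7, 6, 4, 3, 8, 3, 7, 2, 3, 4, 1,
    2, 3, 7, 8, 5, 4, 2, 3, 7, 6, 5, 4, 3, 2, 1, 0, 1, 2, 3, 4, 5, 6, 7, 3, 2,
    4, 5, 8, 7, 3, 2, 1, 4, 3, 2, 7, 3, 4, 6, 4, 5, 3, 4, 2, 3, 7, 8, 3, 4, 5,
    2, 3, 4, 1, 2, 3, 7, 6, 5, 4, 3, 2, 1, 0, 1, 2, 3, 4, 5, 6, 7, 3, 2, 1, 4,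
    3, 2, 5, 4, 3, 8, 7, 3, 2, 4, 3, 5, 4, 6, 5, 4, 2, 3, 7, 8, 7, 3, 4, 2, 3,
    7, 6, 5, 4, 7, 4, 3, 2, 1, 0, 1, 2, 3, 4, 7, 3, 2, 1, 8, 5, 1, 2, 3, 7, 4,
    3, 2, 1, 0, 1, 2, 3, 4, 7, 3, 2, 1, 3, 7, 8, 6, 4, 5, 1, 2, 3, 7, 4, 3, 2,
    1, 0, 1, 2, 3, 4, 7, 3, 2, 1, 0, 7, 8, 3, 7, 2, 3, 4, 1, 2, 3, 7, 5, 4, 3,
    2, 1, 0, 1, 2, 3, 4, 5, 7, 3, 2, 1, 4, 3, 2, 6, 2, 3, 7, 8, 1, 2, 3, 7, 4,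
    3, 2, 1, 0, 1, 2, 3, 4, 7, 3, 2, 1, 8, 7, 3, 2, 8, 2, 3, 4, 1, 2, 3, 7, 5,
    4, 3, 2, 1, 0, 1, 2, 3, 4, 5, 7, 3, 2, 1, 4, 3, 2, 5, 8, 7, 8, 7, 5, 6, 4,
    5, 2, 3, 4, 0, 1, 2, 3, 7, 8, 4, 5, 2, 3, 4, 1, 2, 3, 7, 6, 5, 4, 3, 2, 1,
    0, 1, 2, 3, 4, 5, 6, 7, 3, 2, 1, 4, 3, 2, 5, 4, 8, 7, 3, 2, 1, 0, 4, 3, 2,
    5, 4, 6, 5, 7, 8, 6, 5, 4, 1, 2, 3, 7, 8, 7, 4, 5, 3, 4, 1, 2, 3, 7, 6, 5,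
    4, 3, 2, 1, 0, 1, 2, 3, 4, 5, 6, 7, 3, 2, 1, 4, 3, 5, 4, 7, 8, 7, 3, 2, 1,
    4, 5, 6, 4, 3, 7, 8, 7, 5, 3, 4, 2, 3, 7, 6, 5, 4, 3, 2, 0, 1, 0, 1, 0, 2,
    3, 4, 5, 6, 7, 3, 2, 4, 3, 5, 7, 8, 7, 3, 4, 1, 2, 3, 7, 8, 4, 3, 7, 5, 2,
    3, 4, 1, 2, 3, 7, 8, 4, 5, 2, 3, 4, 1, 2, 3, 7, 6, 5, 4, 7, 4, 3, 2, 1, 0,
    1, 2, 3, 4, 7, 3, 2, 1, 8, 5, 6, 3, 4, 5, 1, 2, 3, 7, 4, 3, 2, 1, 0, 1, 2,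
    3, 4, 7, 3, 2, 1, 7, 8, 2, 3, 4, 1, 2, 3, 7, 5, 4, 3, 2, 1, 0, 1, 2, 3, 4,
    5, 7, 3, 2, 1, 4, 3, 2, 3, 7, 6, 4, 3, 8, 4, 3, 4, 5, 6, 5, 7, 1, 2, 3, 7,
    4, 3, 2, 1, 0, 1, 2, 3, 4, 7, 3, 2, 1, 5, 4, 6, 5, 8, 7, 3, 4, 1, 2, 3, 7,
    4, 3, 2, 1, 0, 1, 2, 3, 4, 7, 3, 2, 1, 5, 8, 1, 2, 3, 4, 5, 6, 7, 3, 2, 1,
    4, 3, 2, 5, 8, 7, 3, 2, 1, 0, 4, 3, 2, 1, 5, 4, 7, 3, 8, 7]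

def carry3 : List ℕ := [
    5, 7, 4, 3, 7, 2, 3, 4, 1, 2, 3, 7, 8, 5, 4, 2, 3, 7, 6, 5, 4, 3, 2, 1, 0,
    1, 2, 3, 4, 5, 6, 7, 3, 2, 4, 5, 8, 7, 3, 2, 1, 4, 3, 2, 7, 3, 4, 6, 4, 5,
    3, 4, 2, 3, 7, 8, 3, 4, 5, 2, 3, 4, 1, 2, 3, 7, 6, 5, 4, 3, 2, 1, 0, 1, 2,
    3, 4, 5, 6, 7, 3, 2, 1, 4, 3, 2, 5, 4, 3, 8, 7, 3, 2, 4, 3, 5, 4, 6, 5, 4,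
    2, 3, 7, 8, 7, 3, 4, 2, 3, 7, 6, 5, 4, 7, 4, 3, 2, 1, 0, 1, 2, 3, 4, 7, 3,
    2, 1, 8, 5, 1, 2, 3, 7, 4, 3, 2, 1, 0, 1, 2, 3, 4, 7, 3, 2, 1, 3, 7, 8, 6,
    4, 5, 1, 2, 3, 7, 4, 3, 2, 1, 0, 1, 2, 3, 4, 7, 3, 2, 1, 0, 7, 8, 3, 7, 2,
    3, 4, 1, 2, 3, 7, 5, 4, 3, 2, 1, 0, 1, 2, 3, 4, 5, 7, 3, 2, 1, 4, 3, 2, 6,
    2, 3, 7, 8, 1, 2, 3, 7, 4, 3, 2, 1, 0, 1, 2, 3, 4, 7, 3, 2, 1, 8, 7, 3, 2,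
    8, 2, 3, 4, 1, 2, 3, 7, 5, 4, 3, 2, 1, 0, 1, 2, 3, 4, 5, 7, 3, 2, 1, 4, 3,
    2, 5, 8, 7, 5, 6, 4, 5, 2, 3, 4, 0, 1, 2, 3, 7, 8, 4, 5, 2, 3, 4, 1, 2, 3,
    7, 6, 5, 4, 3, 2, 1, 0, 1, 2, 3, 4, 5, 6, 7, 3, 2, 1, 4, 3, 2, 5, 4, 8, 7,
    3, 2, 1, 0, 4, 3, 2, 5, 4, 6, 5, 7, 8, 6, 5, 4, 1, 2, 3, 7, 8, 7, 4, 5, 3,
    4, 1, 2, 3, 7, 6, 5, 4, 3, 2, 1, 0, 1, 2, 3, 4, 5, 6, 7, 3, 2, 1, 4, 3, 5,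
    4, 7, 8, 7, 3, 2, 1, 4, 5, 6, 4, 3, 7, 8, 7, 5, 3, 4, 2, 3, 7, 6, 5, 4, 3,
    2, 0, 1, 0, 1, 0, 2, 3, 4, 5, 6, 7, 3, 2, 4, 3, 5, 7, 8, 7, 3, 4, 1, 2, 3,
    7, 8, 4, 3, 7, 5, 2, 3, 4, 1, 2, 3, 7, 8, 4, 5, 2, 3, 4, 1, 2, 3, 7, 6, 5,
    4, 7, 4, 3, 2, 1, 0, 1, 2, 3, 4, 7, 3, 2, 1, 8, 5, 6, 3, 4, 5, 1, 2, 3, 7,
    4, 3, 2, 1, 0, 1, 2, 3, 4, 7, 3, 2, 1, 7, 8, 2, 3, 4, 1, 2, 3, 7, 5, 4, 3,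
    2, 1, 0, 1, 2, 3, 4, 5, 7, 3, 2, 1, 4, 3, 2, 3, 7, 6, 4, 3, 8, 4, 2, 3, 7,
    8, 1, 2, 3, 7, 4, 3, 2, 1, 0, 1, 2, 3, 4, 7, 3, 2, 1, 8, 7, 3, 2, 3, 4, 5,
    6, 5, 4, 7, 2, 3, 4, 1, 2, 3, 7, 5, 4, 3, 2, 1, 0, 1, 2, 3, 4, 5, 7, 3, 2,
    1, 4, 3, 2, 6, 5, 8, 2, 3, 4, 1, 2, 3, 7, 5, 4, 3, 2, 1, 0, 1, 2, 3, 4, 5,
    7, 3, 2, 1, 4, 3, 2, 0, 1, 2, 3, 7, 4, 3, 2, 1, 0, 1, 2, 3, 4, 7, 3, 2, 1,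
    5, 4, 3, 6, 5, 4, 8, 7, 1, 2, 3, 7, 4, 3, 2, 1, 0, 1, 2, 3, 4, 7, 3, 2, 1,
    5, 8, 1, 2, 3, 7, 4, 3, 2, 1, 0, 1, 2, 3, 4, 7, 4, 5, 6, 7, 3, 2, 1, 4, 3,
    5, 4, 8, 7, 3, 2, 1, 4, 3, 2, 5, 4, 6, 5, 7, 3, 8, 7]

def carry4 : List ℕ := [
    7, 5, 6, 4, 5, 2, 3, 4, 0, 1, 2, 3, 7, 8, 4, 5, 2, 3, 4, 1, 2, 3, 7, 6, 5,
    4, 3, 2, 1, 0, 1, 2, 3, 4, 5, 6, 7, 3, 2, 1, 4, 3, 2, 5, 4, 8, 7, 3, 2, 1,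
    0, 4, 3, 2, 5, 4, 6, 5, 7, 8, 6, 5, 4, 1, 2, 3, 7, 8, 7, 4, 5, 3, 4, 1, 2,
    3, 7, 6, 5, 4, 3, 2, 1, 0, 1, 2, 3, 4, 5, 6, 7, 3, 2, 1, 4, 3, 5, 4, 7, 8,
    7, 3, 2, 1, 4, 5, 6, 4, 3, 7, 8, 7, 5, 3, 4, 2, 3, 7, 6, 5, 4, 3, 2, 0, 1,
    0, 1, 0, 2, 3, 4, 5, 6, 7, 3, 2, 4, 3, 5, 7, 8, 7, 3, 4, 1, 2, 3, 7, 8, 4,
    3, 7, 5, 2, 3, 4, 1, 2, 3, 7, 8, 4, 5, 2, 3, 4, 1, 2, 3, 7, 6, 5, 4, 7, 4,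
    3, 2, 1, 0, 1, 2, 3, 4, 7, 3, 2, 1, 8, 5, 6, 3, 4, 5, 1, 2, 3, 7, 4, 3, 2,
    1, 0, 1, 2, 3, 4, 7, 3, 2, 1, 7, 8, 2, 3, 4, 1, 2, 3, 7, 5, 4, 3, 2, 1, 0,
    1, 2, 3, 4, 5, 7, 3, 2, 1, 4, 3, 2, 3, 7, 6, 4, 3, 8, 4, 3, 6, 5, 4, 2, 3,
    4, 1, 2, 3, 7, 5, 4, 3, 2, 1, 0, 1, 2, 3, 4, 5, 7, 3, 2, 1, 4, 3, 2, 7, 8,
    7, 2, 3, 4, 1, 2, 3, 7, 5, 4, 3, 2, 1, 0, 1, 2, 3, 4, 5, 7, 3, 2, 1, 4, 3,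
    2, 0, 1, 2, 3, 7, 4, 3, 2, 1, 0, 1, 2, 3, 4, 7, 3, 2, 1, 5, 4, 3, 6, 5, 8,
    7, 1, 2, 3, 7, 4, 3, 2, 1, 0, 1, 2, 3, 4, 7, 3, 2, 1, 8, 7, 3, 2, 1, 2, 3,
    4, 5, 6, 7, 3, 2, 1, 4, 3, 5, 8, 7, 3, 2, 1, 4, 3, 2, 5, 4, 6, 7, 3, 4, 8,
    7]

/-- The carrying words. -/
def carry : List (List ℕ) := [carry0, carry1, carry2, carry3, carry4]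

theorem carry_ok : allBelow (fun a => sameW (xw ++ carry.getD a []) (carry.getD a [] ++ (cW ++ rep a xw))) 5 = true := by
  decide +kernel

theorem cPts_ok : (cPts.all fun c => fixs.contains c) = true := by decide +kernel

theorem cW_pow : sameW (rep 5 cW) [] = true := by decide +kernel

theorem cW_ne : (!(Nat.beq (act cW (fixs.getD 0 0)) (fixs.getD 0 0)) || !(Nat.beq (act cW (fixs.getD 1 0)) (fixs.getD 1 0))) = true := by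
  decide +kernel

end Cfsg.Agent.Fi22Local.P5
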