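import Cfsg.Agent.Lib.Fi22Local.FastData

/-!
Fast evaluation of the action of the presented Fi22 on coset numbers: one packed number per generator.
-/

set_option autoImplicit false
set_option maxRecDepth 100000

namespace Cfsg.Agent.Fi22Local

open Cfsg.Agent.CosetCert
open Cfsg.Agent.CosetData
open Cfsg.Agent.FischerPresented

/-- The packed table of a generator. -/
noncomputable def gsel (x : ℕ) : ℕ :=
  Bool.rec
    (Bool.rec
      (Bool.rec
        (Bool.rec
          (Bool.rec
            (Bool.rec
              (Bool.rec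
                (Bool.rec gtab8 gtab7 (Nat.beq x 7))
                gtab6 (Nat.beq x 6))
              gtab5 (Nat.beq x 5))
            gtab4 (Nat.beq x 4))
          gtab3 (Nat.beq x 3))
        gtab2 (Nat.beq x 2))
      gtab1 (Nat.beq x 1))
    gtab0 (Nat.beq x 0)

/-- The image of a coset number under a generator. -/
noncomputable def fstep (x c : ℕ) : ℕ := Nat.land (Nat.shiftRight (gsel x) (Nat.mul 12 c)) 4095

theorem fstep_table : allBelow (fun x => allBelow (fun c =>
    Nat.beq (fstep x c) (Fi22B.P.T.get (c * 9 + x)) && Nat.blt (fstep x c) 3510) 3510) 9 = true := by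
  decide +kernel

theorem fstep_eq {x c : ℕ} (hx : x < 9) (hc : c < 3510) :
    fstep x c = Fi22B.P.T.get (c * 9 + x) ∧ fstep x c < 3510 := by
  simpa using allBelow_spec (allBelow_spec fstep_table hx) hc

/-- The action of a word, packed table version. -/
noncomputable def actF (w : List ℕ) : ℕ → ℕ := List.rec (fun c => c) (fun x _ r c => r (fstep x c)) w

theorem actF_eq : ∀ {w : List ℕ}, wok w = true → ∀ {c : ℕ}, c < 3510 → actF w c = act w c ∧ actF w c < 3510
  | [], _, _, hc => ⟨rfl, hc⟩
  | x :: w, hw, c, hc => by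
    simp only [wok, List.all_cons, Bool.and_eq_true, Nat.blt_eq] at hw
    obtain ⟨h1, h2⟩ := fstep_eq hw.1 hc
    obtain ⟨h3, h4⟩ := actF_eq hw.2 h2
    refine ⟨?_, h4⟩
    show actF w (fstep x c) = tact Fi22B.P w (Fi22B.P.T.get (c * 9 + x))
    rw [h3, h1]
    rfl

/-- The packed path codes of a block of 256 coset numbers. -/
noncomputable def csel (b : ℕ) : ℕ :=
  Bool.rec
    (Bool.rec
      (Bool.rec
        (Bool.rec ctab13 ctab12 (Nat.beq b 12))
        (Bool.rec ctab11 ctab10 (Nat.beq b 10))
        (Nat.ble b 11))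
      (Bool.rec
        (Bool.rec ctab9 ctab8 (Nat.beq b 8))
        (Bool.rec ctab7 ctab6 (Nat.beq b 6))
        (Nat.ble b 7))
      (Nat.ble b 9))
    (Bool.rec
      (Bool.rec ctab5 ctab4 (Nat.beq b 4))
      (Bool.rec
        (Bool.rec ctab3 ctab2 (Nat.beq b 2))
        (Bool.rec ctab1 ctab0 (Nat.beq b 0))
        (Nat.ble b 1))
      (Nat.ble b 3))
    (Nat.ble b 5)

/-- The packed code of the path to a coset number. -/
noncomputable def codeF (p : ℕ) : ℕ :=
  Nat.mod (Nat.shiftRight (csel (Nat.shiftRight p 8)) (Nat.mul 136 (Nat.land p 255)))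
    87112285931760246646623899502532662132736

theorem codeF_table : allBelow (fun p => Nat.beq (codeF p) ((pathTab.get p).getD 0 0)) 3510 = true := by
  decide +kernel

theorem codeF_eq {p : ℕ} (hp : p < 3510) : codeF p = (pathTab.get p).getD 0 0 :=
  Nat.eq_of_beq_eq_true (allBelow_spec codeF_table hp)

/-- Follow a packed word, first letter first. -/
noncomputable def fwdF (n : ℕ) : ℕ → ℕ → ℕ :=
  Nat.rec (fun _ c => c) (fun _ r code c =>
    Bool.rec (r (Nat.shiftRight code 4) (fstep (Nat.sub (Nat.land code 15) 1) c)) c (Nat.beq code 0)) n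

/-- Follow a packed word, last letter first. -/
noncomputable def bwdF (n : ℕ) : ℕ → ℕ → ℕ :=
  Nat.rec (fun _ c => c) (fun _ r code c =>
    Bool.rec (fstep (Nat.sub (Nat.land code 15) 1) (r (Nat.shiftRight code 4) c)) c (Nat.beq code 0)) n

theorem unpack_succ (k code : ℕ) :
    unpack (k + 1) code = bif Nat.beq code 0 then [] else (code % 16 - 1) :: unpack k (code / 16) := rfl

theorem fwdF_eq : ∀ (n code : ℕ), wok (unpack n code) = true → ∀ {c : ℕ}, c < 3510 →
    fwdF n code c = actF (unpack n code) c
  | 0, _, _, _, _ => rfl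
  | n + 1, code, hw, c, hc => by
    rw [unpack_succ] at hw ⊢
    show Bool.rec (motive := fun _ => ℕ) (fwdF n (code >>> 4) (fstep ((code &&& 15) - 1) c)) c (Nat.beq code 0) = _
    cases hb : Nat.beq code 0
    · rw [hb] at hw
      simp only [cond_false, wok, List.all_cons, Bool.and_eq_true, Nat.blt_eq] at hw ⊢
      rw [Nat.shiftRight_eq_div_pow, show code &&& 15 = code % 16 from Nat.and_two_pow_sub_one_eq_mod code 4,
        show (2 : ℕ) ^ 4 = 16 from rfl, fwdF_eq n _ hw.2 (fstep_eq hw.1 hc).2]
      rfl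
    · rfl

theorem bwdF_eq : ∀ (n code : ℕ), wok (unpack n code) = true → ∀ {c : ℕ}, c < 3510 →
    bwdF n code c = actF (unpack n code).reverse c
  | 0, _, _, _, _ => rfl
  | n + 1, code, hw, c, hc => by
    rw [unpack_succ] at hw ⊢
    show Bool.rec (motive := fun _ => ℕ) (fstep ((code &&& 15) - 1) (bwdF n (code >>> 4) c)) c (Nat.beq code 0) = _
    cases hb : Nat.beq code 0
    · rw [hb] at hw
      simp only [cond_false, wok, List.all_cons, Bool.and_eq_true, Nat.blt_eq] at hw ⊢
      have hwr : wok (unpack n (code / 16)).reverse = true := by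
        simp only [wok, List.all_reverse]; exact hw.2
      rw [Nat.shiftRight_eq_div_pow, show code &&& 15 = code % 16 from Nat.and_two_pow_sub_one_eq_mod code 4,
        show (2 : ℕ) ^ 4 = 16 from rfl, bwdF_eq n _ hw.2 hc, List.reverse_cons]
      obtain ⟨h1, h2⟩ := actF_eq hwr hc
      have hws : wok ((unpack n (code / 16)).reverse ++ [code % 16 - 1]) = true := by
        simp only [wok, List.all_append, List.all_cons, List.all_nil, Bool.and_true, Bool.and_eq_true,
          List.all_reverse, Nat.blt_eq]
        exact ⟨hw.2, hw.1⟩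
      rw [(actF_eq hws hc).1, (fstep_eq hw.1 h2).1, h1]
      unfold act
      rw [tact_append]
      rfl
    · rfl

/-- The action of the transposition of `a` on `b`, packed table version. -/
noncomputable def tappF (a b : ℕ) : ℕ := fwdF 64 (codeF a) (fstep 0 (bwdF 64 (codeF a) b))

theorem tappF_eq {a b : ℕ} (ha : a < 3510) (hb : b < 3510) : tappF a b = tapp a b ∧ tappF a b < 3510 := by
  have hp := allBelow_spec pathW_ok ha
  simp only [Bool.and_eq_true] at hp
  have hw : wok (unpack 64 (codeF a)) = true := by rw [codeF_eq ha]; exact hp.1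
  have hwr : wok (unpack 64 (codeF a)).reverse = true := by
    simp only [wok, List.all_reverse]; exact hw
  obtain ⟨h1, h2⟩ := actF_eq hwr hb
  obtain ⟨h3, h4⟩ := fstep_eq (x := 0) (by norm_num) h2
  obtain ⟨h5, h6⟩ := actF_eq hw h4
  rw [tappF, bwdF_eq 64 _ hw hb, fwdF_eq 64 _ hw h4]
  refine ⟨?_, h6⟩
  rw [h5, h3, h1, tapp, trW, pathW, ← codeF_eq ha]
  unfold act
  rw [tact_append, tact_append]
  rfl

/-- Append the derived points, packed table version. -/
noncomputable def deriveF : List (ℕ × ℕ) → List ℕ → List ℕ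
  | [], l => l
  | (a, b) :: s, l => deriveF s (l ++ [tappF (l.getD a 0) (l.getD b 0)])

theorem deriveF_eq : ∀ (s : List (ℕ × ℕ)) (l : List ℕ), (∀ x ∈ l, x < 3510) → deriveF s l = derive s l
  | [], _, _ => rfl
  | (a, b) :: s, l, hl => by
    obtain ⟨h1, h2⟩ := tappF_eq (getD_lt hl a) (getD_lt hl b)
    rw [deriveF, derive, deriveF_eq s _ fun x hx => ?_, h1]
    rcases List.mem_append.1 hx with hx | hx
    · exact hl x hx
    · rw [List.mem_singleton.1 hx]; exact h2

/-- An invariant of two listed points, packed table version. -/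
noncomputable def pflagF (l : List ℕ) (a b : ℕ) : Bool × Bool :=
  (Nat.beq (tappF (l.getD a 0) (l.getD b 0)) (l.getD b 0), Nat.beq (l.getD a 0) (l.getD b 0))

theorem pflagF_eq {l : List ℕ} (hl : ∀ x ∈ l, x < 3510) (a b : ℕ) : pflagF l a b = pflag l a b := by
  rw [pflagF, pflag, (tappF_eq (getD_lt hl a) (getD_lt hl b)).1]

end Cfsg.Agent.Fi22Local
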