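import Cfsg.Agent.Lib.Fi22Local.Orbits
import Cfsg.Agent.Lib.Fi22Local.Fast

/-!
A stabiliser-chain certificate for the centraliser of an element of order three of the presented Fi22.
-/

set_option autoImplicit false
set_option maxRecDepth 100000

namespace Cfsg.Agent.Fi22Local

open Cfsg.Agent.CosetCert
open Cfsg.Agent.CosetData
open Cfsg.Agent.FischerPresented
open Cfsg.Agent.FischerPresented.Out22 (gpt mir)
open Cfsg.Agent.Fi22Local.Triple (pfix)

/-- One level: generators fixing the earlier pins, the orbit of the pin, derivation steps for refutations,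
and points needing a derived refutation or an outer word. -/
structure Level where
  idx : List ℕ
  grw : List (ℕ × ℕ)
  size : ℕ
  steps : List (ℕ × ℕ)
  exc : List (ℕ × ℕ)
  outer : List (ℕ × List ℕ)

/-- A chain. -/
structure Chain where
  xw : List ℕ
  gens : List (List ℕ)
  pins : List ℕ
  rows : List ℕ
  levels : List Level
  fsteps : List (ℕ × ℕ)
  tgt : List ℕ

namespace Chain

variable (L : Chain)

/-- The element. -/
noncomputable def x : GG := el L.xw

/-- The subgroup generated by the listed generators. -/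
noncomputable def C : Subgroup GG := Subgroup.closure {g | ∃ w ∈ L.gens, g = el w}

/-- A level by number. -/
def lev (i : ℕ) : Level := L.levels.getD i ⟨[], [], 0, [], [], []⟩

/-- The generators of a level. -/
def sw (i : ℕ) : List (List ℕ) := (L.lev i).idx.map fun j => L.gens.getD j []

/-- The orbit bits of a level. -/
noncomputable def obits (i : ℕ) : ℕ := growBits (L.sw i) (L.pins.getD i 0) (L.lev i).grw

/-- The cycle of a point. -/
noncomputable def orb3 (p : ℕ) : List ℕ := [p, actF L.xw p, actF L.xw (actF L.xw p)]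

/-- The seeds of a level with a given image of its pin. -/
noncomputable def seedsAt (i p : ℕ) : List ℕ := ((L.pins.take i).flatMap L.orb3) ++ L.orb3 p

/-- Two points of the seeds are told apart from the base ones. -/
noncomputable def differs (s t : List ℕ) (a b : ℕ) : Bool := !(decide (pflagF s a b = pflagF t a b))

/-- A refutation among the seeds alone. -/
noncomputable def autoWit (i p : ℕ) : Bool :=
  (List.range (3 * i + 3)).any fun b =>
    differs (L.seedsAt i (L.pins.getD i 0)) (L.seedsAt i p) (3 * i) b ||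
    (differs (L.seedsAt i (L.pins.getD i 0)) (L.seedsAt i p) b (3 * i) ||
    (differs (L.seedsAt i (L.pins.getD i 0)) (L.seedsAt i p) (3 * i + 1) b ||
    differs (L.seedsAt i (L.pins.getD i 0)) (L.seedsAt i p) b (3 * i + 1)))

/-- A refutation by derived points. -/
noncomputable def excOK (i p code : ℕ) : Bool :=
  let s := code / 10000
  let a := code / 100 % 100
  let b := code % 100
  Nat.ble s (L.lev i).steps.length && (Nat.blt a (3 * i + 3 + s) && (Nat.blt b (3 * i + 3 + s) &&
    differs (deriveF ((L.lev i).steps.take s) (L.seedsAt i (L.pins.getD i 0)))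
      (deriveF ((L.lev i).steps.take s) (L.seedsAt i p)) a b))

/-- An image realised only by an outer automorphism. -/
noncomputable def outerOK (i p : ℕ) (c : List ℕ) : Bool :=
  Nat.beq (i + 1) L.pins.length && (wok c && allBelow (fun k =>
    Nat.beq ((deriveF L.fsteps (L.seedsAt i p)).getD (L.tgt.getD k 0) 0) (act c (gpt (mir k)))) 9)

/-- The recorded row of a pin is the set of cosets its transposition fixes. -/
noncomputable def rowOK (b : ℕ) : Bool :=
  allBelow (fun p => bit (L.rows.getD b 0) p == Nat.beq (tappF (L.pins.getD b 0) p) p) 3510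

/-- A refutation by fixity of the point and by the rows of the earlier pins. -/
noncomputable def rowWit (i p : ℕ) : Bool :=
  (Nat.beq (actF L.xw p) p != Nat.beq (actF L.xw (L.pins.getD i 0)) (L.pins.getD i 0)) ||
    (List.range i).any fun b => (bit (L.rows.getD b 0) p != bit (L.rows.getD b 0) (L.pins.getD i 0)) ||
      ((bit (L.rows.getD b 0) (actF L.xw p) != bit (L.rows.getD b 0) (actF L.xw (L.pins.getD i 0))) ||
      (bit (L.rows.getD b 0) (actF L.xw (actF L.xw p)) !=
        bit (L.rows.getD b 0) (actF L.xw (actF L.xw (L.pins.getD i 0)))))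

/-- A point is in the orbit or refuted. -/
noncomputable def pointOK (i p : ℕ) : Bool :=
  bit (L.obits i) p || (L.rowWit i p || (L.autoWit i p || (((L.lev i).exc.any fun e => Nat.beq e.1 p && L.excOK i p e.2) ||
    ((L.lev i).outer.any fun e => Nat.beq e.1 p && L.outerOK i p e.2))))

/-- All points of a level. -/
noncomputable def coverOK (i : ℕ) : Bool := allBelow (fun p => L.pointOK i p) 3510

/-- The checks of a level other than the covering. -/
noncomputable def levelOK (i : ℕ) : Bool :=
  ((L.lev i).idx.all fun j => Nat.blt j L.gens.length &&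
    allBelow (fun l => Nat.beq (act (L.gens.getD j []) (L.pins.getD l 0)) (L.pins.getD l 0)) i) &&
  (growOK (L.sw i) (L.pins.getD i 0) (L.lev i).grw (L.lev i).size && stepsOK (L.lev i).steps (3 * i + 3))

/-- The global checks. -/
noncomputable def baseOK : Bool :=
  wok L.xw && (sameW (rep 3 L.xw) [] && ((L.pins.all fun p => Nat.blt p 3510) && (Nat.blt 0 L.pins.length &&
  ((L.gens.all fun w => sameW (L.xw ++ w) (w ++ L.xw)) &&
  (stepsOK L.fsteps (3 * L.pins.length) &&
  allBelow (fun k => Nat.blt (L.tgt.getD k 0) (3 * L.pins.length + L.fsteps.length) &&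
    Nat.beq ((deriveF L.fsteps (L.pins.flatMap L.orb3)).getD (L.tgt.getD k 0) 0) (gpt k)) 9)))))

/-- All conditions. -/
structure Valid : Prop where
  base : L.baseOK = true
  row : ∀ i, i < L.pins.length → L.rowOK i = true
  level : ∀ i, i < L.pins.length → L.levelOK i = true
  cover : ∀ i, i < L.pins.length → L.coverOK i = true

variable {L}

theorem length_flatMap_orb3 : ∀ l : List ℕ, (l.flatMap L.orb3).length = 3 * l.length
  | [] => rfl
  | a :: l => by
    rw [List.flatMap_cons, List.length_append, length_flatMap_orb3 l, List.length_cons]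
    show 3 + _ = _
    omega

section

variable (hL : L.Valid)

include hL

theorem base' :
    wok L.xw = true ∧ sameW (rep 3 L.xw) [] = true ∧ (∀ p ∈ L.pins, p < 3510) ∧ 0 < L.pins.length ∧
    (∀ w ∈ L.gens, sameW (L.xw ++ w) (w ++ L.xw) = true) ∧ stepsOK L.fsteps (3 * L.pins.length) = true ∧
    ∀ k < 9, L.tgt.getD k 0 < 3 * L.pins.length + L.fsteps.length ∧
      (deriveF L.fsteps (L.pins.flatMap L.orb3)).getD (L.tgt.getD k 0) 0 = gpt k := by
  have h := hL.base
  simp only [baseOK, Bool.and_eq_true, List.all_eq_true, Nat.blt_eq] at h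
  obtain ⟨h1, h2, h3, h4, h5, h6, h7⟩ := h
  exact ⟨h1, h2, h3, h4, h5, h6, fun k hk => by simpa using allBelow_spec h7 hk⟩

theorem x_pow : L.x ^ 3 = 1 := by rw [x, ← el_rep, el_eq (base' hL).2.1, el_nil]

theorem gen_commute {w : List ℕ} (hw : w ∈ L.gens) : Commute (el w) L.x := by
  have := el_eq ((base' hL).2.2.2.2.1 w hw)
  rw [el_append, el_append] at this
  exact this

theorem C_le : L.C ≤ Subgroup.centralizer ({L.x} : Set GG) :=
  (Subgroup.closure_le _).2 fun _ ⟨_, hw, e⟩ =>
    Subgroup.mem_centralizer_singleton_iff.2 (e ▸ (gen_commute hL hw).eq)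

theorem pin_lt {i : ℕ} (hi : i < L.pins.length) : L.pins.getD i 0 < 3510 := by
  rw [List.getD_eq_getElem _ _ hi]; exact (base' hL).2.2.1 _ (List.getElem_mem hi)

theorem level' {i : ℕ} (hi : i < L.pins.length) :
    (∀ j ∈ (L.lev i).idx, j < L.gens.length ∧
      ∀ l < i, act (L.gens.getD j []) (L.pins.getD l 0) = L.pins.getD l 0) ∧
    growOK (L.sw i) (L.pins.getD i 0) (L.lev i).grw (L.lev i).size = true ∧
    stepsOK (L.lev i).steps (3 * i + 3) = true := by
  have h := hL.level i hi
  simp only [levelOK, Bool.and_eq_true, List.all_eq_true, Nat.blt_eq] at h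
  obtain ⟨h1, h2, h3⟩ := h
  exact ⟨fun j hj => ⟨(h1 j hj).1, fun l hl => Nat.eq_of_beq_eq_true (allBelow_spec (h1 j hj).2 hl)⟩, h2, h3⟩

theorem mem_pfix_take {g : GG} {i : ℕ} (hi : i ≤ L.pins.length) :
    g ∈ pfix (L.pins.take i) ↔ ∀ l < i, apt g (L.pins.getD l 0) = L.pins.getD l 0 := by
  constructor
  · intro h l hl
    refine h _ ?_
    rw [List.getD_eq_getElem _ _ (lt_of_lt_of_le hl hi), List.mem_take_iff_getElem]
    exact ⟨l, by omega, rfl⟩
  · intro h c hc
    obtain ⟨l, hl, rfl⟩ := List.mem_take_iff_getElem.1 hc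
    have := h l (by omega)
    rwa [List.getD_eq_getElem _ _ (by omega)] at this

theorem sw_mem {i : ℕ} (hi : i < L.pins.length) {w : List ℕ} (hw : w ∈ L.sw i) :
    el w ∈ L.C ⊓ pfix (L.pins.take i) := by
  obtain ⟨hidx, hgrow, -⟩ := level' hL hi
  obtain ⟨j, hj, rfl⟩ := List.mem_map.1 hw
  have hwok : wok (L.gens.getD j []) = true := by
    simp only [growOK, Bool.and_eq_true, List.all_eq_true] at hgrow
    exact hgrow.2.1 _ hw
  obtain ⟨hjl, hfix⟩ := hidx j hj
  refine ⟨Subgroup.subset_closure ⟨_, by rw [List.getD_eq_getElem _ _ hjl]; exact List.getElem_mem hjl, rfl⟩, ?_⟩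
  refine (mem_pfix_take hL hi.le).2 ?_
  exact fun l hl => by rw [apt_el hwok (pin_lt hL (lt_trans hl hi))]; exact hfix l hl

theorem orb3_lt {p : ℕ} (hp : p < 3510) : ∀ q ∈ L.orb3 p, q < 3510 := by
  have hx := (base' hL).1
  have h1 : actF L.xw p < 3510 := (actF_eq hx hp).2
  have h2 : actF L.xw (actF L.xw p) < 3510 := (actF_eq hx h1).2
  simp only [orb3, List.mem_cons, List.not_mem_nil, or_false]
  rintro q (rfl | rfl | rfl) <;> assumption

theorem orb3_map {g : GG} (hg : Commute g L.x) {p : ℕ} (hp : p < 3510) :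
    (L.orb3 p).map (apt g) = L.orb3 (apt g p) := by
  have hx := (base' hL).1
  have hstep : ∀ {q}, q < 3510 → apt g (actF L.xw q) = actF L.xw (apt g q) := fun {q} hq => by
    rw [(actF_eq hx hq).1, (actF_eq hx (apt_lt g hq)).1, ← apt_el hx hq, ← apt_el hx (apt_lt g hq),
      ← apt_mul, ← apt_mul]
    exact congrArg (fun u => apt u q) hg.eq
  have h1 : actF L.xw p < 3510 := (actF_eq hx hp).2
  simp only [orb3, List.map_cons, List.map_nil, hstep hp, hstep h1]

theorem seeds_map {g : GG} (hg : Commute g L.x) {i : ℕ} (hi : i < L.pins.length)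
    (hfix : g ∈ pfix (L.pins.take i)) :
    (∀ q ∈ L.seedsAt i (L.pins.getD i 0), q < 3510) ∧
      L.seedsAt i (apt g (L.pins.getD i 0)) = (L.seedsAt i (L.pins.getD i 0)).map (apt g) := by
  refine ⟨fun q hq => ?_, ?_⟩
  · rcases List.mem_append.1 hq with hq | hq
    · obtain ⟨c, hc, hqc⟩ := List.mem_flatMap.1 hq
      exact orb3_lt hL ((base' hL).2.2.1 c (List.mem_of_mem_take hc)) q hqc
    · exact orb3_lt hL (pin_lt hL hi) q hq
  · rw [seedsAt, seedsAt, List.map_append, orb3_map hL hg (pin_lt hL hi), List.map_flatMap]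
    refine congrArg (· ++ _) ?_
    have : ∀ l : List ℕ, (∀ c ∈ l, c < 3510 ∧ apt g c = c) →
        l.flatMap L.orb3 = l.flatMap fun c => (L.orb3 c).map (apt g) := by
      intro l
      induction l with
      | nil => intro _; rfl
      | cons a l ih =>
        intro h
        rw [List.flatMap_cons, List.flatMap_cons, ih (fun c hc => h c (List.mem_cons_of_mem _ hc)),
          orb3_map hL hg (h a List.mem_cons_self).1, (h a List.mem_cons_self).2]
    exact this _ fun c hc => ⟨(base' hL).2.2.1 c (List.mem_of_mem_take hc), hfix c hc⟩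

theorem seedsAt_length (i p : ℕ) (hi : i ≤ L.pins.length) : (L.seedsAt i p).length = 3 * i + 3 := by
  rw [seedsAt, List.length_append, length_flatMap_orb3, List.length_take, Nat.min_eq_left hi]
  rfl

theorem differs_false {g : GG} {l : List ℕ} (hl : ∀ q ∈ l, q < 3510) {a b : ℕ} (ha : a < l.length)
    (hb : b < l.length) : differs l (l.map (apt g)) a b = false := by
  have hl' : ∀ q ∈ l.map (apt g), q < 3510 := by
    intro q hq
    obtain ⟨q', hq', rfl⟩ := List.mem_map.1 hq
    exact apt_lt g (hl q' hq')
  simp [differs, pflagF_eq hl, pflagF_eq hl', pflag_map g hl ha hb]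

theorem seeds_last :
    L.seedsAt (L.pins.length - 1) (L.pins.getD (L.pins.length - 1) 0) = L.pins.flatMap L.orb3 := by
  obtain ⟨-, -, -, hn, -⟩ := base' hL
  set i := L.pins.length - 1 with hi
  have hlt : i < L.pins.length := by omega
  rw [seedsAt, List.getD_eq_getElem _ _ hlt]
  conv_rhs => rw [← List.take_length (l := L.pins), show L.pins.length = i + 1 by omega,
    List.take_succ, List.getElem?_eq_getElem hlt, List.flatMap_append]
  simp

theorem apt_gpt {g : GG} (hg : Commute g L.x) (hfix : g ∈ pfix (L.pins.take (L.pins.length - 1))) {k : ℕ}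
    (hk : k < 9) : apt g (gpt k) =
      (derive L.fsteps (L.seedsAt (L.pins.length - 1) (apt g (L.pins.getD (L.pins.length - 1) 0)))).getD
        (L.tgt.getD k 0) 0 := by
  obtain ⟨-, -, -, hn, -, hs, ht⟩ := base' hL
  obtain ⟨hlt, hmap⟩ := seeds_map hL hg (i := L.pins.length - 1) (by omega) hfix
  have hlen : (L.seedsAt (L.pins.length - 1) (L.pins.getD (L.pins.length - 1) 0)).length = 3 * L.pins.length := by
    rw [seeds_last hL, length_flatMap_orb3]
  have hd := (derive_take g (hlen ▸ hs) hlt L.fsteps.length).2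
  rw [List.take_length] at hd
  obtain ⟨h1, h2⟩ := ht k hk
  have hlts : ∀ q ∈ L.pins.flatMap L.orb3, q < 3510 := seeds_last hL ▸ hlt
  rw [deriveF_eq _ _ hlts] at h2
  rw [hmap, hd, seeds_last hL, List.getD_eq_getElem?_getD, List.getElem?_map]
  have hlt' : L.tgt.getD k 0 < (derive L.fsteps (L.pins.flatMap L.orb3)).length := by
    rw [derive_length, length_flatMap_orb3]; exact h1
  rw [List.getD_eq_getElem _ _ hlt'] at h2
  rw [List.getElem?_eq_getElem hlt', h2]
  rfl

theorem cover_spec {i : ℕ} (hi : i < L.pins.length) {g : GG} (hg : Commute g L.x)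
    (hfix : g ∈ pfix (L.pins.take i)) : bit (L.obits i) (apt g (L.pins.getD i 0)) = true := by
  obtain ⟨hlt, hmap⟩ := seeds_map hL hg hi hfix
  have hlen := seedsAt_length hL i (L.pins.getD i 0) hi.le
  have hp := allBelow_spec (hL.cover i hi) (apt_lt g (pin_lt hL hi))
  simp only [pointOK, Bool.or_eq_true] at hp
  rcases hp with hp | hp | hp | hp | hp
  · exact hp
  · exfalso
    have hx := (base' hL).1
    have hpl := pin_lt hL hi
    have hact : ∀ {q}, q < 3510 → actF L.xw q < 3510 ∧ apt g (actF L.xw q) = actF L.xw (apt g q) :=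
        fun {q} hq => by
      refine ⟨(actF_eq hx hq).2, ?_⟩
      rw [(actF_eq hx hq).1, (actF_eq hx (apt_lt g hq)).1, ← apt_el hx hq, ← apt_el hx (apt_lt g hq),
        ← apt_mul, ← apt_mul]
      exact congrArg (fun u => apt u q) hg.eq
    have hrow : ∀ b < i, ∀ q < 3510, bit (L.rows.getD b 0) (apt g q) = bit (L.rows.getD b 0) q := by
      intro b hb q hq
      have hbl := pin_lt hL (lt_trans hb hi)
      have hgb : apt g (L.pins.getD b 0) = L.pins.getD b 0 := (mem_pfix_take hL hi.le).1 hfix b hb
      have e1 := allBelow_spec (hL.row b (lt_trans hb hi)) hq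
      have e2 := allBelow_spec (hL.row b (lt_trans hb hi)) (apt_lt g hq)
      rw [beq_iff_eq] at e1 e2
      rw [e1, e2, (tappF_eq hbl hq).1, (tappF_eq hbl (apt_lt g hq)).1, Bool.eq_iff_iff, Nat.beq_eq, Nat.beq_eq]
      conv_lhs => rw [← hgb, ← apt_tapp g hbl hq]
      exact ⟨apt_injective g, congrArg _⟩
    simp only [rowWit, Bool.or_eq_true, List.any_eq_true, List.mem_range, bne_iff_ne, ne_eq] at hp
    rcases hp with hp | ⟨b, hb, hp | hp | hp⟩
    · refine hp ?_
      rw [← (hact hpl).2, Bool.eq_iff_iff, Nat.beq_eq, Nat.beq_eq]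
      exact ⟨apt_injective g, congrArg _⟩
    · exact hp (hrow b hb _ hpl)
    · exact hp (by rw [← (hact hpl).2]; exact hrow b hb _ (hact hpl).1)
    · exact hp (by
        rw [← (hact hpl).2, ← (hact (hact hpl).1).2]
        exact hrow b hb _ (hact (hact hpl).1).1)
  · exfalso
    simp only [autoWit, List.any_eq_true, List.mem_range, Bool.or_eq_true] at hp
    obtain ⟨b, hb, hd⟩ := hp
    rw [hmap] at hd
    have hb' : b < (L.seedsAt i (L.pins.getD i 0)).length := by omega
    have h0 : 3 * i < (L.seedsAt i (L.pins.getD i 0)).length := by omega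
    have h1 : 3 * i + 1 < (L.seedsAt i (L.pins.getD i 0)).length := by omega
    rw [differs_false hL hlt h0 hb', differs_false hL hlt hb' h0, differs_false hL hlt h1 hb',
      differs_false hL hlt hb' h1] at hd
    simp at hd
  · exfalso
    simp only [List.any_eq_true, Bool.and_eq_true] at hp
    obtain ⟨e, -, -, he⟩ := hp
    simp only [excOK, Bool.and_eq_true, Nat.ble_eq, Nat.blt_eq] at he
    obtain ⟨hs, ha, hb, hd⟩ := he
    obtain ⟨hl2, hm2⟩ := derive_take g (hlen ▸ (level' hL hi).2.2) hlt (e.2 / 10000)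
    have hlen2 : (derive ((L.lev i).steps.take (e.2 / 10000)) (L.seedsAt i (L.pins.getD i 0))).length =
        3 * i + 3 + e.2 / 10000 := by
      rw [derive_length, hlen, List.length_take, Nat.min_eq_left hs]
    rw [hmap, deriveF_eq _ _ hlt, deriveF_eq _ _ (fun q hq => by
        obtain ⟨q', hq', rfl⟩ := List.mem_map.1 hq
        exact apt_lt g (hlt q' hq')), hm2, differs_false hL hl2 (hlen2 ▸ ha) (hlen2 ▸ hb)] at hd
    simp at hd
  · exfalso
    simp only [List.any_eq_true, Bool.and_eq_true] at hp
    obtain ⟨e, -, -, he⟩ := hp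
    simp only [outerOK, Bool.and_eq_true, Nat.beq_eq] at he
    obtain ⟨hlast, hw, hall⟩ := he
    refine not_outer (g := g) hw fun k hk => ?_
    have := Nat.eq_of_beq_eq_true (allBelow_spec hall hk)
    have hi' : i = L.pins.length - 1 := by omega
    rw [hmap, deriveF_eq _ _ (fun q hq => by
        obtain ⟨q', hq', rfl⟩ := List.mem_map.1 hq
        exact apt_lt g (hlt q' hq')), ← hmap] at this
    rw [apt_gpt hL hg (hi' ▸ hfix) hk, ← hi', this]

theorem mem_C_aux (d : ℕ) : ∀ (i : ℕ), i + d = L.pins.length → ∀ g : GG, Commute g L.x →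
    g ∈ pfix (L.pins.take i) → g ∈ L.C := by
  induction d with
  | zero =>
    intro i hi g hg hfix
    obtain ⟨-, -, -, hn, -⟩ := base' hL
    rw [Nat.add_zero] at hi
    subst hi
    rw [List.take_length] at hfix
    have h1 : g = 1 := eq_of_gpts fun k hk => by
      have hp : ∀ h : GG, h ∈ pfix L.pins → h ∈ pfix (L.pins.take (L.pins.length - 1)) :=
        fun h hh c hc => hh c (List.mem_of_mem_take hc)
      have hmem : L.pins.getD (L.pins.length - 1) 0 ∈ L.pins := by
        rw [List.getD_eq_getElem _ _ (by omega)]; exact List.getElem_mem _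
      rw [apt_gpt hL hg (hp g hfix) hk, apt_gpt hL (Commute.one_left _) (hp 1 (pfix L.pins).one_mem) hk,
        hfix _ hmem, apt_one]
    rw [h1]
    exact L.C.one_mem
  | succ d ih =>
    intro i hi g hg hfix
    have hlt : i < L.pins.length := by omega
    obtain ⟨h, hh, hhp⟩ := (grow_facts (level' hL hlt).2.1 fun w hw => sw_mem hL hlt hw).1 _
      (cover_spec hL hlt hg hfix)
    have hhx : Commute h L.x := Subgroup.mem_centralizer_singleton_iff.1 (C_le hL hh.1)
    have := ih (i + 1) (by omega) (h⁻¹ * g) (hhx.inv_left.mul_left hg) (by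
      rw [mem_pfix_take hL (by omega)]
      intro l hl
      rw [apt_mul]
      rcases Nat.lt_succ_iff_lt_or_eq.1 hl with hl | rfl
      · rw [(mem_pfix_take hL hlt.le).1 hfix l hl]
        exact ((mem_pfix_take hL hlt.le).1 ((pfix _).inv_mem hh.2) l hl)
      · rw [← hhp, ← apt_mul, inv_mul_cancel, apt_one])
    have := L.C.mul_mem hh.1 this
    rwa [mul_inv_cancel_left] at this

theorem mem_C {g : GG} (hg : Commute g L.x) : g ∈ L.C :=
  mem_C_aux hL L.pins.length 0 (Nat.zero_add _) g hg (fun c hc => absurd hc List.not_mem_nil)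

theorem centralizer_eq : Subgroup.centralizer ({L.x} : Set GG) = L.C :=
  le_antisymm (fun _ hg => mem_C hL (Subgroup.mem_centralizer_singleton_iff.1 hg)) (C_le hL)

theorem card_level (d : ℕ) : ∀ i, i + d = L.pins.length →
    Nat.card (L.C ⊓ pfix (L.pins.take i) : Subgroup GG) =
      (((List.range d).map fun k => (L.lev (i + k)).size).prod) := by
  induction d with
  | zero =>
    intro i hi
    rw [Nat.add_zero] at hi
    subst hi
    rw [List.take_length, List.range_zero, List.map_nil, List.prod_nil]
    have : L.C ⊓ pfix L.pins = ⊥ := by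
      rw [eq_bot_iff]
      rintro g ⟨hgC, hgp⟩
      obtain ⟨-, -, -, hn, -⟩ := base' hL
      have hgx : Commute g L.x := Subgroup.mem_centralizer_singleton_iff.1 (C_le hL hgC)
      rw [Subgroup.mem_bot]
      refine eq_of_gpts fun k hk => ?_
      have hp : ∀ h : GG, h ∈ pfix L.pins → h ∈ pfix (L.pins.take (L.pins.length - 1)) :=
        fun h hh c hc => hh c (List.mem_of_mem_take hc)
      have hmem : L.pins.getD (L.pins.length - 1) 0 ∈ L.pins := by
        rw [List.getD_eq_getElem _ _ (by omega)]; exact List.getElem_mem _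
      rw [apt_gpt hL hgx (hp g hgp) hk, apt_gpt hL (Commute.one_left _) (hp 1 (pfix L.pins).one_mem) hk,
        hgp _ hmem, apt_one]
    rw [this, Subgroup.card_bot]
  | succ d ih =>
    intro i hi
    have hlt : i < L.pins.length := by omega
    rw [card_step (level' hL hlt).2.1 (fun w hw => sw_mem hL hlt hw)
      (fun g hg => cover_spec hL hlt (Subgroup.mem_centralizer_singleton_iff.1 (C_le hL hg.1)) hg.2)]
    rw [List.range_succ_eq_map, List.map_cons, List.prod_cons, List.map_map]
    refine congrArg₂ (· * ·) rfl ?_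
    have hT : (L.C ⊓ pfix (L.pins.take i)) ⊓ pfix [L.pins.getD i 0] = L.C ⊓ pfix (L.pins.take (i + 1)) := by
      ext g
      rw [Subgroup.mem_inf, Subgroup.mem_inf, Subgroup.mem_inf, mem_pfix_take hL hlt.le,
        mem_pfix_take hL (by omega)]
      constructor
      · rintro ⟨⟨h1, h2⟩, h3⟩
        refine ⟨h1, fun l hl => ?_⟩
        rcases Nat.lt_succ_iff_lt_or_eq.1 hl with hl | rfl
        · exact h2 l hl
        · exact h3 _ List.mem_cons_self
      · rintro ⟨h1, h2⟩
        exact ⟨⟨h1, fun l hl => h2 l (by omega)⟩, fun c hc => by rw [List.mem_singleton.1 hc]; exact h2 i (by omega)⟩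
    rw [hT, ih (i + 1) (by omega)]
    refine congrArg List.prod (List.map_congr_left fun k _ => ?_)
    show (L.lev (i + 1 + k)).size = (L.lev (i + (k + 1))).size
    rw [Nat.add_assoc, Nat.add_comm 1 k]

theorem card_C : Nat.card L.C = ((List.range L.pins.length).map fun k => (L.lev k).size).prod := by
  have := card_level hL L.pins.length 0 (Nat.zero_add _)
  rw [List.take_zero, inf_eq_left.2 (fun g _ => show g ∈ pfix [] from fun c hc => absurd hc List.not_mem_nil)]
    at this
  simpa using this

end

end Chain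

end Cfsg.Agent.Fi22Local
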