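import Cfsg.Agent.Lib.Fi22Local.Basic

/-!
A certificate listing every element of the presented Fi22 that conjugates an element `x` to a given power
and fixes given fixed cosets of `x`.
-/

set_option autoImplicit false
set_option maxRecDepth 100000

namespace Cfsg.Agent.Fi22Local

open Cfsg.Agent.CosetCert
open Cfsg.Agent.CosetData
open Cfsg.Agent.FischerPresented
open Cfsg.Agent.FischerPresented.Out22 (gpt mir)

/-- Data: a word, its cycles (the first one starts at the chosen point), fixed cosets, pinned cosets,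
derivation steps reaching the generators' cosets, and the verdicts. -/
structure Rigid where
  m : ℕ
  xw : List ℕ
  orbs : List (List ℕ)
  fixs : List ℕ
  ch : List ℕ
  steps : List (ℕ × ℕ)
  tgt : List ℕ
  wit : List (List ℕ)
  inn : List (ℕ × ℕ × List ℕ)
  out : List (ℕ × ℕ × List ℕ)

namespace Rigid

variable (R : Rigid)

/-- The element. -/
noncomputable def x : GG := el R.xw

/-- The seeds. -/
def seeds : List ℕ :=
  (List.range R.m).map (fun i => (R.orbs.getD 0 []).getD (i % R.m) 0) ++ R.ch

/-- The images of the seeds. -/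
def seedIm (k r : ℕ) : List ℕ :=
  (List.range R.m).map (fun i => (R.orbs.getD r []).getD ((k * i) % R.m) 0) ++ R.ch

/-- All cosets listed in the data. -/
def covMask : ℕ := (R.fixs ++ R.orbs.flatten).foldl insBit 0

/-- The checks independent of the exponent. -/
noncomputable def baseOK : Bool :=
  Nat.blt 1 R.m && (wok R.xw && (sameW (rep R.m R.xw) [] &&
    ((R.orbs.all fun o => Nat.beq o.length R.m &&
      (allBelow (fun i => Nat.blt (o.getD i 0) 3510 &&
        Nat.beq (act R.xw (o.getD i 0)) (o.getD ((i + 1) % R.m) 0)) R.m)) &&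
    ((R.fixs.all fun p => Nat.blt p 3510 && Nat.beq (act R.xw p) p) &&
    (Nat.blt 0 R.orbs.length && (!(Nat.beq ((R.orbs.getD 0 []).getD 1 0) ((R.orbs.getD 0 []).getD 0 0)) &&
    (allBelow (fun p => bit R.covMask p) 3510 &&
    ((R.ch.all fun c => R.fixs.contains c) &&
    (stepsOK R.steps (R.m + R.ch.length) &&
    (Nat.beq R.tgt.length 9 && allBelow (fun i => Nat.blt (R.tgt.getD i 0) (R.m + R.ch.length + R.steps.length) &&
      Nat.beq ((derive R.steps R.seeds).getD (R.tgt.getD i 0) 0) (gpt i)) 9))))))))))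

/-- A refutation by an invariant. -/
noncomputable def witOK (k r code : ℕ) : Bool :=
  let s := code / 10000
  let a := code / 100 % 100
  let b := code % 100 - 1
  Nat.ble s R.steps.length && (Nat.blt a (R.m + R.ch.length + s) && (Nat.blt b (R.m + R.ch.length + s) &&
    !(decide (pflag (derive (R.steps.take s) R.seeds) a b =
      pflag (derive (R.steps.take s) (R.seedIm k r)) a b))))

/-- A realised case. -/
noncomputable def innOK (e : ℕ × ℕ × List ℕ) : Bool :=
  wok e.2.2 && allBelow (fun i => Nat.beq (act e.2.2 (R.seeds.getD i 0)) ((R.seedIm e.1 e.2.1).getD i 0))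
    (R.m + R.ch.length)

/-- An outer case. -/
noncomputable def outOK (e : ℕ × ℕ × List ℕ) : Bool :=
  wok e.2.2 && allBelow (fun i => Nat.beq ((derive R.steps (R.seedIm e.1 e.2.1)).getD (R.tgt.getD i 0) 0)
    (act e.2.2 (gpt (mir i)))) 9

/-- A single case. -/
noncomputable def caseOK (k r : ℕ) : Bool :=
  let code := (R.wit.getD (k - 1) []).getD r 0
  bif Nat.beq code 0 then (R.inn.any fun e => Nat.beq e.1 k && Nat.beq e.2.1 r) ||
      (R.out.any fun e => Nat.beq e.1 k && Nat.beq e.2.1 r)
  else R.witOK k r code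

/-- All cases for one exponent. -/
noncomputable def powerOK (k : ℕ) : Bool := allBelow (fun r => R.caseOK k r) R.orbs.length

/-- The whole certificate. -/
structure Valid : Prop where
  base : R.baseOK = true
  inns : R.inn.all R.innOK = true
  outs : R.out.all R.outOK = true
  powers : ∀ k, 0 < k → k < R.m → R.powerOK k = true

theorem bit_fold : ∀ (l : List ℕ) (m i : ℕ), bit (l.foldl insBit m) i = true → i ∈ l ∨ bit m i = true
  | [], m, i, h => Or.inr h
  | a :: l, m, i, h => by
    rcases bit_fold l _ _ h with h | h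
    · exact Or.inl (List.mem_cons_of_mem _ h)
    · rcases bit_insBit h with h | h
      · exact Or.inl (h ▸ List.mem_cons_self)
      · exact Or.inr h

section

variable {R} (hR : R.Valid)

include hR

theorem base' :
    1 < R.m ∧ wok R.xw = true ∧ sameW (rep R.m R.xw) [] = true ∧
    (∀ o ∈ R.orbs, o.length = R.m ∧ ∀ i < R.m, o.getD i 0 < 3510 ∧
      act R.xw (o.getD i 0) = o.getD ((i + 1) % R.m) 0) ∧
    (∀ p ∈ R.fixs, p < 3510 ∧ act R.xw p = p) ∧ 0 < R.orbs.length ∧
    (R.orbs.getD 0 []).getD 1 0 ≠ (R.orbs.getD 0 []).getD 0 0 ∧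
    (∀ p < 3510, p ∈ R.fixs ∨ ∃ o ∈ R.orbs, p ∈ o) ∧ (∀ c ∈ R.ch, c ∈ R.fixs) ∧
    stepsOK R.steps (R.m + R.ch.length) = true ∧
    (∀ i < 9, R.tgt.getD i 0 < R.m + R.ch.length + R.steps.length ∧
      (derive R.steps R.seeds).getD (R.tgt.getD i 0) 0 = gpt i) := by
  have h := hR.base
  simp only [baseOK, Bool.and_eq_true, List.all_eq_true, Nat.blt_eq, Nat.beq_eq, Bool.not_eq_true',
    List.contains_iff_mem] at h
  obtain ⟨h1, h2, h3, h4, h5, h6, h7, h8, h9, h10, h11, h12⟩ := h
  refine ⟨h1, h2, h3, fun o ho => ⟨(h4 o ho).1, fun i hi => ?_⟩, h5, h6, ?_, fun p hp => ?_, h9, h10,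
    fun i hi => ?_⟩
  · simpa using allBelow_spec (h4 o ho).2 hi
  · intro he
    have := Nat.beq_refl ((R.orbs.getD 0 []).getD 0 0)
    rw [he] at h7
    simp [this] at h7
  · have := allBelow_spec h8 hp
    rcases bit_fold _ _ _ this with h | h
    · rcases List.mem_append.1 h with h | h
      · exact Or.inl h
      · exact Or.inr (List.mem_flatten.1 h)
    · rw [bit_zero] at h; exact absurd h Bool.false_ne_true
  · simpa using allBelow_spec h12 hi

theorem x_pow_m : R.x ^ R.m = 1 := by
  rw [x, ← el_rep, el_eq (base' hR).2.2.1, el_nil]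

theorem apt_x_pow {o : List ℕ} (ho : o ∈ R.orbs) {i : ℕ} (hi : i < R.m) :
    ∀ n, apt (R.x ^ n) (o.getD i 0) = o.getD ((i + n) % R.m) 0 := by
  have hm : 0 < R.m := lt_trans one_pos (base' hR).1
  intro n
  induction n with
  | zero => rw [pow_zero, apt_one, Nat.add_zero, Nat.mod_eq_of_lt hi]
  | succ n ih =>
    obtain ⟨h1, h2⟩ := ((base' hR).2.2.2.1 o ho).2 _ (Nat.mod_lt (i + n) hm)
    rw [pow_succ', apt_mul, ih, x, apt_el (base' hR).2.1 h1, h2, Nat.mod_add_mod, Nat.add_assoc]

theorem apt_x_fix {p : ℕ} (hp : p ∈ R.fixs) : apt R.x p = p := by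
  obtain ⟨h1, h2⟩ := (base' hR).2.2.2.2.1 p hp
  rw [x, apt_el (base' hR).2.1 h1, h2]

theorem seeds_lt : ∀ p ∈ R.seeds, p < 3510 := by
  obtain ⟨hm, -, -, ho, hf, h0, -, -, hc, -⟩ := base' hR
  intro p hp
  rcases List.mem_append.1 hp with hp | hp
  · obtain ⟨i, -, rfl⟩ := List.mem_map.1 hp
    rw [List.getD_eq_getElem _ _ h0]
    exact ((ho _ (List.getElem_mem h0)).2 _ (Nat.mod_lt _ (lt_trans one_pos hm))).1
  · exact (hf p (hc p hp)).1

theorem seeds_length : R.seeds.length = R.m + R.ch.length := by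
  rw [seeds, List.length_append, List.length_map, List.length_range]

theorem seeds_map {g : GG} {k r : ℕ} (hr : r < R.orbs.length) (hg : g * R.x = R.x ^ k * g)
    (hq : apt g ((R.orbs.getD 0 []).getD 0 0) = (R.orbs.getD r []).getD 0 0)
    (hch : ∀ c ∈ R.ch, apt g c = c) : R.seedIm k r = R.seeds.map (apt g) := by
  obtain ⟨hm, -, -, -, -, h0, -⟩ := base' hR
  have hm0 : 0 < R.m := lt_trans one_pos hm
  have ho : R.orbs.getD r [] ∈ R.orbs := by rw [List.getD_eq_getElem _ _ hr]; exact List.getElem_mem hr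
  have ho0 : R.orbs.getD 0 [] ∈ R.orbs := by rw [List.getD_eq_getElem _ _ h0]; exact List.getElem_mem h0
  rw [seeds, seedIm, List.map_append, List.map_map]
  refine congrArg₂ (· ++ ·) (List.map_congr_left fun i _ => ?_) ?_
  · have hcomm : ∀ i : ℕ, g * R.x ^ i = R.x ^ (k * i) * g := by
      intro i
      induction i with
      | zero => simp
      | succ i ih => rw [pow_succ, ← mul_assoc, ih, mul_assoc, hg, ← mul_assoc, ← pow_add, Nat.mul_succ]
    have e1 := apt_x_pow hR ho0 hm0 i
    have e2 := apt_x_pow hR ho hm0 (k * i)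
    rw [Nat.zero_add] at e1 e2
    show (R.orbs.getD r []).getD ((k * i) % R.m) 0 = apt g ((R.orbs.getD 0 []).getD (i % R.m) 0)
    rw [← e1, ← apt_mul, hcomm, apt_mul, hq, e2]
  · conv_lhs => rw [← List.map_id R.ch]
    exact List.map_congr_left fun c hc => (hch c hc).symm

theorem derive_seeds (g : GG) (n : ℕ) :
    (∀ p ∈ derive (R.steps.take n) R.seeds, p < 3510) ∧
      derive (R.steps.take n) (R.seeds.map (apt g)) = (derive (R.steps.take n) R.seeds).map (apt g) := by
  have hs := (base' hR).2.2.2.2.2.2.2.2.2.1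
  rw [← seeds_length hR] at hs
  exact derive_take g hs (seeds_lt hR) n

theorem apt_tgt {g : GG} {k r : ℕ} (h : R.seedIm k r = R.seeds.map (apt g)) {i : ℕ} (hi : i < 9) :
    apt g (gpt i) = (derive R.steps (R.seedIm k r)).getD (R.tgt.getD i 0) 0 := by
  obtain ⟨ht, he⟩ := (base' hR).2.2.2.2.2.2.2.2.2.2 i hi
  have h2 := (derive_seeds hR g R.steps.length).2
  rw [List.take_length] at h2
  rw [h, h2, List.getD_eq_getElem?_getD, List.getElem?_map]
  rw [List.getD_eq_getElem?_getD] at he
  have hlen : R.tgt.getD i 0 < (derive R.steps R.seeds).length := by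
    rw [derive_length, seeds_length hR]; omega
  rw [List.getElem?_eq_getElem hlen] at he ⊢
  exact congrArg (apt g) he.symm

/-- Every element conjugating `x` to a power and fixing the pinned cosets is listed up to a power of `x`. -/
theorem classify {g : GG} {k : ℕ} (hk0 : 0 < k) (hk : k < R.m) (hg : g * R.x = R.x ^ k * g)
    (hch : ∀ c ∈ R.ch, apt g c = c) :
    ∃ e ∈ R.inn, e.1 = k ∧ ∃ j : ℕ, g = R.x ^ j * el e.2.2 := by
  obtain ⟨hm, hxw, -, ho, hf, h0, hne, hcov, hc, hs, ht⟩ := base' hR
  have hm0 : 0 < R.m := lt_trans one_pos hm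
  set o0 := R.orbs.getD 0 []
  have ho0 : o0 ∈ R.orbs := by rw [show o0 = R.orbs[0] from List.getD_eq_getElem _ _ h0]; exact List.getElem_mem h0
  have hqlt : o0.getD 0 0 < 3510 := ((ho o0 ho0).2 0 hm0).1
  rcases hcov (apt g (o0.getD 0 0)) (apt_lt g hqlt) with hfx | ⟨o, hoo, hmem⟩
  · exfalso
    have hfk : ∀ n : ℕ, apt (R.x ^ n) (apt g (o0.getD 0 0)) = apt g (o0.getD 0 0) := by
      intro n
      induction n with
      | zero => rw [pow_zero, apt_one]
      | succ n ih => rw [pow_succ, apt_mul, apt_x_fix hR hfx, ih]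
    have h1 := hfk k
    rw [← apt_mul, ← hg, apt_mul] at h1
    have h2 := apt_x_pow hR ho0 hm0 1
    rw [pow_one, Nat.zero_add, Nat.mod_eq_of_lt hm] at h2
    exact hne (by rw [← h2]; exact apt_injective g h1)
  obtain ⟨j, hj, hjo⟩ := List.getElem_of_mem hmem
  have hjm : j < R.m := (ho o hoo).1 ▸ hj
  obtain ⟨r, hr, hro⟩ := List.getElem_of_mem hoo
  set g' := R.x ^ (R.m - j) * g with hg'
  have hj2 : apt g' (o0.getD 0 0) = o.getD 0 0 := by
    rw [hg', apt_mul, show apt g (o0.getD 0 0) = o.getD j 0 by rw [List.getD_eq_getElem _ _ hj]; exact hjo.symm,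
      apt_x_pow hR hoo hjm, Nat.add_sub_cancel' hjm.le, Nat.mod_self]
  have hgx : g' * R.x = R.x ^ k * g' := by
    rw [hg', mul_assoc, hg, ← mul_assoc, ← mul_assoc, ← pow_add, ← pow_add, Nat.add_comm]
  have hch' : ∀ c ∈ R.ch, apt g' c = c := by
    intro c hcm
    rw [hg', apt_mul, hch c hcm]
    induction (R.m - j) with
    | zero => rw [pow_zero, apt_one]
    | succ n ih => rw [pow_succ, apt_mul, apt_x_fix hR (hc c hcm), ih]
  have hgo : R.orbs.getD r [] = o := by rw [List.getD_eq_getElem _ _ hr, hro]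
  have him := seeds_map hR hr hgx (by rw [hgo]; exact hj2) hch'
  have hcase := allBelow_spec (hR.powers k hk0 hk) hr
  simp only [caseOK] at hcase
  cases hcode : Nat.beq ((R.wit.getD (k - 1) []).getD r 0) 0 with
  | false =>
    exfalso
    rw [hcode, cond_false] at hcase
    set code := (R.wit.getD (k - 1) []).getD r 0
    simp only [witOK, Bool.and_eq_true, Nat.ble_eq, Nat.blt_eq, Bool.not_eq_true', decide_eq_false_iff_not] at hcase
    obtain ⟨hsl, ha, hb, hp⟩ := hcase
    obtain ⟨hl, hmap⟩ := derive_seeds hR g' (code / 10000)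
    have hlen : (derive (R.steps.take (code / 10000)) R.seeds).length = R.m + R.ch.length + code / 10000 := by
      rw [derive_length, seeds_length hR, List.length_take, Nat.min_eq_left hsl]
    refine hp ?_
    rw [him, hmap, pflag_map g' hl (hlen ▸ ha) (hlen ▸ hb)]
  | true =>
    rw [hcode, cond_true] at hcase
    simp only [Bool.or_eq_true, List.any_eq_true, Bool.and_eq_true, Nat.beq_eq] at hcase
    rcases hcase with ⟨e, he, hek, her⟩ | ⟨e, he, hek, her⟩
    · refine ⟨e, he, hek, j, ?_⟩
      have hi := List.all_eq_true.1 hR.inns e he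
      simp only [innOK, Bool.and_eq_true] at hi
      obtain ⟨hw, hall⟩ := hi
      rw [hek, her] at hall
      have hsame : R.seedIm k r = R.seeds.map (apt (el e.2.2)) := by
        refine List.ext_getElem (by simp [seedIm, seeds]) fun i h1 h2 => ?_
        have hi' : i < R.m + R.ch.length := by simpa [seedIm] using h1
        have := Nat.eq_of_beq_eq_true (allBelow_spec hall hi')
        have hsi : i < R.seeds.length := by simpa using h2
        rw [List.getD_eq_getElem _ _ hsi, List.getD_eq_getElem _ _ h1] at this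
        rw [List.getElem_map, apt_el hw (seeds_lt hR _ (List.getElem_mem hsi)), this]
      have hgw : g' = el e.2.2 := eq_of_gpts fun i hi => by rw [apt_tgt hR him hi, apt_tgt hR hsame hi]
      rw [← hgw, hg', ← mul_assoc, ← pow_add, Nat.add_sub_cancel' hjm.le, x_pow_m hR, one_mul]
    · exfalso
      have hi := List.all_eq_true.1 hR.outs e he
      simp only [outOK, Bool.and_eq_true] at hi
      refine not_outer (g := g') hi.1 fun i hi9 => ?_
      have := Nat.eq_of_beq_eq_true (allBelow_spec hi.2 hi9)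
      rw [hek, her] at this
      rw [apt_tgt hR him hi9, this]

end

end Rigid

end Cfsg.Agent.Fi22Local
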