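import Cfsg.Agent.Lib.Fi22Local.Data11
import Cfsg.Agent.Lib.Fi22Local.PairIso

/-! The normaliser of a subgroup of order 11 in the presented Fi22: certificate. -/

set_option autoImplicit false
set_option maxRecDepth 100000

namespace Cfsg.Agent.Fi22Local.P11

open Cfsg.Agent.CosetCert

/-- The certificate. -/
noncomputable def L : LocalCert where
  R := R
  yw := yw
  e := 5
  k0 := 4
  moves := [[(3036, [])]]
  forms := [(0, 0, []), (0, 6, [3036]), (1, 0, []), (1, 9, [3036]), (2, 4, [3036]), (2, 9, []), (3, 2, []), (3, 7, [3036]), (4, 0, []), (4, 6, [3036])]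

theorem L_valid : L.Valid := ⟨valid, by decide +kernel, show Nat.Prime 11 by norm_num⟩

end Cfsg.Agent.Fi22Local.P11
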