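import Cfsg.Agent.Lib.Fi22Local.Data13
import Cfsg.Agent.Lib.Fi22Local.PairIso

/-! The normaliser of a subgroup of order 13 in the presented Fi22: certificate. -/

set_option autoImplicit false
set_option maxRecDepth 100000

namespace Cfsg.Agent.Fi22Local.P13

open Cfsg.Agent.CosetCert

/-- The certificate. -/
noncomputable def L : LocalCert where
  R := R
  yw := yw
  e := 6
  k0 := 4
  moves := []
  forms := [(0, 0, []), (1, 0, []), (2, 7, []), (3, 11, []), (4, 11, []), (5, 3, [])]

theorem L_valid : L.Valid := ⟨valid, by decide +kernel, show Nat.Prime 13 by norm_num⟩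

end Cfsg.Agent.Fi22Local.P13
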