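import Cfsg.Agent.Lib.Fi22Local.Data7
import Cfsg.Agent.Lib.Fi22Local.PairIso

/-! The normaliser of a subgroup of order 7 in the presented Fi22: certificate. -/

set_option autoImplicit false
set_option maxRecDepth 100000

namespace Cfsg.Agent.Fi22Local.P7

open Cfsg.Agent.CosetCert

/-- The certificate. -/
noncomputable def L : LocalCert where
  R := R
  yw := yw
  e := 6
  k0 := 3
  moves := [[(134, []), (135, [215]), (215, [135])],
    [(135, []), (215, [134])]]
  forms := [(0, 0, []), (1, 0, []), (2, 2, []), (3, 6, []), (4, 6, []), (5, 4, [])]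

theorem L_valid : L.Valid := ⟨valid, by decide +kernel, show Nat.Prime 7 by norm_num⟩

/-- Pairs labelling the fixed cosets. -/
noncomputable def lab : L.PairLabel 3 where
  pr := fun i => ![(0, 1), (0, 2), (1, 2)] (Fin.cast rfl i)
  idx := fun a b => Fin.cast rfl ((![![0, 0, 1], ![0, 0, 2], ![1, 2, 0]] : Fin 3 → Fin 3 → Fin 3) a b)

theorem lab_valid : lab.Valid :=
  ⟨by decide +kernel, by decide +kernel, by decide +kernel, by decide +kernel, by decide +kernel,
    by decide +kernel, fun e he he1 => by
    have h : L.R.inn.all (fun e => !(Nat.beq e.1 1) || sameW e.2.2 []) = true := by decide +kernel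
    have := List.all_eq_true.1 h e he
    rw [he1] at this
    simp at this
    rw [el_eq this, el_nil]⟩

theorem K_iso : Nonempty (L.K ≃* Equiv.Perm (Fin 3)) :=
  LocalCert.PairLabel.nonempty_iso lab_valid L_valid (by decide +kernel)

end Cfsg.Agent.Fi22Local.P7
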