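import Cfsg.Agent.Lib.Fi22Local.Carry5
import Cfsg.Agent.Lib.Fi22Local.Local7
import Cfsg.Agent.Lib.Fi22Local.Local11
import Cfsg.Agent.Lib.Fi22Local.Local13
import Mathlib.GroupTheory.Sylow

/-!
Subgroups of order 5, 7, 11 and 13 of the presented Fi22 are conjugate to the certified ones.
-/

set_option autoImplicit false
set_option maxRecDepth 100000

namespace Cfsg.Agent.Fi22Local

open Cfsg.Agent.CosetCert
open Cfsg.Agent.FischerPresented

theorem card_GG : Nat.card GG = 2 ^ 17 * 3 ^ 9 * 5 ^ 2 * 7 * 11 * 13 := by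
  rw [Fi22.order_facts.2.1]; norm_num

theorem factorization_GG {p k c : ℕ} (hp : p.Prime) (h : Nat.card GG = p ^ k * c) (hc : ¬ p ∣ c) :
    (Nat.card GG).factorization p = k := by
  have hc0 : c ≠ 0 := by rintro rfl; exact hc (dvd_zero p)
  rw [h, Nat.factorization_mul (pow_ne_zero _ hp.ne_zero) hc0, Finsupp.add_apply, hp.factorization_pow,
    Finsupp.single_eq_same, Nat.factorization_eq_zero_of_not_dvd hc, add_zero]

/-- Subgroups of prime order are conjugate when the square of the prime does not divide the order. -/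
theorem exists_conj_of_card {p c : ℕ} (hp : p.Prime) (h : Nat.card GG = p ^ 1 * c) (hc : ¬ p ∣ c)
    {X Y : Subgroup GG} (hX : Nat.card X = p) (hY : Nat.card Y = p) :
    ∃ g : GG, X.map (MulAut.conj g).toMonoidHom = Y := by
  have := Fi22.order_facts.1
  have := Fact.mk hp
  have hf := factorization_GG hp h hc
  let P : Sylow p GG := Sylow.ofCard X (by rw [hX, hf, pow_one])
  let Q : Sylow p GG := Sylow.ofCard Y (by rw [hY, hf, pow_one])
  obtain ⟨g, hg⟩ := MulAction.exists_smul_eq GG P Q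
  refine ⟨g, ?_⟩
  have h2 : (g • P : Sylow p GG).toSubgroup = Y := by rw [hg]; rfl
  rw [← h2, Sylow.coe_subgroup_smul]
  rfl

theorem conj7 {X : Subgroup GG} (hX : Nat.card X = 7) :
    ∃ g : GG, (Subgroup.zpowers P7.L.x).map (MulAut.conj g).toMonoidHom = X :=
  exists_conj_of_card (p := 7) (c := 2 ^ 17 * 3 ^ 9 * 5 ^ 2 * 11 * 13) (by norm_num)
    (by rw [card_GG]; norm_num) (by norm_num) (LocalCert.card_X P7.L_valid) hX

theorem conj11 {X : Subgroup GG} (hX : Nat.card X = 11) :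
    ∃ g : GG, (Subgroup.zpowers P11.L.x).map (MulAut.conj g).toMonoidHom = X :=
  exists_conj_of_card (p := 11) (c := 2 ^ 17 * 3 ^ 9 * 5 ^ 2 * 7 * 13) (by norm_num)
    (by rw [card_GG]; norm_num) (by norm_num) (LocalCert.card_X P11.L_valid) hX

theorem conj13 {X : Subgroup GG} (hX : Nat.card X = 13) :
    ∃ g : GG, (Subgroup.zpowers P13.L.x).map (MulAut.conj g).toMonoidHom = X :=
  exists_conj_of_card (p := 13) (c := 2 ^ 17 * 3 ^ 9 * 5 ^ 2 * 7 * 11) (by norm_num)
    (by rw [card_GG]; norm_num) (by norm_num) (LocalCert.card_X P13.L_valid) hX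

namespace P5

/-- The five-cycle centralising the element. -/
noncomputable def cc : GG := el cW

theorem cc_mem : cc ∈ L.K := LocalCert.el_flat_mem fun c hc => by
  have := List.all_eq_true.1 cPts_ok c hc
  exact List.contains_iff_mem.1 this

theorem x_comm_cc : Commute L.x cc := LocalCert.F_commute L_valid (LocalCert.x_mem_F L_valid) cc_mem

theorem cc_pow : cc ^ 5 = 1 := by rw [cc, ← el_rep, el_eq cW_pow, el_nil]

theorem cc_ne_one : cc ≠ 1 := by
  intro h
  have h1 : ∀ p ∈ fixs, act cW p = p := fun p hp => by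
    rw [← apt_el (by decide +kernel) (LocalCert.fix_lt L_valid hp), show el cW = 1 from h, apt_one]
  have := cW_ne
  rw [h1 _ (by decide +kernel), h1 _ (by decide +kernel)] at this
  simp at this

/-- The elementary abelian group of order 25. -/
noncomputable def E : Subgroup GG := Subgroup.closure {L.x, cc}

theorem mem_E {g : GG} : g ∈ E ↔ ∃ a b : ℕ, a < 5 ∧ b < 5 ∧ g = L.x ^ a * cc ^ b := by
  have hx : L.x ^ 5 = 1 := Rigid.x_pow_m L_valid.rigid
  have red : ∀ a b : ℕ, ∃ a' b' : ℕ, a' < 5 ∧ b' < 5 ∧ L.x ^ a * cc ^ b = L.x ^ a' * cc ^ b' := fun a b => by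
    refine ⟨a % 5, b % 5, Nat.mod_lt _ (by norm_num), Nat.mod_lt _ (by norm_num), ?_⟩
    conv_lhs => rw [← Nat.mod_add_div a 5, ← Nat.mod_add_div b 5, pow_add, pow_add, pow_mul, pow_mul, hx, cc_pow,
      one_pow, one_pow, mul_one, mul_one]
  constructor
  · intro h
    have := Fi22.order_facts.1
    have key : ∃ a b : ℕ, g = L.x ^ a * cc ^ b := by
      induction h using Subgroup.closure_induction'' with
      | mem g hg =>
        rcases hg with rfl | rfl
        · exact ⟨1, 0, by simp⟩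
        · exact ⟨0, 1, by simp⟩
      | inv_mem g hg =>
        rcases hg with rfl | rfl
        · refine ⟨4, 0, ?_⟩
          rw [pow_zero, mul_one, inv_eq_of_mul_eq_one_right]
          rw [← pow_succ', hx]
        · refine ⟨0, 4, ?_⟩
          rw [pow_zero, one_mul, inv_eq_of_mul_eq_one_right]
          rw [← pow_succ', cc_pow]
      | one => exact ⟨0, 0, by simp⟩
      | mul g h _ _ hg hh =>
        obtain ⟨a, b, rfl⟩ := hg
        obtain ⟨c, d, rfl⟩ := hh
        exact ⟨a + c, b + d, by rw [pow_add, pow_add, (x_comm_cc.pow_pow c b).symm.mul_mul_mul_comm]⟩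
    obtain ⟨a, b, rfl⟩ := key
    exact red a b
  · rintro ⟨a, b, -, -, rfl⟩
    exact E.mul_mem (E.pow_mem (Subgroup.subset_closure (Or.inl rfl)) a)
      (E.pow_mem (Subgroup.subset_closure (Or.inr rfl)) b)

theorem card_E : Nat.card E = 25 := by
  let f : Fin 5 × Fin 5 → E := fun p => ⟨L.x ^ (p.1 : ℕ) * cc ^ (p.2 : ℕ), mem_E.2 ⟨_, _, p.1.2, p.2.2, rfl⟩⟩
  have hox := LocalCert.orderOf_x L_valid
  have := Fact.mk (show Nat.Prime 5 by norm_num)
  have hoc : orderOf cc = 5 := orderOf_eq_prime cc_pow cc_ne_one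
  have hinf : ∀ u : GG, u ∈ Subgroup.zpowers L.x → u ∈ L.K → u = 1 := fun u hu hk => by
    have : u ∈ L.F ⊓ L.K := ⟨LocalCert.X_le_F L_valid hu, hk⟩
    rwa [LocalCert.F_inf_K L_valid, Subgroup.mem_bot] at this
  have hf : Function.Bijective f := by
    constructor
    · rintro ⟨a, b⟩ ⟨a', b'⟩ h
      have h' : L.x ^ (a : ℕ) * cc ^ (b : ℕ) = L.x ^ (a' : ℕ) * cc ^ (b' : ℕ) := congrArg Subtype.val h
      have h2 : (L.x ^ (a' : ℕ))⁻¹ * L.x ^ (a : ℕ) = cc ^ (b' : ℕ) * (cc ^ (b : ℕ))⁻¹ := by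
        rw [eq_mul_inv_iff_mul_eq, mul_assoc, inv_mul_eq_iff_eq_mul, h']
      have h3 := hinf _ (Subgroup.mul_mem _ (Subgroup.inv_mem _ (Subgroup.pow_mem _ (Subgroup.mem_zpowers _) _))
        (Subgroup.pow_mem _ (Subgroup.mem_zpowers _) _))
        (h2 ▸ L.K.mul_mem (L.K.pow_mem cc_mem _) (L.K.inv_mem (L.K.pow_mem cc_mem _)))
      have ha := inv_mul_eq_one.1 h3
      rw [h3, eq_comm, mul_inv_eq_one] at h2
      rw [pow_eq_pow_iff_modEq, hox, Nat.ModEq] at ha
      rw [pow_eq_pow_iff_modEq, hoc, Nat.ModEq, Nat.mod_eq_of_lt b.2, Nat.mod_eq_of_lt b'.2] at h2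
      have ha' : (a' : ℕ) = (a : ℕ) := by
        rw [show L.R.m = 5 from rfl, Nat.mod_eq_of_lt a.2, Nat.mod_eq_of_lt a'.2] at ha
        exact ha
      rw [Fin.ext ha', Fin.ext h2]
    · rintro ⟨g, hg⟩
      obtain ⟨a, b, ha, hb, rfl⟩ := mem_E.1 hg
      exact ⟨(⟨a, ha⟩, ⟨b, hb⟩), rfl⟩
  rw [← Nat.card_eq_of_bijective f hf, Nat.card_prod, Nat.card_fin]

theorem sub_conj {Y : Subgroup GG} (hY : Nat.card Y = 5) (hle : Y ≤ E) :
    ∃ g : GG, (Subgroup.zpowers L.x).map (MulAut.conj g).toMonoidHom = Y := by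
  have := Fi22.order_facts.1
  have := Fact.mk (show Nat.Prime 5 by norm_num)
  have : Nontrivial Y := Finite.one_lt_card_iff_nontrivial.1 (by rw [hY]; norm_num)
  obtain ⟨⟨t, ht⟩, hne⟩ := exists_ne (1 : Y)
  have hne' : t ≠ 1 := fun h => hne (Subtype.ext h)
  obtain ⟨a, b, ha, hb, rfl⟩ := mem_E.1 (hle ht)
  have eqY : ∀ u : GG, u ∈ Y → u ≠ 1 → Subgroup.zpowers u = Y := fun u hu hu1 => by
    refine Subgroup.eq_of_le_of_card_ge (Subgroup.zpowers_le.2 hu) ?_
    have h5 : orderOf u = 5 := by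
      refine orderOf_eq_prime ?_ hu1
      have := congrArg Subtype.val (pow_card_eq_one' (G := Y) (x := ⟨u, hu⟩))
      rw [hY] at this
      exact this
    rw [Nat.card_zpowers, h5, hY]
  rcases Nat.eq_zero_or_pos b with rfl | hb0
  · refine ⟨1, ?_⟩
    rw [map_one]
    refine Eq.trans (Subgroup.map_id _) (Eq.trans ?_ (eqY _ ht hne'))
    have hle' : Subgroup.zpowers (L.x ^ a * cc ^ 0) ≤ Subgroup.zpowers L.x := by
      rw [pow_zero, mul_one]; exact Subgroup.zpowers_le.2 (Subgroup.pow_mem _ (Subgroup.mem_zpowers _) a)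
    refine (Subgroup.eq_of_le_of_card_ge hle' ?_).symm
    rw [eqY _ ht hne', hY, LocalCert.card_X L_valid]
    rfl
  obtain ⟨b', hb'⟩ : ∃ b' : ℕ, (b * b') % 5 = 1 := by
    interval_cases b
    · exact ⟨1, rfl⟩
    · exact ⟨3, rfl⟩
    · exact ⟨2, rfl⟩
    · exact ⟨4, rfl⟩
  have hu : L.x ^ ((a * b') % 5) * cc ∈ Y := by
    have : (L.x ^ a * cc ^ b) ^ b' = L.x ^ ((a * b') % 5) * cc := by
      rw [(x_comm_cc.pow_pow a b).mul_pow, ← pow_mul, ← pow_mul]
      congr 1
      · rw [← pow_mod_orderOf L.x (a * b'), LocalCert.orderOf_x L_valid]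
        rfl
      · rw [← pow_mod_orderOf cc, orderOf_eq_prime cc_pow cc_ne_one, hb', pow_one]
    exact this ▸ Y.pow_mem ht b'
  have h4 := el_eq (allBelow_spec carry_ok (Nat.mod_lt (a * b') (by norm_num : 5 > 0)))
  rw [el_append, el_append, el_append, el_rep] at h4
  refine ⟨el (carry.getD ((a * b') % 5) []), Eq.trans ?_ (eqY _ hu fun h => ?_)⟩
  · rw [MonoidHom.map_zpowers]
    refine congrArg _ ?_
    show el (carry.getD ((a * b') % 5) []) * el xw * (el (carry.getD ((a * b') % 5) []))⁻¹ = _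
    rw [h4, mul_inv_cancel_right]
    rfl
  · have hc : cc ∈ L.F ⊓ L.K := ⟨by
      have := eq_inv_of_mul_eq_one_right h
      rw [this]
      exact L.F.inv_mem (L.F.pow_mem (LocalCert.x_mem_F L_valid) _), cc_mem⟩
    rw [LocalCert.F_inf_K L_valid, Subgroup.mem_bot] at hc
    exact cc_ne_one hc

end P5

theorem conj5 {X : Subgroup GG} (hX : Nat.card X = 5) :
    ∃ g : GG, (Subgroup.zpowers P5.L.x).map (MulAut.conj g).toMonoidHom = X := by
  have := Fi22.order_facts.1
  have := Fact.mk (show Nat.Prime 5 by norm_num)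
  have hf : (Nat.card GG).factorization 5 = 2 :=
    factorization_GG (c := 2 ^ 17 * 3 ^ 9 * 7 * 11 * 13) (by norm_num) (by rw [card_GG]; norm_num) (by norm_num)
  let P : Sylow 5 GG := Sylow.ofCard P5.E (by rw [P5.card_E, hf]; norm_num)
  obtain ⟨Q, hQ⟩ := (IsPGroup.of_card (G := X) (n := 1) (p := 5) (by rw [hX]; norm_num)).exists_le_sylow
  obtain ⟨g, hg⟩ := MulAction.exists_smul_eq GG Q P
  set Y := X.map (MulAut.conj g).toMonoidHom with hY
  have hle : Y ≤ P5.E := by
    have h2 : (g • Q : Sylow 5 GG).toSubgroup = P5.E := by rw [hg]; rfl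
    rw [← h2, Sylow.coe_subgroup_smul]
    exact Subgroup.map_mono hQ
  obtain ⟨h, hh⟩ := P5.sub_conj (by rw [hY, Subgroup.card_map_of_injective (MulAut.conj g).injective, hX]) hle
  refine ⟨g⁻¹ * h, ?_⟩
  rw [hY] at hh
  have := congrArg (Subgroup.map (MulAut.conj g⁻¹).toMonoidHom) hh
  rw [Subgroup.map_map, Subgroup.map_map] at this
  refine Eq.trans ?_ (this.trans ?_)
  · congr 1
    ext a
    simp [map_mul]
  · conv_rhs => rw [← Subgroup.map_id X]
    congr 1
    ext a
    simp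
    group

end Cfsg.Agent.Fi22Local
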