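import Cfsg.Agent.Lib.Fi22Local.Orbits
import Cfsg.Agent.Lib.Fi22Local.Fast
import Mathlib.GroupTheory.Sylow

/-!
A certificate for the conjugacy classes of elements of order three inside a subgroup with a central
series with steps of order three, in the presented Fi22.
-/

set_option autoImplicit false
set_option maxRecDepth 100000

namespace Cfsg.Agent.Fi22Local.ThreePc

open Cfsg.Agent.CosetCert
open Cfsg.Agent.CosetData
open Cfsg.Agent.FischerPresented
open Cfsg.Agent.Fi22Local.Triple (pfix)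
open scoped Pointwise

/-- Two words with the same images of the base points, packed table version. -/
noncomputable def sameWF (u v : List ℕ) : Bool :=
  wok u && (wok v && Fi22.pts.all fun p => Nat.blt p 3510 && Nat.beq (actF u p) (actF v p))

theorem el_eqF {u v : List ℕ} (h : sameWF u v = true) : el u = el v := by
  simp only [sameWF, Bool.and_eq_true, List.all_eq_true, Nat.blt_eq, Nat.beq_eq] at h
  obtain ⟨hu, hv, hp⟩ := h
  refine eq_of_apt fun p hpm => ?_
  obtain ⟨hlt, he⟩ := hp p hpm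
  rw [apt_el hu hlt, apt_el hv hlt, ← (actF_eq hu hlt).1, he, (actF_eq hv hlt).1]

/-- The word of the product of powers of generators with given exponents. -/
def pcW : List (List ℕ) → List ℕ → List ℕ
  | g :: gs, a :: as => pcW gs as ++ rep a g
  | _, _ => []

theorem el_pcW_cons (g : List ℕ) (gs : List (List ℕ)) (a : ℕ) (as : List ℕ) :
    el (pcW (g :: gs) (a :: as)) = el g ^ a * el (pcW gs as) := by
  rw [pcW, el_append, el_rep]

theorem el_pcW_snoc : ∀ (gs : List (List ℕ)) (pre : List ℕ) (a : ℕ), pre.length < gs.length →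
    el (pcW gs (pre ++ [a])) = el (pcW gs pre) * el (gs.getD pre.length []) ^ a
  | [], _, _, h => absurd h (Nat.not_lt_zero _)
  | g :: gs, [], a, _ => by
    rw [List.nil_append, el_pcW_cons, show pcW (g :: gs) [] = [] from rfl, el_nil, one_mul,
      show el (pcW gs []) = 1 by cases gs <;> rfl, mul_one]
    rfl
  | g :: gs, b :: pre, a, h => by
    rw [List.cons_append, el_pcW_cons, el_pcW_cons, el_pcW_snoc gs pre a (Nat.lt_of_succ_lt_succ h), mul_assoc]
    rfl

/-- The generators with their commutators. -/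
structure Table where
  g : List (List ℕ)
  comm : List (List (List ℕ))
  us : List (List ℕ)

variable (T : Table)

/-- A generator. -/
def gi (i : ℕ) : List ℕ := T.g.getD i []

/-- The subgroup of the series. -/
noncomputable def S (i : ℕ) : Subgroup GG := Subgroup.closure {x | ∃ w ∈ T.g.drop i, x = el w}

/-- Commutators and cubes. -/
noncomputable def tableOK : Bool :=
  allBelow (fun k => sameWF (rep 3 (gi T k)) [] &&
    allBelow (fun j => sameWF (gi T j ++ gi T k)
      (gi T k ++ (pcW (T.g.drop (j + 1)) ((T.comm.getD k []).getD j []) ++ gi T j))) T.g.length) T.g.length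

/-- A certificate tree. -/
inductive Node where
  | split (a b c : Node)
  | fuse (c : List ℕ) (e : ℕ) (v : List ℕ) (t : Node)
  | one
  | bad (p : ℕ)
  | conj (k : ℕ) (g : List ℕ)

/-- The check of a tree below a prefix. -/
noncomputable def chk : Node → List ℕ → Bool
  | .split a b c, pre =>
    Nat.blt pre.length T.g.length && (chk a (pre ++ [0]) && (chk b (pre ++ [1]) && chk c (pre ++ [2])))
  | .fuse c e v t, pre =>
    Nat.blt pre.length T.g.length && ((Nat.beq e 1 || Nat.beq e 2) &&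
      (sameWF (pcW T.g pre ++ pcW T.g c)
        (pcW T.g c ++ (pcW (T.g.drop (pre.length + 1)) v ++ (rep e (gi T pre.length) ++ pcW T.g pre))) &&
      chk t (pre ++ [0])))
  | .one, pre => Nat.beq pre.length T.g.length && sameWF (pcW T.g pre) []
  | .bad p, pre => Nat.beq pre.length T.g.length && (wok (rep 3 (pcW T.g pre)) &&
      (Nat.blt p 3510 && !(Nat.beq (actF (rep 3 (pcW T.g pre)) p) p)))
  | .conj k g, pre => Nat.beq pre.length T.g.length && (Nat.blt k T.us.length &&
      sameWF (pcW T.g pre ++ g) (g ++ T.us.getD k []))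

/-- An element that is neither trivial nor moved out of the listed classes. -/
def Q (y : GG) : Prop :=
  y ^ 3 = 1 → y ≠ 1 → ∃ k < T.us.length, ∃ g : GG, g * y = el (T.us.getD k []) * g

variable {T}

theorem Q_conj {y : GG} (c : GG) (h : Q T (c⁻¹ * y * c)) : Q T y := by
  intro h3 h1
  obtain ⟨k, hk, g, hg⟩ := h (by rw [pow_three] at h3 ⊢; simp only [mul_assoc, mul_inv_cancel_left]; rw [← mul_assoc y y, ← mul_assoc (y * y) y, mul_assoc y y y, h3]; simp) fun e => h1 (by
    have := congrArg (fun z => c * z * c⁻¹) e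
    simpa [mul_assoc] using this)
  exact ⟨k, hk, g * c⁻¹, by rw [mul_assoc g, show c⁻¹ * y = c⁻¹ * y * c * c⁻¹ by simp, ← mul_assoc g, hg, mul_assoc]⟩

theorem pcW_mem (gs : List (List ℕ)) (as : List ℕ) {H : Subgroup GG} (h : ∀ w ∈ gs, el w ∈ H) :
    el (pcW gs as) ∈ H := by
  induction gs generalizing as with
  | nil => exact H.one_mem
  | cons g gs ih =>
    cases as with
    | nil => exact H.one_mem
    | cons a as =>
      rw [el_pcW_cons]
      exact H.mul_mem (H.pow_mem (h g List.mem_cons_self) a) (ih as fun w hw => h w (List.mem_cons_of_mem _ hw))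

theorem pcW_drop_mem (i : ℕ) (as : List ℕ) : el (pcW (T.g.drop i) as) ∈ S T i :=
  pcW_mem _ as fun _ hw => Subgroup.subset_closure ⟨_, hw, rfl⟩

theorem S_mono {i j : ℕ} (h : i ≤ j) : S T j ≤ S T i := by
  refine Subgroup.closure_mono fun x ⟨w, hw, e⟩ => ⟨w, ?_, e⟩
  rw [← Nat.add_sub_cancel' h, ← List.drop_drop] at hw
  exact List.mem_of_mem_drop hw

theorem S_eq_bot {i : ℕ} (h : T.g.length ≤ i) : S T i = ⊥ := by
  rw [S, List.drop_eq_nil_of_le h]
  simp

theorem S_cons {i : ℕ} (h : i < T.g.length) :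
    S T i = Subgroup.zpowers (el (gi T i)) ⊔ S T (i + 1) := by
  refine le_antisymm ((Subgroup.closure_le _).2 ?_) (sup_le (Subgroup.zpowers_le.2 ?_) (S_mono (Nat.le_succ i)))
  · rintro x ⟨w, hw, rfl⟩
    rw [List.drop_eq_getElem_cons h, List.mem_cons] at hw
    rcases hw with rfl | hw
    · exact Subgroup.mem_sup_left (by rw [gi, List.getD_eq_getElem _ _ h]; exact Subgroup.mem_zpowers _)
    · exact Subgroup.mem_sup_right (Subgroup.subset_closure ⟨w, hw, rfl⟩)
  · refine Subgroup.subset_closure ⟨gi T i, ?_, rfl⟩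
    rw [gi, List.getD_eq_getElem _ _ h, List.drop_eq_getElem_cons h]
    exact List.mem_cons_self

section

variable (hT : tableOK T = true)

include hT

theorem table_spec {k : ℕ} (hk : k < T.g.length) : el (gi T k) ^ 3 = 1 ∧
    ∀ j < T.g.length, ∃ v ∈ S T (j + 1), el (gi T k) * el (gi T j) = el (gi T j) * v * el (gi T k) := by
  have h := allBelow_spec hT hk
  rw [Bool.and_eq_true] at h
  refine ⟨by rw [← el_rep, el_eqF h.1, el_nil], fun j hj => ⟨_, pcW_drop_mem (j + 1) ((T.comm.getD k []).getD j []), ?_⟩⟩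
  have := el_eqF (allBelow_spec h.2 hj)
  rw [el_append, el_append, el_append] at this
  exact this

theorem S_normal (i : ℕ) : S T 0 ≤ Subgroup.normalizer ((S T i : Subgroup GG) : Set GG) := by
  haveI := Fi22.order_facts.1
  refine (Subgroup.closure_le _).2 ?_
  rintro x ⟨w, hw, rfl⟩
  obtain ⟨k, hk, rfl⟩ := List.getElem_of_mem hw
  have hk' : k < T.g.length := by simpa using hk
  have hek : el ((T.g.drop 0)[k]) = el (gi T k) := by rw [gi, List.getD_eq_getElem _ _ hk']; simp
  refine SetLike.mem_coe.2 (Eq.mpr (congrArg (fun y => y ∈ Subgroup.normalizer ((S T i : Subgroup GG) : Set GG)) hek) ?_)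
  have hle : (S T i).map (MulAut.conj (el (gi T k))).toMonoidHom ≤ S T i := by
    rw [Subgroup.map_le_iff_le_comap]
    refine (Subgroup.closure_le _).2 ?_
    rintro y ⟨w', hw', rfl⟩
    obtain ⟨j, hj, rfl⟩ := List.getElem_of_mem hw'
    have hj' : i + j < T.g.length := by simp at hj; omega
    obtain ⟨v, hv, e⟩ := (table_spec hT hk').2 (i + j) hj'
    show el (gi T k) * el ((T.g.drop i)[j]) * (el (gi T k))⁻¹ ∈ S T i
    have hel : el ((T.g.drop i)[j]) = el (gi T (i + j)) := by rw [gi, List.getD_eq_getElem _ _ hj']; simp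
    rw [hel, e, mul_inv_cancel_right]
    refine (S T i).mul_mem ?_ (S_mono (by omega) hv)
    rw [← hel]
    exact Subgroup.subset_closure ⟨_, List.getElem_mem _, rfl⟩
  have heq : (S T i).map (MulAut.conj (el (gi T k))).toMonoidHom = S T i :=
    Subgroup.eq_of_le_of_card_ge hle
      (Nat.card_congr ((S T i).equivMapOfInjective _ (MulEquiv.injective _)).toEquiv).le
  rw [Subgroup.mem_normalizer_iff]
  intro y
  constructor
  · exact fun hy => hle ⟨y, hy, rfl⟩
  · intro hy
    rw [← heq] at hy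
    obtain ⟨z, hz, e⟩ := hy
    obtain rfl := (MulAut.conj (el (gi T k))).injective e
    exact hz

theorem conj_mem {i : ℕ} {c s : GG} (hc : c ∈ S T 0) (hs : s ∈ S T i) : c * s * c⁻¹ ∈ S T i :=
  (Subgroup.mem_normalizer_iff.1 (S_normal hT i hc) s).1 hs

theorem inv_conj_mem {i : ℕ} {c s : GG} (hc : c ∈ S T 0) (hs : s ∈ S T i) : c⁻¹ * s * c ∈ S T i := by
  simpa using conj_mem hT ((S T 0).inv_mem hc) hs

theorem central {i : ℕ} (hi : i < T.g.length) {c : GG} (hc : c ∈ S T 0) :
    ∃ s ∈ S T (i + 1), c * el (gi T i) * c⁻¹ = el (gi T i) * s := by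
  induction hc using Subgroup.closure_induction with
  | mem x hx =>
    obtain ⟨w, hw, rfl⟩ := hx
    obtain ⟨k, hk, rfl⟩ := List.getElem_of_mem hw
    have hk' : k < T.g.length := by simpa using hk
    obtain ⟨v, hv, e⟩ := (table_spec hT hk').2 i hi
    refine ⟨v, hv, ?_⟩
    rw [show el ((T.g.drop 0)[k]) = el (gi T k) by rw [gi, List.getD_eq_getElem _ _ hk']; simp, e,
      mul_inv_cancel_right]
  | one => exact ⟨1, one_mem _, by simp⟩
  | mul x y hx hy ihx ihy =>
    obtain ⟨a, ha, ea⟩ := ihx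
    obtain ⟨b, hb, eb⟩ := ihy
    refine ⟨a * (x * b * x⁻¹), mul_mem ha (conj_mem hT hx hb), ?_⟩
    calc x * y * el (gi T i) * (x * y)⁻¹ = x * (y * el (gi T i) * y⁻¹) * x⁻¹ := by group
      _ = (x * el (gi T i) * x⁻¹) * (x * b * x⁻¹) := by rw [eb]; group
      _ = _ := by rw [ea, mul_assoc]
  | inv x hx ih =>
    obtain ⟨a, ha, ea⟩ := ih
    refine ⟨(x⁻¹ * a * x)⁻¹, inv_mem (inv_conj_mem hT hx ha), ?_⟩
    have e2 : el (gi T i) = x⁻¹ * el (gi T i) * a * x := by
      rw [mul_assoc x⁻¹, ← ea]; group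
    calc x⁻¹ * el (gi T i) * x⁻¹⁻¹ = x⁻¹ * el (gi T i) * a * x * (x⁻¹ * a * x)⁻¹ := by group
      _ = el (gi T i) * (x⁻¹ * a * x)⁻¹ := by rw [← e2]

theorem central_pow {i : ℕ} (hi : i < T.g.length) {c : GG} (hc : c ∈ S T 0) (a : ℕ) :
    ∃ s ∈ S T (i + 1), c * el (gi T i) ^ a * c⁻¹ = el (gi T i) ^ a * s := by
  obtain ⟨s, hs, e⟩ := central hT hi hc
  have hg : el (gi T i) ∈ S T 0 := S_mono (Nat.zero_le i) (S_cons hi ▸ Subgroup.mem_sup_left (Subgroup.mem_zpowers _))
  induction a with
  | zero => exact ⟨1, one_mem _, by simp⟩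
  | succ a ih =>
    obtain ⟨t, ht, et⟩ := ih
    refine ⟨((el (gi T i))⁻¹ * t * el (gi T i)) * s, mul_mem (inv_conj_mem hT hg ht) hs, ?_⟩
    calc c * el (gi T i) ^ (a + 1) * c⁻¹
        = (c * el (gi T i) ^ a * c⁻¹) * (c * el (gi T i) * c⁻¹) := by rw [pow_succ]; group
      _ = _ := by rw [et, e, pow_succ]; group

theorem split_mem {i : ℕ} (hi : i < T.g.length) {t : GG} (ht : t ∈ S T i) :
    ∃ a < 3, ∃ t' ∈ S T (i + 1), t = el (gi T i) ^ a * t' := by
  have hg : el (gi T i) ∈ S T 0 := S_mono (Nat.zero_le i) (S_cons hi ▸ Subgroup.mem_sup_left (Subgroup.mem_zpowers _))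
  have hle : Subgroup.zpowers (el (gi T i)) ≤ Subgroup.normalizer ((S T (i + 1) : Subgroup GG) : Set GG) :=
    Subgroup.zpowers_le.2 (S_normal hT (i + 1) hg)
  rw [S_cons hi, ← SetLike.mem_coe, Subgroup.coe_mul_of_left_le_normalizer_right _ _ hle] at ht
  obtain ⟨u, hu, t', ht', rfl⟩ := ht
  obtain ⟨z, rfl⟩ := Subgroup.mem_zpowers_iff.1 hu
  refine ⟨(z % 3).toNat, by omega, t', ht', ?_⟩
  have h3 : el (gi T i) ^ (3 : ℤ) = 1 := by rw [zpow_ofNat]; exact (table_spec hT hi).1
  show el (gi T i) ^ z * t' = _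
  conv_lhs => rw [← Int.emod_add_mul_ediv z 3, zpow_add, zpow_mul, h3, one_zpow, mul_one]
  rw [← zpow_natCast, Int.toNat_of_nonneg (by omega)]

theorem chk_sound : ∀ (n : Node) (pre : List ℕ), chk T n pre = true →
    ∀ t ∈ S T pre.length, Q T (el (pcW T.g pre) * t)
  | .split a b c, pre, h, t, ht => by
    simp only [chk, Bool.and_eq_true, Nat.blt_eq] at h
    obtain ⟨hlen, ha, hb, hc⟩ := h
    obtain ⟨j, hj, t', ht', rfl⟩ := split_mem hT hlen ht
    have key : ∀ (n : ℕ) (d : Node), chk T d (pre ++ [n]) = true →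
        (∀ t ∈ S T (pre ++ [n]).length, Q T (el (pcW T.g (pre ++ [n])) * t)) →
        Q T (el (pcW T.g pre) * (el (gi T pre.length) ^ n * t')) := by
      intro n d _ hd
      have := hd t' (by simpa using ht')
      rwa [el_pcW_snoc _ _ _ hlen, mul_assoc] at this
    interval_cases j
    · exact key 0 a ha (chk_sound a _ ha)
    · exact key 1 b hb (chk_sound b _ hb)
    · exact key 2 c hc (chk_sound c _ hc)
  | .fuse c e v d, pre, h, t, ht => by
    simp only [chk, Bool.and_eq_true, Bool.or_eq_true, Nat.blt_eq, Nat.beq_eq] at h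
    obtain ⟨hlen, he, hs, hd⟩ := h
    have hfix := el_eqF hs
    simp only [el_append, el_rep] at hfix
    set x₀ := el (pcW T.g pre) with hx₀
    set g := el (gi T pre.length) with hg_def
    set cc := el (pcW T.g c) with hcc
    set vv := el (pcW (T.g.drop (pre.length + 1)) v) with hvv
    have hcm : cc ∈ S T 0 := pcW_drop_mem (T := T) 0 c
    have hvm : vv ∈ S T (pre.length + 1) := pcW_drop_mem _ v
    have h0 : ∀ t ∈ S T (pre.length + 1), Q T (x₀ * t) := fun t ht => by
      have := chk_sound d _ hd t (by simpa using ht)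
      rwa [el_pcW_snoc _ _ _ hlen, pow_zero, mul_one] at this
    have step : ∀ b : ℕ, (∀ t ∈ S T (pre.length + 1), Q T (x₀ * g ^ b * t)) →
        ∀ t ∈ S T (pre.length + 1), Q T (x₀ * g ^ (e + b) * t) := by
      intro b hb t ht
      obtain ⟨s₁, hs₁, e₁⟩ := central_pow hT hlen ((S T 0).inv_mem hcm) b
      rw [inv_inv, ← hg_def] at e₁
      have hgm : g ^ b ∈ S T 0 := (S T 0).pow_mem
        (S_mono (Nat.zero_le _) (S_cons hlen ▸ Subgroup.mem_sup_left (Subgroup.mem_zpowers _))) b
      refine Q_conj cc ?_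
      have hmem : ((g ^ b)⁻¹ * (cc⁻¹ * vv⁻¹ * cc) * g ^ b) * (s₁ * (cc⁻¹ * t * cc)) ∈ S T (pre.length + 1) :=
        mul_mem (inv_conj_mem hT hgm (inv_conj_mem hT hcm (inv_mem hvm))) (mul_mem hs₁ (inv_conj_mem hT hcm ht))
      convert hb _ hmem using 1
      calc cc⁻¹ * (x₀ * g ^ (e + b) * t) * cc
          = cc⁻¹ * (x₀ * g ^ e * vv * cc) * cc⁻¹ * vv⁻¹ * cc * (cc⁻¹ * g ^ b * cc) * (cc⁻¹ * t * cc) := by
            rw [pow_add]; group
        _ = cc⁻¹ * (cc * x₀) * cc⁻¹ * vv⁻¹ * cc * (g ^ b * s₁) * (cc⁻¹ * t * cc) := by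
            rw [← e₁, hfix]
        _ = _ := by group
    have h1 := step 0 (fun t ht => by rw [pow_zero, mul_one]; exact h0 t ht)
    have h2 := step (e + 0) h1
    obtain ⟨j, hj, t', ht', rfl⟩ := split_mem hT hlen ht
    rw [← hg_def, ← mul_assoc]
    have h4 : g ^ 4 = g := by rw [pow_succ, (table_spec hT hlen).1, one_mul]
    interval_cases j
    · rw [pow_zero, mul_one]; exact h0 t' ht'
    · rcases he with rfl | rfl
      · exact h1 t' ht'
      · have := h2 t' ht'
        rwa [show (2 + (2 + 0) : ℕ) = 4 from rfl, h4, ← pow_one g] at this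
    · rcases he with rfl | rfl
      · exact h2 t' ht'
      · exact h1 t' ht'
  | .one, pre, h, t, ht => by
    simp only [chk, Bool.and_eq_true, Nat.beq_eq] at h
    rw [S_eq_bot h.1.ge, Subgroup.mem_bot] at ht
    rw [ht, mul_one, el_eqF h.2, el_nil]
    exact fun _ hne => absurd rfl hne
  | .bad p, pre, h, t, ht => by
    simp only [chk, Bool.and_eq_true, Nat.beq_eq, Nat.blt_eq, Bool.not_eq_true'] at h
    obtain ⟨hlen, hw, hp, hne⟩ := h
    rw [S_eq_bot hlen.ge, Subgroup.mem_bot] at ht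
    subst ht
    rw [mul_one]
    intro h3 _
    exfalso
    rw [← el_rep] at h3
    have := apt_el hw hp
    rw [h3, apt_one, ← (actF_eq hw hp).1] at this
    rw [← this, Nat.beq_refl] at hne
    exact absurd hne (by decide)
  | .conj k g, pre, h, t, ht => by
    simp only [chk, Bool.and_eq_true, Nat.beq_eq, Nat.blt_eq] at h
    obtain ⟨hlen, hk, hg⟩ := h
    rw [S_eq_bot hlen.ge, Subgroup.mem_bot] at ht
    subst ht
    rw [mul_one]
    intro _ _
    have := el_eqF hg
    rw [el_append, el_append] at this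
    exact ⟨k, hk, el g, this⟩

theorem S_card_le {i : ℕ} (hi : i < T.g.length) : Nat.card (S T i) ≤ 3 * Nat.card (S T (i + 1)) := by
  haveI := Fi22.order_facts.1
  have hsurj : Function.Surjective (fun p : Fin 3 × S T (i + 1) =>
      (⟨el (gi T i) ^ (p.1 : ℕ) * p.2, mul_mem ((S T i).pow_mem
        (S_cons hi ▸ Subgroup.mem_sup_left (Subgroup.mem_zpowers _)) _) (S_mono (Nat.le_succ i) p.2.2)⟩ : S T i)) := by
    rintro ⟨t, ht⟩
    obtain ⟨a, ha, t', ht', rfl⟩ := split_mem hT hi ht
    exact ⟨⟨⟨a, ha⟩, ⟨t', ht'⟩⟩, rfl⟩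
  have := Nat.card_le_card_of_surjective _ hsurj
  rwa [Nat.card_prod, Nat.card_fin] at this

theorem card_S_le : ∀ (d i : ℕ), i + d = T.g.length → Nat.card (S T i) ≤ 3 ^ d
  | 0, i, h => by rw [S_eq_bot (by omega), Subgroup.card_bot]; simp
  | d + 1, i, h => by
    refine (S_card_le hT (by omega)).trans ?_
    have := card_S_le d (i + 1) (by omega)
    rw [pow_succ, mul_comm]
    exact Nat.mul_le_mul_right 3 this

end

end Cfsg.Agent.Fi22Local.ThreePc
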