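import Cfsg.Agent.Lib.Fi22Local.Sylow

/-!
Subgroups of order 5, 7, 11, 13 in a group isomorphic to the presented Fi22, class to class.
-/

set_option autoImplicit false

namespace Cfsg.Agent.Fi22Local

open Cfsg.Agent.FischerPresented

variable {G : Type*} [Group G]

theorem map_centralizer_equiv {H : Type*} [Group H] (φ : H ≃* G) (s : Set H) :
    (Subgroup.centralizer s).map φ.toMonoidHom = Subgroup.centralizer (φ '' s) := by
  ext a
  rw [Subgroup.mem_map_equiv, Subgroup.mem_centralizer_iff, Subgroup.mem_centralizer_iff]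
  constructor
  · rintro h _ ⟨b, hb, rfl⟩
    simpa using congrArg φ (h b hb)
  · intro h b hb
    refine φ.injective ?_
    simpa using h _ ⟨b, hb, rfl⟩

theorem exists_frame {e : GG ≃* G} {D : Set G} (he : e '' Fi22Class.D = D) {X₀ : Subgroup GG}
    (hconj : ∀ Y : Subgroup GG, Nat.card Y = Nat.card X₀ → ∃ g : GG, X₀.map (MulAut.conj g).toMonoidHom = Y)
    {X : Subgroup G} (hX : Nat.card X = Nat.card X₀) :
    ∃ φ : GG ≃* G, φ '' Fi22Class.D = D ∧ X₀.map φ.toMonoidHom = X := by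
  obtain ⟨g, hg⟩ := hconj (X.map e.symm.toMonoidHom)
    (by rw [Subgroup.card_map_of_injective e.symm.injective, hX])
  refine ⟨(MulAut.conj g).trans e, ?_, ?_⟩
  · rw [MulEquiv.coe_trans, Set.image_comp, ← he]
    refine congrArg (Set.image e) (Set.ext fun d => ⟨?_, fun hd => ?_⟩)
    · rintro ⟨c, hc, rfl⟩
      obtain ⟨k, rfl⟩ := Fi22Class.mem_D.1 hc
      exact Fi22Class.mem_D.2 ⟨g * k, by simp [mul_assoc]⟩
    · obtain ⟨k, rfl⟩ := Fi22Class.mem_D.1 hd
      exact ⟨g⁻¹ * k * Fi22Class.z * (g⁻¹ * k)⁻¹, Fi22Class.mem_D.2 ⟨_, rfl⟩, by simp [mul_assoc]⟩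
  · rw [show ((MulAut.conj g).trans e).toMonoidHom = e.toMonoidHom.comp (MulAut.conj g).toMonoidHom from rfl,
      ← Subgroup.map_map, hg, Subgroup.map_map]
    convert Subgroup.map_id X
    ext a
    simp

theorem conjugate_subgroups (e : GG ≃* G) {X₀ : Subgroup GG}
    (hconj : ∀ Y : Subgroup GG, Nat.card Y = Nat.card X₀ → ∃ g : GG, X₀.map (MulAut.conj g).toMonoidHom = Y)
    {X Y : Subgroup G} (hX : Nat.card X = Nat.card X₀) (hY : Nat.card Y = Nat.card X₀) :
    ∃ g : G, X.map (MulAut.conj g).toMonoidHom = Y := by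
  obtain ⟨a, ha⟩ := hconj (X.map e.symm.toMonoidHom)
    (by rw [Subgroup.card_map_of_injective e.symm.injective, hX])
  obtain ⟨b, hb⟩ := hconj (Y.map e.symm.toMonoidHom)
    (by rw [Subgroup.card_map_of_injective e.symm.injective, hY])
  have hX' : X = (X₀.map (MulAut.conj a).toMonoidHom).map e.toMonoidHom := by
    rw [ha, Subgroup.map_map]; symm; convert Subgroup.map_id X; ext; simp
  have hY' : Y = (X₀.map (MulAut.conj b).toMonoidHom).map e.toMonoidHom := by
    rw [hb, Subgroup.map_map]; symm; convert Subgroup.map_id Y; ext; simp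
  refine ⟨e (b * a⁻¹), ?_⟩
  rw [hX', hY']
  simp only [Subgroup.map_map]
  congr 1
  ext u
  simp [mul_assoc]

/-- The data of a normaliser with a Frobenius part and a part generated by transpositions. -/
theorem normalizer_shape {L : LocalCert} (hL : L.Valid) {e : GG ≃* G} {D : Set G} (he : e '' Fi22Class.D = D)
    (hconj : ∀ Y : Subgroup GG, Nat.card Y = L.R.m →
      ∃ g : GG, (Subgroup.zpowers L.x).map (MulAut.conj g).toMonoidHom = Y)
    {X : Subgroup G} (hX : Nat.card X = L.R.m) :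
    ∃ F : Subgroup G, Nat.card F = L.R.m * L.e ∧ X ≤ F ∧
      F ⊓ Subgroup.centralizer ((X : Subgroup G) : Set G) = X ∧
      F ⊓ Subgroup.closure (D ∩ (Subgroup.centralizer ((X : Subgroup G) : Set G) : Set G)) = ⊥ ∧
      (∀ x ∈ F, ∀ y ∈ Subgroup.closure (D ∩ (Subgroup.centralizer ((X : Subgroup G) : Set G) : Set G)),
        x * y = y * x) ∧
      F ⊔ Subgroup.closure (D ∩ (Subgroup.centralizer ((X : Subgroup G) : Set G) : Set G)) =
        Subgroup.normalizer ((X : Subgroup G) : Set G) ∧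
      Subgroup.centralizer ((X : Subgroup G) : Set G) =
        X ⊔ Subgroup.closure (D ∩ (Subgroup.centralizer ((X : Subgroup G) : Set G) : Set G)) ∧
      (∃ φ : GG ≃* G, φ '' Fi22Class.D = D ∧
        Subgroup.closure (D ∩ (Subgroup.centralizer ((X : Subgroup G) : Set G) : Set G)) =
          L.K.map φ.toMonoidHom) := by
  obtain ⟨φ, hφ, hmap⟩ := exists_frame he (X₀ := Subgroup.zpowers L.x)
    (by rw [LocalCert.card_X hL]; exact hconj) (X := X) (by rw [LocalCert.card_X hL, hX])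
  have hC : Subgroup.centralizer ((X : Subgroup G) : Set G) =
      (Subgroup.centralizer ((Subgroup.zpowers L.x : Subgroup GG) : Set GG)).map φ.toMonoidHom := by
    rw [map_centralizer_equiv, ← hmap, Subgroup.coe_map]; rfl
  have hK : Subgroup.closure (D ∩ (Subgroup.centralizer ((X : Subgroup G) : Set G) : Set G)) =
      L.K.map φ.toMonoidHom := by
    rw [LocalCert.K, ← LocalCert.D_inter hL, MonoidHom.map_closure, hC, Subgroup.coe_map, ← hφ]
    exact congrArg Subgroup.closure (Set.image_inter φ.injective).symm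
  refine ⟨L.F.map φ.toMonoidHom, ?_, ?_, ?_, ?_, ?_, ?_, ?_, φ, hφ, hK⟩
  · rw [Subgroup.card_map_of_injective φ.injective, LocalCert.card_F hL]
  · rw [← hmap]; exact Subgroup.map_mono (LocalCert.X_le_F hL)
  · rw [hC, ← Subgroup.map_inf _ _ _ φ.injective, LocalCert.F_inf_centralizer hL, hmap]
  · rw [hK, ← Subgroup.map_inf _ _ _ φ.injective, LocalCert.F_inf_K hL, Subgroup.map_bot]
  · rw [hK]
    rintro _ ⟨a, ha, rfl⟩ _ ⟨b, hb, rfl⟩
    rw [← map_mul, ← map_mul, LocalCert.F_commute hL ha hb]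
  · rw [hK, ← Subgroup.map_sup, LocalCert.F_sup_K hL, Subgroup.map_equiv_normalizer_eq, hmap]
  · rw [hK, hC, LocalCert.centralizer_eq hL, Subgroup.map_sup, hmap]

theorem order_five (e : GG ≃* G) {D : Set G} (he : e '' Fi22Class.D = D) :
    (∀ X Y : Subgroup G, Nat.card X = 5 → Nat.card Y = 5 → ∃ g : G, X.map (MulAut.conj g).toMonoidHom = Y) ∧
    ∀ X : Subgroup G, Nat.card X = 5 → ∃ F : Subgroup G, Nat.card ↥F = 20 ∧ X ≤ F ∧
      F ⊓ Subgroup.centralizer ((X : Subgroup G) : Set G) = X ∧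
      F ⊓ Subgroup.closure (D ∩ (Subgroup.centralizer ((X : Subgroup G) : Set G) : Set G)) = ⊥ ∧
      (∀ x ∈ F, ∀ y ∈ Subgroup.closure (D ∩ (Subgroup.centralizer ((X : Subgroup G) : Set G) : Set G)),
        x * y = y * x) ∧
      F ⊔ Subgroup.closure (D ∩ (Subgroup.centralizer ((X : Subgroup G) : Set G) : Set G)) =
        Subgroup.normalizer ((X : Subgroup G) : Set G) ∧
      Nonempty (↥(Subgroup.closure (D ∩ (Subgroup.centralizer ((X : Subgroup G) : Set G) : Set G))) ≃*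
        Equiv.Perm (Fin 5)) := by
  have hc : Nat.card (Subgroup.zpowers P5.L.x) = 5 := LocalCert.card_X P5.L_valid
  refine ⟨fun X Y hX hY => conjugate_subgroups e (fun Z hZ => conj5 (hZ.trans hc)) (hX.trans hc.symm)
    (hY.trans hc.symm), fun X hX => ?_⟩
  obtain ⟨F, h1, h2, h3, h4, h5, h6, -, φ, -, hK⟩ :=
    normalizer_shape P5.L_valid he (fun Y hY => conj5 hY) (X := X) hX
  refine ⟨F, h1, h2, h3, h4, h5, h6, ?_⟩
  obtain ⟨ι⟩ := P5.K_iso
  rw [hK]
  exact ⟨(Subgroup.equivMapOfInjective _ _ φ.injective).symm.trans ι⟩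

theorem order_seven (e : GG ≃* G) {D : Set G} (he : e '' Fi22Class.D = D) :
    (∀ X Y : Subgroup G, Nat.card X = 7 → Nat.card Y = 7 → ∃ g : G, X.map (MulAut.conj g).toMonoidHom = Y) ∧
    ∀ X : Subgroup G, Nat.card X = 7 → ∃ F : Subgroup G, Nat.card ↥F = 42 ∧ X ≤ F ∧
      F ⊓ Subgroup.centralizer ((X : Subgroup G) : Set G) = X ∧
      F ⊓ Subgroup.closure (D ∩ (Subgroup.centralizer ((X : Subgroup G) : Set G) : Set G)) = ⊥ ∧
      (∀ x ∈ F, ∀ y ∈ Subgroup.closure (D ∩ (Subgroup.centralizer ((X : Subgroup G) : Set G) : Set G)),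
        x * y = y * x) ∧
      F ⊔ Subgroup.closure (D ∩ (Subgroup.centralizer ((X : Subgroup G) : Set G) : Set G)) =
        Subgroup.normalizer ((X : Subgroup G) : Set G) ∧
      Nonempty (↥(Subgroup.closure (D ∩ (Subgroup.centralizer ((X : Subgroup G) : Set G) : Set G))) ≃*
        Equiv.Perm (Fin 3)) := by
  have hc : Nat.card (Subgroup.zpowers P7.L.x) = 7 := LocalCert.card_X P7.L_valid
  refine ⟨fun X Y hX hY => conjugate_subgroups e (fun Z hZ => conj7 (hZ.trans hc)) (hX.trans hc.symm)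
    (hY.trans hc.symm), fun X hX => ?_⟩
  obtain ⟨F, h1, h2, h3, h4, h5, h6, -, φ, -, hK⟩ :=
    normalizer_shape P7.L_valid he (fun Y hY => conj7 hY) (X := X) hX
  refine ⟨F, h1, h2, h3, h4, h5, h6, ?_⟩
  obtain ⟨ι⟩ := P7.K_iso
  rw [hK]
  exact ⟨(Subgroup.equivMapOfInjective _ _ φ.injective).symm.trans ι⟩

theorem order_eleven (e : GG ≃* G) {D : Set G} (he : e '' Fi22Class.D = D) :
    (∀ X Y : Subgroup G, Nat.card X = 11 → Nat.card Y = 11 → ∃ g : G, X.map (MulAut.conj g).toMonoidHom = Y) ∧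
    ∀ X : Subgroup G, Nat.card X = 11 → ∃ (F : Subgroup G) (d : G), d ∈ D ∧ Nat.card ↥F = 55 ∧ X ≤ F ∧
      F ⊓ Subgroup.centralizer ((X : Subgroup G) : Set G) = X ∧ F ⊓ Subgroup.zpowers d = ⊥ ∧
      (∀ x ∈ F, ∀ y ∈ Subgroup.zpowers d, x * y = y * x) ∧
      F ⊔ Subgroup.zpowers d = Subgroup.normalizer ((X : Subgroup G) : Set G) := by
  have hc : Nat.card (Subgroup.zpowers P11.L.x) = 11 := LocalCert.card_X P11.L_valid
  refine ⟨fun X Y hX hY => conjugate_subgroups e (fun Z hZ => conj11 (hZ.trans hc)) (hX.trans hc.symm)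
    (hY.trans hc.symm), fun X hX => ?_⟩
  obtain ⟨F, h1, h2, h3, h4, h5, h6, -, φ, hφ, hK⟩ :=
    normalizer_shape P11.L_valid he (fun Y hY => conj11 hY) (X := X) hX
  have hKz : P11.L.K = Subgroup.zpowers (trN 3036) := by
    rw [LocalCert.K, Subgroup.zpowers_eq_closure]
    refine congrArg Subgroup.closure ?_
    ext d
    rw [show P11.L.R.fixs = [3036] from rfl]
    simp [eq_comm]
  have hd : Subgroup.closure (D ∩ (Subgroup.centralizer ((X : Subgroup G) : Set G) : Set G)) =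
      Subgroup.zpowers (φ (trN 3036)) := by
    rw [hK, hKz, MonoidHom.map_zpowers]; rfl
  refine ⟨F, φ (trN 3036), hφ ▸ Set.mem_image_of_mem φ (trN_mem (by norm_num)), h1, h2, h3, hd ▸ h4,
    hd ▸ h5, hd ▸ h6⟩

theorem order_thirteen (e : GG ≃* G) {D : Set G} (he : e '' Fi22Class.D = D) :
    (∀ X Y : Subgroup G, Nat.card X = 13 → Nat.card Y = 13 → ∃ g : G, X.map (MulAut.conj g).toMonoidHom = Y) ∧
    ∀ X : Subgroup G, Nat.card X = 13 → Nat.card ↥(Subgroup.normalizer ((X : Subgroup G) : Set G)) = 78 ∧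
      Subgroup.centralizer ((X : Subgroup G) : Set G) = X := by
  have hc : Nat.card (Subgroup.zpowers P13.L.x) = 13 := LocalCert.card_X P13.L_valid
  refine ⟨fun X Y hX hY => conjugate_subgroups e (fun Z hZ => conj13 (hZ.trans hc)) (hX.trans hc.symm)
    (hY.trans hc.symm), fun X hX => ?_⟩
  obtain ⟨F, h1, -, -, -, -, h6, h7, φ, -, hK⟩ :=
    normalizer_shape P13.L_valid he (fun Y hY => conj13 hY) (X := X) hX
  have hK0 : P13.L.K = ⊥ := by
    rw [LocalCert.K]
    rw [show P13.L.R.fixs = [] from rfl]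
    simp
  rw [hK0, Subgroup.map_bot] at hK
  rw [hK, sup_bot_eq] at h6 h7
  exact ⟨h6 ▸ h1, h7⟩

end Cfsg.Agent.Fi22Local
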