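import Cfsg.Agent.Lib.Fi22Local.ThreeFusionData
import Cfsg.Agent.Lib.Fi22Local.Sylow

/-!
Elements and subgroups of order three of the presented Fi22: four classes, their centralisers and
normalisers, and a Sylow 3-subgroup.
-/

set_option autoImplicit false
set_option maxRecDepth 100000

namespace Cfsg.Agent.Fi22Local.Three

open Cfsg.Agent.CosetCert
open Cfsg.Agent.FischerPresented
open Cfsg.Agent.Fi22Local.Triple (pfix)
open ThreePc

/-- The representatives. -/
noncomputable def u (i : Fin 4) : GG := el (ThreeFusion.us.getD i [])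

/-- The orders of their centralisers. -/
def cOrd : Fin 4 → ℕ := ![19595520, 139968, 2519424, 17496]

theorem card_C (i : Fin 4) : Nat.card (Subgroup.centralizer ({u i} : Set GG)) = cOrd i := by
  fin_cases i
  · exact U6.card_centralizer
  · exact U4.card_centralizer
  · exact U3.card_centralizer
  · exact U0.card_centralizer

theorem u_pow (i : Fin 4) : u i ^ 3 = 1 := by
  fin_cases i
  · exact Chain.x_pow U6.valid
  · exact Chain.x_pow U4.valid
  · exact Chain.x_pow U3.valid
  · exact Chain.x_pow U0.valid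

theorem cOrd_injective : Function.Injective cOrd := by decide

theorem u_ne (i : Fin 4) : u i ≠ 1 := by
  intro h
  have hc := card_C i
  have hset : Subgroup.centralizer ({u i} : Set GG) = ⊤ := by
    rw [h, eq_top_iff]
    exact fun g _ => Subgroup.mem_centralizer_singleton_iff.2 (by simp)
  rw [hset, Subgroup.card_top, Fi22.order_facts.2.1] at hc
  revert hc
  fin_cases i <;> decide

theorem orderOf_u (i : Fin 4) : orderOf (u i) = 3 := by
  have := Fact.mk Nat.prime_three
  exact orderOf_eq_prime (u_pow i) (u_ne i)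

theorem card_zpowers_u (i : Fin 4) : Nat.card (Subgroup.zpowers (u i)) = 3 := by
  rw [Nat.card_zpowers, orderOf_u]

theorem exists_inv (i : Fin 4) : ∃ y : GG, y * u i * y⁻¹ = (u i)⁻¹ := by
  have h := el_eqF (allBelow_spec ThreeFusion.invs_ok i.2)
  rw [el_append, el_append, el_rep] at h
  refine ⟨el (ThreeFusion.invs.getD i []), ?_⟩
  change el (ThreeFusion.invs.getD i []) * u i = u i ^ 2 * el (ThreeFusion.invs.getD i []) at h
  rw [h, mul_inv_cancel_right, eq_inv_iff_mul_eq_one, ← pow_succ, u_pow]

theorem centralizer_conj (g x : GG) : Subgroup.centralizer ({g * x * g⁻¹} : Set GG) =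
    (Subgroup.centralizer ({x} : Set GG)).map (MulAut.conj g).toMonoidHom := by
  ext a
  rw [Subgroup.mem_map_equiv, Subgroup.mem_centralizer_singleton_iff, Subgroup.mem_centralizer_singleton_iff]
  simp only [MulAut.conj_symm_apply, mul_assoc]
  constructor
  · intro h
    refine mul_left_cancel (a := g) (mul_right_cancel (b := g⁻¹) ?_)
    simpa [mul_assoc] using h
  · intro h
    have := congrArg (fun z => g * z * g⁻¹) h
    simpa [mul_assoc] using this

theorem card_centralizer_conj (g x : GG) : Nat.card (Subgroup.centralizer ({g * x * g⁻¹} : Set GG)) =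
    Nat.card (Subgroup.centralizer ({x} : Set GG)) := by
  rw [centralizer_conj, Subgroup.card_map_of_injective (MulAut.conj g).injective]

theorem centralizer_inv (x : GG) : Subgroup.centralizer ({x⁻¹} : Set GG) = Subgroup.centralizer ({x} : Set GG) := by
  ext a
  rw [Subgroup.mem_centralizer_singleton_iff, Subgroup.mem_centralizer_singleton_iff]
  exact Commute.inv_right_iff

/-- The Sylow 3-subgroup of the certificate. -/
noncomputable def P : Subgroup GG := S ThreeFusion.tbl 0

theorem card_P : Nat.card P = 3 ^ 9 := by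
  haveI := Fi22.order_facts.1
  refine le_antisymm (card_S_le ThreeFusion.table_ok 9 0 rfl) ?_
  have hmem : ∀ e : List ℕ, el (pcW ThreeFusion.pcg e) ∈ P := fun e =>
    pcW_drop_mem (T := ThreeFusion.tbl) 0 e
  have h0 := card_step_le (S := P) ThreeFusion.grow0_ok (by
    intro w hw
    simp only [ThreeFusion.sw0, List.mem_cons, List.not_mem_nil, or_false] at hw
    rcases hw with h | h | h | h | h | h | h <;> exact h ▸ hmem _)
  have h1 := card_step_le (S := P ⊓ pfix [ThreeFusion.pin0]) ThreeFusion.grow1_ok (by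
    intro w hw
    have hwok : wok w = true := by
      have := ThreeFusion.grow1_ok
      simp only [growOK, Bool.and_eq_true, List.all_eq_true] at this
      exact this.2.1 w hw
    refine ⟨?_, fun c hc => ?_⟩
    · simp only [ThreeFusion.sw1, List.mem_cons, List.not_mem_nil, or_false] at hw
      rcases hw with h | h <;> exact h ▸ hmem _
    · rw [List.mem_singleton] at hc
      subst hc
      have := List.all_eq_true.1 ThreeFusion.sw1_fix w hw
      rw [apt_el hwok (by decide), ← (actF_eq hwok (by decide)).1]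
      exact Nat.eq_of_beq_eq_true this)
  have h2 : 1 ≤ Nat.card ((P ⊓ pfix [ThreeFusion.pin0]) ⊓ pfix [ThreeFusion.pin1] : Subgroup GG) := Nat.card_pos
  have : 2187 * (9 * 1) ≤ Nat.card P :=
    (Nat.mul_le_mul_left _ ((Nat.mul_le_mul_left _ h2).trans h1)).trans h0
  omega

theorem factorization_three : (Nat.card GG).factorization 3 = 9 :=
  factorization_GG (c := 2 ^ 17 * 5 ^ 2 * 7 * 11 * 13) Nat.prime_three (by rw [card_GG]; ring) (by norm_num)

/-- The certified subgroup as a Sylow subgroup. -/
noncomputable def sylow : Sylow 3 GG :=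
  haveI := Fact.mk Nat.prime_three
  haveI := Fi22.order_facts.1
  Sylow.ofCard P (by rw [card_P, factorization_three])

/-- Every element of order three is conjugate to a representative. -/
theorem classify {y : GG} (h3 : y ^ 3 = 1) (h1 : y ≠ 1) : ∃ (i : Fin 4) (g : GG), g * y * g⁻¹ = u i := by
  haveI := Fact.mk Nat.prime_three
  haveI := Fi22.order_facts.1
  have hord : orderOf y = 3 := orderOf_eq_prime h3 h1
  have hp : IsPGroup 3 (Subgroup.zpowers y) :=
    IsPGroup.of_card (n := 1) (by rw [Nat.card_zpowers, hord, pow_one])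
  obtain ⟨Q, hQ⟩ := hp.exists_le_sylow
  obtain ⟨g, hg⟩ := MulAction.exists_smul_eq GG Q sylow
  have hy : g * y * g⁻¹ ∈ P := by
    show g * y * g⁻¹ ∈ (sylow : Subgroup GG)
    rw [← hg, Sylow.coe_subgroup_smul]
    exact ⟨y, hQ (Subgroup.mem_zpowers y), rfl⟩
  have hq := chk_sound ThreeFusion.table_ok ThreeFusion.tree [] ThreeFusion.tree_ok _ hy
  rw [show el (pcW ThreeFusion.tbl.g []) = 1 from el_nil, one_mul] at hq
  obtain ⟨k, hk, c, hc⟩ := hq (by rw [conj_pow, h3, mul_one, mul_inv_cancel]) (by simpa using h1)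
  refine ⟨⟨k, hk⟩, c * g, ?_⟩
  show c * g * y * (c * g)⁻¹ = el (ThreeFusion.us.getD k [])
  rw [mul_inv_rev, show c * g * y * (g⁻¹ * c⁻¹) = c * (g * y * g⁻¹) * c⁻¹ by group, hc, mul_inv_cancel_right]
  rfl

theorem eq_of_conj {i j : Fin 4} {g : GG}
    (h : (Subgroup.zpowers (u i)).map (MulAut.conj g).toMonoidHom = Subgroup.zpowers (u j)) : i = j := by
  refine cOrd_injective ?_
  rw [← card_C i, ← card_C j, ← card_centralizer_conj g (u i)]
  have hm : g * u i * g⁻¹ ∈ Subgroup.zpowers (u j) := h ▸ ⟨u i, Subgroup.mem_zpowers _, rfl⟩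
  haveI := Fi22.order_facts.1
  rw [← mem_powers_iff_mem_zpowers] at hm
  obtain ⟨m, hm'⟩ := hm
  simp only at hm'
  rw [← pow_mod_orderOf, orderOf_u] at hm'
  have : m % 3 < 3 := Nat.mod_lt _ (by norm_num)
  interval_cases hmm : m % 3
  · exfalso
    rw [pow_zero, eq_comm] at hm'
    exact u_ne i (by simpa using hm')
  · rw [← hm', pow_one]
  · rw [← hm', show u j ^ 2 = (u j)⁻¹ from eq_inv_iff_mul_eq_one.2 (by rw [← pow_succ, u_pow]), centralizer_inv]

/-- Every subgroup of order three is conjugate to a representative one. -/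
theorem classify_subgroup {X : Subgroup GG} (hX : Nat.card X = 3) :
    ∃ (i : Fin 4) (g : GG), (Subgroup.zpowers (u i)).map (MulAut.conj g).toMonoidHom = X := by
  haveI := Fact.mk Nat.prime_three
  haveI := Fi22.order_facts.1
  obtain ⟨y, hy⟩ := isCyclic_iff_exists_zpowers_eq_top.1 (isCyclic_of_prime_card (α := X) hX)
  have hgen : Subgroup.zpowers (y : GG) = X := by
    have := congrArg (Subgroup.map X.subtype) hy
    rwa [MonoidHom.map_zpowers, ← MonoidHom.range_eq_map, Subgroup.range_subtype] at this
  have hord : orderOf (y : GG) = 3 := by rw [← Nat.card_zpowers, hgen, hX]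
  obtain ⟨i, g, hg⟩ := classify (y := (y : GG)) (by rw [← hord]; exact pow_orderOf_eq_one _)
    (fun e => by rw [e, orderOf_one] at hord; norm_num at hord)
  refine ⟨i, g⁻¹, ?_⟩
  rw [MonoidHom.map_zpowers, ← hgen]
  congr 1
  rw [← hg]
  simp [mul_assoc]

theorem centralizer_zpowers (x : GG) :
    Subgroup.centralizer ((Subgroup.zpowers x : Subgroup GG) : Set GG) = Subgroup.centralizer ({x} : Set GG) := by
  rw [Subgroup.zpowers_eq_closure, Subgroup.centralizer_closure]

theorem normalizer_mem {i : Fin 4} {g : GG} :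
    g ∈ Subgroup.normalizer ((Subgroup.zpowers (u i) : Subgroup GG) : Set GG) ↔
      g * u i * g⁻¹ = u i ∨ g * u i * g⁻¹ = (u i)⁻¹ := by
  haveI := Fi22.order_facts.1
  constructor
  · intro h
    have hm := (Subgroup.mem_normalizer_iff.1 h (u i)).1 (Subgroup.mem_zpowers _)
    rw [← mem_powers_iff_mem_zpowers] at hm
    obtain ⟨m, hm'⟩ := hm
    simp only at hm'
    rw [← pow_mod_orderOf, orderOf_u] at hm'
    have : m % 3 < 3 := Nat.mod_lt _ (by norm_num)
    interval_cases hmm : m % 3
    · exfalso
      rw [pow_zero, eq_comm] at hm'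
      exact u_ne i (by simpa using hm')
    · exact Or.inl (by rw [← hm', pow_one])
    · exact Or.inr (by rw [← hm', eq_inv_iff_mul_eq_one, ← pow_succ, u_pow])
  · intro h
    have hmap : (Subgroup.zpowers (u i)).map (MulAut.conj g).toMonoidHom = Subgroup.zpowers (u i) := by
      rw [MonoidHom.map_zpowers]
      rcases h with h | h
      · exact congrArg Subgroup.zpowers h
      · exact (congrArg Subgroup.zpowers h).trans (Subgroup.zpowers_inv)
    rw [Subgroup.mem_normalizer_iff]
    intro z
    conv_rhs => rw [← hmap]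
    constructor
    · exact fun hz => ⟨z, hz, rfl⟩
    · rintro ⟨w, hw, e⟩
      obtain rfl := (MulAut.conj g).injective e
      exact hw

theorem card_N (i : Fin 4) :
    Nat.card (Subgroup.normalizer ((Subgroup.zpowers (u i) : Subgroup GG) : Set GG)) = 2 * cOrd i := by
  classical
  haveI := Fi22.order_facts.1
  obtain ⟨y, hy⟩ := exists_inv i
  set N := Subgroup.normalizer ((Subgroup.zpowers (u i) : Subgroup GG) : Set GG) with hN
  set C := Subgroup.centralizer ({u i} : Set GG) with hC
  have hyN : y ∈ N := normalizer_mem.2 (Or.inr hy)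
  have hCN : C ≤ N := fun g hg => normalizer_mem.2 (Or.inl (by
    rw [(Subgroup.mem_centralizer_singleton_iff.1 hg), mul_inv_cancel_right]))
  have hne : u i ≠ (u i)⁻¹ := fun e => by
    have h2 : u i ^ 2 = 1 := by rw [pow_two]; nth_rw 2 [e]; rw [mul_inv_cancel]
    have := orderOf_dvd_of_pow_eq_one h2
    rw [orderOf_u] at this
    norm_num at this
  have hidx : (C.subgroupOf N).index = 2 := by
    rw [Subgroup.index_eq_two_iff]
    refine ⟨⟨y, hyN⟩, fun b => ?_⟩
    simp only [Subgroup.mem_subgroupOf, Subgroup.coe_mul, hC, Subgroup.mem_centralizer_singleton_iff]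
    rcases normalizer_mem.1 b.2 with hb | hb
    · refine Or.inr ⟨mul_inv_eq_iff_eq_mul.1 hb, fun hby => hne ?_⟩
      have e1 : (b : GG) * y * u i * ((b : GG) * y)⁻¹ = u i := by rw [hby, mul_inv_cancel_right]
      rw [mul_inv_rev, show (b : GG) * y * u i * (y⁻¹ * (b : GG)⁻¹) = b * (y * u i * y⁻¹) * (b : GG)⁻¹ by group,
        hy, ← conj_inv, hb] at e1
      exact e1.symm
    · refine Or.inl ⟨?_, fun hbu => hne ?_⟩
      · refine mul_inv_eq_iff_eq_mul.1 ?_
        rw [mul_inv_rev, show (b : GG) * y * u i * (y⁻¹ * (b : GG)⁻¹) = b * (y * u i * y⁻¹) * (b : GG)⁻¹ by group,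
          hy, ← conj_inv, hb, inv_inv]
      · rw [hbu, mul_inv_cancel_right] at hb
        exact hb
  have := Subgroup.card_mul_index (C.subgroupOf N)
  rw [hidx, Nat.card_congr (Subgroup.subgroupOfEquivOfLe hCN).toEquiv, card_C] at this
  rw [← this, mul_comm]

end Cfsg.Agent.Fi22Local.Three
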