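import Cfsg.Agent.Lib.Fi22Local.Data5
import Cfsg.Agent.Lib.Fi22Local.PairIso

/-! The normaliser of a subgroup of order 5 in the presented Fi22: certificate. -/

set_option autoImplicit false
set_option maxRecDepth 100000

namespace Cfsg.Agent.Fi22Local.P5

open Cfsg.Agent.CosetCert

/-- The certificate. -/
noncomputable def L : LocalCert where
  R := R
  yw := yw
  e := 4
  k0 := 2
  moves := [[(0, []), (1, [2]), (2, [1]), (136, [1222, 1225]), (1222, [1223]), (1223, [1222]), (1224, [1225]), (1225, [1224]), (1226, [1, 1225]), (1302, [1, 1223])],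
    [(1, []), (2, [0]), (1222, [1302]), (1223, [0, 1302]), (1224, [1226]), (1225, [0, 1226])],
    [(1226, []), (1302, [136])],
    [(136, [])]]
  forms := [(0, 0, []), (1, 0, []), (2, 2, []), (3, 4, [])]

theorem L_valid : L.Valid := ⟨valid, by decide +kernel, show Nat.Prime 5 by norm_num⟩

/-- Pairs labelling the fixed cosets. -/
noncomputable def lab : L.PairLabel 5 where
  pr := fun i => ![(0, 1), (0, 2), (1, 2), (3, 4), (0, 3), (1, 3), (0, 4), (1, 4), (2, 4), (2, 3)] (Fin.cast rfl i)
  idx := fun a b => Fin.cast rfl ((![![0, 0, 1, 4, 6], ![0, 0, 2, 5, 7], ![1, 2, 0, 9, 8], ![4, 5, 9, 0, 3], ![6, 7, 8, 3, 0]] : Fin 5 → Fin 5 → Fin 10) a b)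

theorem lab_valid : lab.Valid :=
  ⟨by decide +kernel, by decide +kernel, by decide +kernel, by decide +kernel, by decide +kernel,
    by decide +kernel, fun e he he1 => by
    have h : L.R.inn.all (fun e => !(Nat.beq e.1 1) || sameW e.2.2 []) = true := by decide +kernel
    have := List.all_eq_true.1 h e he
    rw [he1] at this
    simp at this
    rw [el_eq this, el_nil]⟩

theorem K_iso : Nonempty (L.K ≃* Equiv.Perm (Fin 5)) :=
  LocalCert.PairLabel.nonempty_iso lab_valid L_valid (by decide +kernel)

end Cfsg.Agent.Fi22Local.P5
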