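import Cfsg.Agent.Lib.Fi22Local.TripleTransport

/-!
Orbit lists that are only grown (no closure check): every listed point is reached, and the orbit is exact
as soon as all other points are excluded.
-/

set_option autoImplicit false
set_option maxRecDepth 100000

namespace Cfsg.Agent.Fi22Local

open Cfsg.Agent.CosetCert
open Cfsg.Agent.CosetData
open Cfsg.Agent.FischerPresented
open Cfsg.Agent.Fi22Local.Triple (pfix card_eq_image_mul image_eq_iff)

/-- A grown list of points has the stated length. -/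
noncomputable def growOK (sw : List (List ℕ)) (c : ℕ) (l : List (ℕ × ℕ)) (size : ℕ) : Bool :=
  Nat.blt c 3510 && ((sw.all fun w => wok w) &&
    match grow Fi22B.P sw l [c] (insBit 0 c) with
    | some (o, _) => Nat.beq o.length size
    | none => false)

/-- The points of a grown list. -/
noncomputable def growBits (sw : List (List ℕ)) (c : ℕ) (l : List (ℕ × ℕ)) : ℕ :=
  orbitBits Fi22B.P sw c l

theorem grow_facts {S : Subgroup GG} {sw : List (List ℕ)} {c : ℕ} {l : List (ℕ × ℕ)} {size : ℕ}
    (h : growOK sw c l size = true) (hS : ∀ w ∈ sw, el w ∈ S) :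
    (∀ p, bit (growBits sw c l) p = true → ∃ g ∈ S, apt g c = p) ∧
      {p | bit (growBits sw c l) p = true}.ncard = size := by
  simp only [growOK, Bool.and_eq_true, Nat.blt_eq] at h
  obtain ⟨hc, hlet, hm⟩ := h
  cases hg : grow Fi22B.P sw l [c] (insBit 0 c) with
  | none => simp [hg] at hm
  | some om =>
    obtain ⟨o, m⟩ := om
    simp only [hg, Nat.beq_eq] at hm
    rw [growBits, orbitBits, hg]
    obtain ⟨k1, k2, k3, -⟩ := grow_spec (R := fun t => ∃ g ∈ S, apt g c = t)
      (fun t ⟨g, hgS, hgt⟩ w hw => ⟨el w * g, S.mul_mem (hS w hw) hgS, by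
        rw [apt_mul, apt_el (List.all_eq_true.1 hlet w hw) (apt_lt g hc), hgt]; rfl⟩)
      l [c] (insBit 0 c) o m
      (fun t => ⟨fun ht => by
          rcases bit_insBit ht with rfl | ht
          · exact List.mem_singleton_self _
          · rw [bit_zero] at ht; exact Bool.noConfusion ht,
        fun ht => by rw [List.mem_singleton.1 ht]; exact bit_insBit_self _ _⟩)
      (fun t ht => ⟨1, S.one_mem, by rw [List.mem_singleton.1 ht, apt_one]⟩)
      (List.nodup_singleton c) hg
    refine ⟨fun p hp => k2 p ((k1 p).1 hp), ?_⟩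
    have he : {p | bit m p = true} = ↑o.toFinset := by
      ext p
      simp only [Set.mem_setOf_eq, List.coe_toFinset]
      exact k1 p
    rw [he, Set.ncard_coe_finset, List.toFinset_card_of_nodup k3, hm]

/-- Orbit–stabiliser for a certified exact orbit. -/
theorem card_step {S : Subgroup GG} {sw : List (List ℕ)} {c : ℕ} {l : List (ℕ × ℕ)} {size : ℕ}
    (h : growOK sw c l size = true) (hS : ∀ w ∈ sw, el w ∈ S)
    (hclosed : ∀ g ∈ S, bit (growBits sw c l) (apt g c) = true) :
    Nat.card S = size * Nat.card (S ⊓ pfix [c] : Subgroup GG) := by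
  obtain ⟨h1, h2⟩ := grow_facts h hS
  rw [card_eq_image_mul (S := S) (T := S ⊓ pfix [c]) (fun g => apt g c) inf_le_left fun g hg k hk => ?_]
  · congr 1
    rw [← h2]
    refine congrArg Set.ncard (Set.ext fun p => ⟨?_, fun hp => ?_⟩)
    · rintro ⟨g, hg, rfl⟩; exact hclosed g hg
    · obtain ⟨g, hg, hgp⟩ := h1 p hp; exact ⟨g, hg, hgp⟩
  · rw [image_eq_iff]
    refine ⟨fun e => ⟨S.mul_mem (S.inv_mem hg) hk, fun d hd => ?_⟩, fun e => e.2 c List.mem_cons_self⟩
    rw [List.mem_singleton.1 hd]; exact e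

/-- A lower bound from a grown orbit. -/
theorem card_step_le {S : Subgroup GG} {sw : List (List ℕ)} {c : ℕ} {l : List (ℕ × ℕ)} {size : ℕ}
    (h : growOK sw c l size = true) (hS : ∀ w ∈ sw, el w ∈ S) :
    size * Nat.card (S ⊓ pfix [c] : Subgroup GG) ≤ Nat.card S := by
  obtain ⟨h1, h2⟩ := grow_facts h hS
  rw [card_eq_image_mul (S := S) (T := S ⊓ pfix [c]) (fun g => apt g c) inf_le_left fun g hg k hk => ?_]
  · refine Nat.mul_le_mul_right _ ?_
    rw [← h2]
    refine Set.ncard_le_ncard (fun p hp => ?_) ?_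
    · obtain ⟨g, hg, hgp⟩ := h1 p hp; exact ⟨g, hg, hgp⟩
    · haveI := Fi22.order_facts.1
      exact (Set.toFinite (S : Set GG)).image _
  · rw [image_eq_iff]
    refine ⟨fun e => ⟨S.mul_mem (S.inv_mem hg) hk, fun d hd => ?_⟩, fun e => e.2 c List.mem_cons_self⟩
    rw [List.mem_singleton.1 hd]; exact e

end Cfsg.Agent.Fi22Local
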