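import Cfsg.Agent.Lib.Fi22Local.ThreeWidth
import Cfsg.Agent.Lib.Fischer.Dihedral

/-!
The normaliser of the subgroup generated by the product of two non-commuting transpositions of presented Fi22.
-/

set_option autoImplicit false
set_option maxRecDepth 100000
set_option linter.style.haveILetI false

namespace Cfsg.Agent.Fi22Local.PairSix

open Cfsg.Agent.CosetCert
open Cfsg.Agent.CosetData
open Cfsg.Agent.FischerPresented
open Cfsg.Agent.Fi22Local.Triple (pfix)

/-- The chain of the centraliser. -/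
noncomputable abbrev L : Chain := Three.U6.L

/-- The first transposition. -/
noncomputable abbrev a₀ : GG := trN 0

/-- The second transposition. -/
noncomputable abbrev d₀ : GG := trN 2

/-- The element of order three. -/
noncomputable abbrev x : GG := Three.u 0

/-- Cosets of the transpositions commuting with both. -/
abbrev F : List ℕ := ThreeWidth.fix6

/-- The joint centraliser. -/
noncomputable def K₀ : Subgroup GG := Subgroup.closure {g | ∃ p ∈ F, g = trN p}

/-- The subgroup generated by the two transpositions. -/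
noncomputable def S₀ : Subgroup GG := Subgroup.closure {a₀, d₀}

theorem x_word : ThreePc.sameWF Three.U6.xw (trW 2 ++ trW 0) = true := by decide +kernel

theorem pair_noncomm : Nat.beq (tappF 0 2) 2 = false := by decide +kernel

theorem F_facts : (F.all fun p => Nat.blt p 3510) = true ∧
    allBelow (fun p => Nat.beq (actF Three.U6.xw p) p == F.any fun q => Nat.beq p q) 3510 = true ∧
    allBelow (fun p => (Nat.beq (tappF 0 p) p && Nat.beq (tappF 2 p) p) == F.any fun q => Nat.beq p q) 3510 = true := by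
  decide +kernel

theorem gens_ok : (L.gens.all fun w => (F.any fun f => wordEq w (trW f)) ||
    (ThreePc.sameWF w Three.U6.xw || ThreePc.sameWF w (rep 2 Three.U6.xw))) = true := by decide +kernel

theorem pins_ok : ((L.pins.take 6).all fun p => F.any fun q => Nat.beq p q) = true ∧
    Nat.beq (tappF (L.pins.getD 0 0) (L.pins.getD 1 0)) (L.pins.getD 1 0) = false := by decide +kernel

theorem orbit0_ok : (F.all fun p => bit (L.obits 0) p) = true := by decide +kernel

theorem orbit1_ok : (F.all fun p => Nat.beq (tappF (L.pins.getD 0 0) p) p || bit (L.obits 1) p) = true := by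
  decide +kernel

theorem cover2 : allBelow (fun p => Nat.beq (tappF 0 p) p ||
    bit (orbitBits Fi22B.P Fi22B.sw 1 Fi22B.orb2) p) 3510 = true := by decide +kernel

theorem F_lt {p : ℕ} (h : p ∈ F) : p < 3510 := by
  have := List.all_eq_true.1 F_facts.1 p h
  exact Nat.blt_eq.mp this

theorem any_iff {p : ℕ} : (F.any fun q => Nat.beq p q) = true ↔ p ∈ F := by
  rw [List.any_eq_true]
  exact ⟨fun ⟨q, hq, e⟩ => Nat.eq_of_beq_eq_true e ▸ hq, fun h => ⟨p, h, Nat.beq_refl p⟩⟩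

theorem commute_x_iff {p : ℕ} (hp : p < 3510) : Commute x (trN p) ↔ p ∈ F := by
  have hw : wok Three.U6.xw = true := by decide +kernel
  rw [← any_iff, show x = el Three.U6.xw from rfl, ← apt_fix_iff _ hp, apt_el hw hp, ← (actF_eq hw hp).1,
    ← beq_iff_eq.1 (allBelow_spec F_facts.2.1 hp), Nat.beq_eq]

theorem commute_pair_iff {p : ℕ} (hp : p < 3510) : Commute a₀ (trN p) ∧ Commute d₀ (trN p) ↔ p ∈ F := by
  rw [← any_iff, ← beq_iff_eq.1 (allBelow_spec F_facts.2.2 hp), Bool.and_eq_true, Nat.beq_eq, Nat.beq_eq,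
    (tappF_eq (show 0 < 3510 by norm_num) hp).1, (tappF_eq (show 2 < 3510 by norm_num) hp).1,
    ← apt_trN (by norm_num) hp, ← apt_trN (by norm_num) hp, apt_fix_iff _ hp, apt_fix_iff _ hp]

theorem not_commute : ¬ Commute a₀ d₀ := by
  intro h
  rw [← apt_fix_iff _ (show 2 < 3510 by norm_num), apt_trN (by norm_num) (by norm_num),
    ← (tappF_eq (show 0 < 3510 by norm_num) (show 2 < 3510 by norm_num)).1] at h
  have := pair_noncomm
  rw [h, Nat.beq_refl] at this
  exact Bool.noConfusion this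

theorem x_eq : x = a₀ * d₀ := by
  have h := ThreePc.el_eqF x_word
  rw [el_append] at h
  exact h

theorem a_sq : a₀ * a₀ = 1 := Triple.trN_sq (by norm_num)

theorem d_sq : d₀ * d₀ = 1 := Triple.trN_sq (by norm_num)

theorem a_inv : a₀⁻¹ = a₀ := inv_eq_of_mul_eq_one_right a_sq

theorem d_inv : d₀⁻¹ = d₀ := inv_eq_of_mul_eq_one_right d_sq

theorem a_conj_x : a₀ * x * a₀⁻¹ = x⁻¹ := by
  rw [x_eq, a_inv, _root_.mul_inv_rev, a_inv, d_inv, ← mul_assoc a₀ a₀, a_sq, one_mul]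

theorem x_pow_commute {i : ℕ} (h : Commute (x ^ i) a₀) : x ^ i = 1 := by
  have h1 : x ^ i = (x ^ i)⁻¹ := by
    rw [← inv_pow, ← a_conj_x, conj_pow, h.symm.eq, mul_inv_cancel_right]
  have h2 : (x ^ i) ^ 2 = 1 := by rw [pow_two]; nth_rw 2 [h1]; rw [mul_inv_cancel]
  have h3 : (x ^ i) ^ 3 = 1 := by rw [← pow_mul, mul_comm, pow_mul, Three.u_pow, one_pow]
  calc x ^ i = (x ^ i) ^ 3 * ((x ^ i) ^ 2)⁻¹ := by group
    _ = 1 := by rw [h2, h3, inv_one, mul_one]

theorem tr_mem {p : ℕ} (hp : p ∈ F) : trN p ∈ K₀ := Subgroup.subset_closure ⟨p, hp, rfl⟩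

theorem K_le : K₀ ≤ Subgroup.centralizer ({a₀, d₀} : Set GG) := by
  refine (Subgroup.closure_le _).2 ?_
  rintro g ⟨p, hp, rfl⟩
  obtain ⟨h1, h2⟩ := (commute_pair_iff (F_lt hp)).2 hp
  rw [SetLike.mem_coe, Subgroup.mem_centralizer_iff]
  rintro h (rfl | rfl)
  · exact h1.eq
  · exact h2.eq

theorem K_commute {k : GG} (hk : k ∈ K₀) : Commute a₀ k ∧ Commute d₀ k ∧ Commute x k := by
  have h1 : Commute a₀ k := Subgroup.mem_centralizer_iff.1 (K_le hk) _ (Or.inl rfl)
  have h2 : Commute d₀ k := Subgroup.mem_centralizer_iff.1 (K_le hk) _ (Or.inr rfl)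
  exact ⟨h1, h2, x_eq ▸ h1.mul_left h2⟩

theorem xpow_fix (i : ℕ) {p : ℕ} (hp : p ∈ F) : apt (x ^ i) p = p :=
  (apt_fix_iff _ (F_lt hp)).2 (((commute_x_iff (F_lt hp)).2 hp).pow_left i)

theorem decompose {c : GG} (hc : Commute c x) : ∃ i : ℕ, ∃ k ∈ K₀, c = k * x ^ i := by
  haveI := Fi22.order_facts.1
  have hmem : c ∈ L.C := Chain.mem_C Three.U6.valid hc
  have hle : L.C ≤ K₀ ⊔ Subgroup.zpowers x := by
    refine (Subgroup.closure_le _).2 ?_
    rintro g ⟨w, hw, rfl⟩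
    have h := List.all_eq_true.1 gens_ok w hw
    simp only [Bool.or_eq_true, List.any_eq_true] at h
    rcases h with ⟨f, hf, e⟩ | h | h
    · rw [eq_of_wordEq e]; exact Subgroup.mem_sup_left (tr_mem hf)
    · rw [ThreePc.el_eqF h]; exact Subgroup.mem_sup_right (Subgroup.mem_zpowers _)
    · rw [ThreePc.el_eqF h, el_rep]; exact Subgroup.mem_sup_right (pow_mem (Subgroup.mem_zpowers _) _)
  have hn : Subgroup.zpowers x ≤ Subgroup.normalizer ((K₀ : Subgroup GG) : Set GG) := by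
    refine Subgroup.zpowers_le.2 (Subgroup.mem_normalizer_iff.2 fun y => ?_)
    constructor
    · intro hy
      rwa [(K_commute hy).2.2.eq, mul_inv_cancel_right]
    · intro hy
      have e := (K_commute hy).2.2.eq
      have h4 : x * y * x⁻¹ = y := by
        refine mul_left_cancel (a := x) ?_
        rw [e]; group
      rwa [h4] at hy
  have h := hle hmem
  rw [← SetLike.mem_coe, Subgroup.coe_mul_of_right_le_normalizer_left _ _ hn] at h
  obtain ⟨k, hk, y, hy, e⟩ := h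
  obtain ⟨i, rfl⟩ := mem_powers_iff_mem_zpowers.2 hy
  exact ⟨i, k, hk, e.symm⟩

theorem K_eq : K₀ = Subgroup.centralizer ({a₀, d₀} : Set GG) := by
  refine le_antisymm K_le fun c hc => ?_
  have h1 : Commute a₀ c := Subgroup.mem_centralizer_iff.1 hc _ (Or.inl rfl)
  have h2 : Commute d₀ c := Subgroup.mem_centralizer_iff.1 hc _ (Or.inr rfl)
  obtain ⟨i, k, hk, rfl⟩ := decompose (x_eq ▸ h1.mul_left h2).symm
  have hxi : Commute a₀ (x ^ i) := by
    have := (K_commute hk).1.inv_right.mul_right h1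
    rwa [inv_mul_cancel_left] at this
  rw [x_pow_commute hxi.symm, mul_one]
  exact hk

theorem x_mem_S : x ∈ S₀ :=
  x_eq ▸ mul_mem (Subgroup.subset_closure (Or.inl rfl)) (Subgroup.subset_closure (Or.inr rfl))

theorem a_mem_S : a₀ ∈ S₀ := Subgroup.subset_closure (Or.inl rfl)

theorem S_forms {s : GG} (hs : s ∈ S₀) : ∃ i : ℕ, s = x ^ i ∨ s = a₀ * x ^ i := by
  haveI := Fi22.order_facts.1
  have hle : S₀ ≤ Subgroup.zpowers a₀ ⊔ Subgroup.zpowers x := by
    refine (Subgroup.closure_le _).2 ?_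
    rintro g (rfl | rfl)
    · exact Subgroup.mem_sup_left (Subgroup.mem_zpowers _)
    · rw [show d₀ = a₀ * x by rw [x_eq, ← mul_assoc, a_sq, one_mul]]
      exact mul_mem (Subgroup.mem_sup_left (Subgroup.mem_zpowers _)) (Subgroup.mem_sup_right (Subgroup.mem_zpowers _))
  have hn : Subgroup.zpowers a₀ ≤ Subgroup.normalizer ((Subgroup.zpowers x : Subgroup GG) : Set GG) :=
    Subgroup.zpowers_le.2 (Three.normalizer_mem.2 (Or.inr a_conj_x))
  have h := hle hs
  rw [← SetLike.mem_coe, Subgroup.coe_mul_of_left_le_normalizer_right _ _ hn] at h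
  obtain ⟨p, hp, y, hy, e⟩ := h
  obtain ⟨j, rfl⟩ := mem_powers_iff_mem_zpowers.2 hp
  obtain ⟨i, rfl⟩ := mem_powers_iff_mem_zpowers.2 hy
  refine ⟨i, ?_⟩
  subst e
  show a₀ ^ j * x ^ i = x ^ i ∨ a₀ ^ j * x ^ i = a₀ * x ^ i
  rcases Nat.even_or_odd' j with ⟨m, rfl | rfl⟩
  · left; rw [pow_mul, pow_two, a_sq, one_pow, one_mul]
  · right; rw [pow_succ, pow_mul, pow_two, a_sq, one_pow, one_mul]

theorem S_inf_K : S₀ ⊓ K₀ = ⊥ := by
  rw [eq_bot_iff]
  rintro s ⟨hs, hk⟩
  obtain ⟨i, rfl | rfl⟩ := S_forms hs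
  · exact Subgroup.mem_bot.2 (x_pow_commute (K_commute hk).1.symm)
  · exfalso
    have h2 : Commute x a₀ := by
      have := (K_commute hk).2.2.mul_right ((Commute.refl x).pow_right i).inv_right
      rwa [mul_inv_cancel_right] at this
    have h3 : x ^ 1 = 1 := x_pow_commute (by rw [pow_one]; exact h2)
    exact Three.u_ne 0 (by rwa [pow_one] at h3)

theorem S_commute_K : ∀ s ∈ S₀, ∀ k ∈ K₀, s * k = k * s := by
  intro s hs k hk
  have : S₀ ≤ Subgroup.centralizer ({k} : Set GG) := by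
    refine (Subgroup.closure_le _).2 ?_
    rintro g (rfl | rfl)
    · exact Subgroup.mem_centralizer_singleton_iff.2 (K_commute hk).1.eq
    · exact Subgroup.mem_centralizer_singleton_iff.2 (K_commute hk).2.1.eq
  exact Subgroup.mem_centralizer_singleton_iff.1 (this hs)

theorem sup_eq : S₀ ⊔ K₀ = Subgroup.normalizer ((Subgroup.zpowers x : Subgroup GG) : Set GG) := by
  refine le_antisymm (sup_le ((Subgroup.closure_le _).2 ?_) fun k hk => ?_) fun g hg => ?_
  · rintro g (rfl | rfl)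
    · exact Three.normalizer_mem.2 (Or.inr a_conj_x)
    · refine Three.normalizer_mem.2 (Or.inr ?_)
      rw [show Three.u 0 = a₀ * d₀ from x_eq, _root_.mul_inv_rev, a_inv, d_inv, ← mul_assoc d₀ a₀,
        mul_assoc, d_sq, mul_one]
  · exact Three.normalizer_mem.2 (Or.inl (by rw [(K_commute hk).2.2.symm.eq, mul_inv_cancel_right]))
  · have hC : ∀ c, Commute c x → c ∈ S₀ ⊔ K₀ := fun c hc => by
      obtain ⟨i, k, hk, rfl⟩ := decompose hc
      exact mul_mem (Subgroup.mem_sup_right hk) (pow_mem (Subgroup.mem_sup_left x_mem_S) i)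
    rcases Three.normalizer_mem.1 hg with h | h
    · exact hC g (mul_inv_eq_iff_eq_mul.1 h)
    · have h2 : a₀ * g * x * (a₀ * g)⁻¹ = x := by
        rw [_root_.mul_inv_rev, show a₀ * g * x * (g⁻¹ * a₀⁻¹) = a₀ * (g * x * g⁻¹) * a₀⁻¹ by group, h, ← conj_inv,
          a_conj_x, inv_inv]
      have := mul_mem (Subgroup.mem_sup_left (T := K₀) a_mem_S) (hC _ (mul_inv_eq_iff_eq_mul.1 h2))
      rwa [← mul_assoc, a_sq, one_mul] at this

theorem pins_mem {l : ℕ} (hl : l < 6) : L.pins.getD l 0 ∈ F := by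
  have hlen : L.pins.length = 8 := rfl
  refine any_iff.1 (List.all_eq_true.1 pins_ok.1 _ ?_)
  rw [List.getD_eq_getElem _ _ (by omega), List.mem_take_iff_getElem]
  exact ⟨l, by omega, rfl⟩

theorem center_K : Subgroup.center K₀ = ⊥ := by
  haveI := Fi22.order_facts.1
  rw [eq_bot_iff]
  rintro ⟨z, hz⟩ hzc
  have hzx : Commute z x := (K_commute hz).2.2.symm
  have hfix : z ∈ L.C ⊓ pfix (L.pins.take 6) := by
    refine ⟨Chain.mem_C Three.U6.valid hzx, (Chain.mem_pfix_take Three.U6.valid (by decide)).2 fun l hl => ?_⟩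
    have hm := pins_mem hl
    rw [apt_fix_iff _ (F_lt hm)]
    exact (congrArg Subtype.val (Subgroup.mem_center_iff.1 hzc ⟨_, tr_mem hm⟩)).symm
  have hx : x ∈ L.C ⊓ pfix (L.pins.take 6) := by
    refine ⟨Chain.mem_C Three.U6.valid (Commute.refl _), (Chain.mem_pfix_take Three.U6.valid (by decide)).2
      fun l hl => ?_⟩
    have := xpow_fix 1 (pins_mem hl)
    rwa [pow_one] at this
  have hc : Nat.card (L.C ⊓ pfix (L.pins.take 6) : Subgroup GG) = 3 := by
    rw [Chain.card_level Three.U6.valid 2 6 rfl]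
    decide +kernel
  have heq : Subgroup.zpowers x = L.C ⊓ pfix (L.pins.take 6) :=
    Subgroup.eq_of_le_of_card_ge (Subgroup.zpowers_le.2 hx) (by rw [hc, Three.card_zpowers_u])
  rw [← heq, ← mem_powers_iff_mem_zpowers] at hfix
  obtain ⟨i, hi⟩ := hfix
  have hi' : x ^ i = z := hi
  refine Subgroup.mem_bot.2 (Subtype.ext ?_)
  show z = 1
  rw [← hi', x_pow_commute (i := i) (hi'.symm ▸ (K_commute hz).1.symm)]

/-! ### Transitivity -/

theorem exists_pair {p q : ℕ} (hp : p < 3510) (hq : q < 3510) (hc : tapp p q ≠ q) :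
    ∃ g : GG, apt g 0 = p ∧ apt g 2 = q := by
  obtain ⟨a, ha⟩ := Triple.exists_base hp
  have key : ∀ {r : ℕ}, r < 3510 → tapp 0 r ≠ r → ∃ b : GG, apt b 0 = 0 ∧ apt b 1 = r := by
    intro r hr hne
    have h := allBelow_spec cover2 hr
    simp only [Bool.or_eq_true, Nat.beq_eq, (tappF_eq (show 0 < 3510 by norm_num) hr).1, hne, false_or] at h
    obtain ⟨b, hb, hbr⟩ := Triple.orbit_mem (S := pfix [0]) Fi22B.orb2_ok
      (fun w hw => Triple.el_mem_pfix (List.all_eq_true.1 Triple.sw_fix w hw)) h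
    exact ⟨b, hb 0 (by simp), hbr⟩
  obtain ⟨b₂, hb20, hb21⟩ := key (show 2 < 3510 by norm_num) (by
    rw [← (tappF_eq (show 0 < 3510 by norm_num) (show 2 < 3510 by norm_num)).1]
    intro h; have := pair_noncomm; rw [h, Nat.beq_refl] at this; exact Bool.noConfusion this)
  have hinv : apt a⁻¹ p = 0 := by rw [← ha, ← apt_mul, inv_mul_cancel, apt_one]
  obtain ⟨b, hb0, hb1⟩ := key (apt_lt a⁻¹ hq) (fun h => hc (by
    rw [← hinv, ← apt_tapp a⁻¹ hp hq] at h
    exact apt_injective _ h))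
  have hi0 : apt b₂⁻¹ 0 = 0 := by conv_lhs => rw [← hb20, ← apt_mul, inv_mul_cancel, apt_one]
  have hi1 : apt b₂⁻¹ 2 = 1 := by conv_lhs => rw [← hb21, ← apt_mul, inv_mul_cancel, apt_one]
  exact ⟨a * b * b₂⁻¹, by rw [apt_mul, hi0, apt_mul, hb0, ha],
    by rw [apt_mul, hi1, apt_mul, hb1, ← apt_mul, mul_inv_cancel, apt_one]⟩

theorem exists_pair_K {p q : ℕ} (hp : p ∈ F) (hq : q ∈ F) (hc : tapp p q ≠ q) :
    ∃ k ∈ K₀, apt k (L.pins.getD 0 0) = p ∧ apt k (L.pins.getD 1 0) = q := by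
  have hlen : L.pins.length = 8 := rfl
  have step : ∀ i < 2, ∀ r, bit (L.obits i) r = true →
      ∃ g ∈ L.C ⊓ pfix (L.pins.take i), apt g (L.pins.getD i 0) = r := fun i hi r hr =>
    (grow_facts (Chain.level' Three.U6.valid (lt_of_lt_of_le hi (by rw [hlen]; norm_num))).2.1
      (fun w hw => Chain.sw_mem Three.U6.valid (lt_of_lt_of_le hi (by rw [hlen]; norm_num)) hw)).1 r hr
  obtain ⟨c₀, hc₀, e₀⟩ := step 0 (by norm_num) p (List.all_eq_true.1 orbit0_ok p hp)
  have hc₀x : Commute c₀ x := Subgroup.mem_centralizer_singleton_iff.1 (Chain.C_le Three.U6.valid hc₀.1)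
  have hq' : apt c₀⁻¹ q ∈ F := by
    rw [← commute_x_iff (apt_lt _ (F_lt hq)), trN_apt _ (F_lt hq)]
    have := ((commute_x_iff (F_lt hq)).2 hq)
    exact ((hc₀x.inv_left.symm).mul_right this).mul_right (by rw [inv_inv]; exact hc₀x.symm)
  have hP0 := pins_mem (show 0 < 6 by norm_num)
  have hne : tapp (L.pins.getD 0 0) (apt c₀⁻¹ q) ≠ apt c₀⁻¹ q := fun h => hc (by
    have := congrArg (apt c₀) h
    rwa [apt_tapp c₀ (F_lt hP0) (apt_lt _ (F_lt hq)), e₀, ← apt_mul, mul_inv_cancel, apt_one] at this)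
  have h1 := List.all_eq_true.1 orbit1_ok _ hq'
  simp only [Bool.or_eq_true, Nat.beq_eq, (tappF_eq (F_lt hP0) (F_lt hq')).1, hne, false_or] at h1
  obtain ⟨c₁, hc₁, e₁⟩ := step 1 (by norm_num) _ h1
  have hfix1 : apt c₁ (L.pins.getD 0 0) = L.pins.getD 0 0 :=
    (Chain.mem_pfix_take Three.U6.valid (show 1 ≤ L.pins.length by rw [hlen]; norm_num)).1 hc₁.2 0 one_pos
  obtain ⟨i, k, hk, e⟩ := decompose (hc₀x.mul_left
    (Subgroup.mem_centralizer_singleton_iff.1 (Chain.C_le Three.U6.valid hc₁.1)))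
  refine ⟨k, hk, ?_, ?_⟩
  · have := congrArg (fun g => apt g (L.pins.getD 0 0)) e
    simp only [apt_mul] at this
    rw [hfix1, e₀, xpow_fix i hP0] at this
    exact this.symm
  · have := congrArg (fun g => apt g (L.pins.getD 1 0)) e
    simp only [apt_mul] at this
    rw [e₁, ← apt_mul, mul_inv_cancel, apt_one, xpow_fix i (pins_mem (show 1 < 6 by norm_num))] at this
    exact this.symm

theorem pins_noncomm : tapp (L.pins.getD 0 0) (L.pins.getD 1 0) ≠ L.pins.getD 1 0 := by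
  intro h
  have := pins_ok.2
  rw [(tappF_eq (F_lt (pins_mem (by norm_num))) (F_lt (pins_mem (by norm_num)))).1, h, Nat.beq_refl] at this
  exact Bool.noConfusion this

theorem exists_in_K : ∃ g : GG, (Subgroup.zpowers x).map (MulAut.conj g).toMonoidHom ≤ K₀ := by
  have hP0 := pins_mem (show 0 < 6 by norm_num)
  have hP1 := pins_mem (show 1 < 6 by norm_num)
  obtain ⟨g, h0, h2⟩ := exists_pair (F_lt hP0) (F_lt hP1) pins_noncomm
  refine ⟨g, ?_⟩
  rw [MonoidHom.map_zpowers, Subgroup.zpowers_le]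
  show g * x * g⁻¹ ∈ K₀
  rw [x_eq, show g * (a₀ * d₀) * g⁻¹ = (g * a₀ * g⁻¹) * (g * d₀ * g⁻¹) by group,
    ← trN_apt g (by norm_num), ← trN_apt g (by norm_num), h0, h2]
  exact mul_mem (tr_mem hP0) (tr_mem hP1)

theorem conj_in_K {g : GG} (hg : (Subgroup.zpowers x).map (MulAut.conj g).toMonoidHom ≤ K₀) :
    ∃ k ∈ K₀, apt k (L.pins.getD 0 0) = apt g 0 ∧ apt k (L.pins.getD 1 0) = apt g 2 := by
  have hx : g * x * g⁻¹ ∈ K₀ := hg ⟨x, Subgroup.mem_zpowers _, rfl⟩
  obtain ⟨h1, h2, -⟩ := K_commute hx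
  have move : ∀ r < 3510, Commute (trN r) (g * x * g⁻¹) → apt g⁻¹ r ∈ F := fun r hr h => by
    rw [← commute_x_iff (apt_lt _ hr), trN_apt _ hr]
    have h' := h.symm.map (MulAut.conj g⁻¹).toMonoidHom
    simpa [mul_assoc] using h'
  have ha := (commute_pair_iff (apt_lt _ (show 0 < 3510 by norm_num))).2 (move 0 (by norm_num) h1)
  have hd := (commute_pair_iff (apt_lt _ (show 2 < 3510 by norm_num))).2 (move 2 (by norm_num) h2)
  have back : ∀ {b : GG} {r : ℕ}, r < 3510 → Commute b (trN (apt g⁻¹ r)) → Commute (g * b * g⁻¹) (trN r) :=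
    fun {b r} hr h => by
      have h' := h.map (MulAut.conj g).toMonoidHom
      rw [trN_apt _ hr] at h'
      simpa [mul_assoc] using h'
  have hF0 : apt g 0 ∈ F := by
    rw [← commute_pair_iff (apt_lt _ (by norm_num)), trN_apt _ (by norm_num)]
    exact ⟨(back (by norm_num) ha.1).symm, (back (by norm_num) hd.1).symm⟩
  have hF2 : apt g 2 ∈ F := by
    rw [← commute_pair_iff (apt_lt _ (by norm_num)), trN_apt _ (by norm_num)]
    exact ⟨(back (by norm_num) ha.2).symm, (back (by norm_num) hd.2).symm⟩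
  refine exists_pair_K hF0 hF2 fun h => not_commute ?_
  rw [← apt_tapp g (by norm_num) (by norm_num)] at h
  have h' := apt_injective _ h
  rwa [← apt_trN (by norm_num) (by norm_num), apt_fix_iff _ (by norm_num)] at h'

theorem conj_eq_of_apt {g k : GG} (h0 : apt k (L.pins.getD 0 0) = apt g 0)
    (h1 : apt k (L.pins.getD 1 0) = apt g 2) :
    k * (trN (L.pins.getD 0 0) * trN (L.pins.getD 1 0)) * k⁻¹ = g * x * g⁻¹ := by
  have hP0 := F_lt (pins_mem (show 0 < 6 by norm_num))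
  have hP1 := F_lt (pins_mem (show 1 < 6 by norm_num))
  rw [x_eq, show g * (a₀ * d₀) * g⁻¹ = (g * a₀ * g⁻¹) * (g * d₀ * g⁻¹) by group,
    show k * (trN (L.pins.getD 0 0) * trN (L.pins.getD 1 0)) * k⁻¹ =
      (k * trN (L.pins.getD 0 0) * k⁻¹) * (k * trN (L.pins.getD 1 0) * k⁻¹) by group,
    ← trN_apt g (by norm_num), ← trN_apt g (by norm_num), ← trN_apt k hP0, ← trN_apt k hP1, h0, h1]

theorem conj_class {g h : GG} (hg : (Subgroup.zpowers x).map (MulAut.conj g).toMonoidHom ≤ K₀)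
    (hh : (Subgroup.zpowers x).map (MulAut.conj h).toMonoidHom ≤ K₀) :
    ∃ k ∈ K₀, ((Subgroup.zpowers x).map (MulAut.conj g).toMonoidHom).map (MulAut.conj k).toMonoidHom =
      (Subgroup.zpowers x).map (MulAut.conj h).toMonoidHom := by
  obtain ⟨k, hk, k0, k1⟩ := conj_in_K hg
  obtain ⟨l, hl, l0, l1⟩ := conj_in_K hh
  refine ⟨l * k⁻¹, mul_mem hl (inv_mem hk), ?_⟩
  rw [MonoidHom.map_zpowers, MonoidHom.map_zpowers, MonoidHom.map_zpowers]
  congr 1
  show l * k⁻¹ * (g * x * g⁻¹) * (l * k⁻¹)⁻¹ = h * x * h⁻¹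
  rw [← conj_eq_of_apt k0 k1, ← conj_eq_of_apt l0 l1]
  group

theorem K_set {s t : GG} (hs : s = a₀) (ht : t = d₀) :
    {y | y ∈ Fi22Class.D ∧ Commute s y ∧ Commute t y} = {g | ∃ p ∈ F, g = trN p} := by
  subst hs ht
  ext y
  constructor
  · rintro ⟨hy, h1, h2⟩
    obtain ⟨p, hp, rfl⟩ := exists_trN hy
    exact ⟨p, (commute_pair_iff hp).1 ⟨h1, h2⟩, rfl⟩
  · rintro ⟨p, hp, rfl⟩
    exact ⟨trN_mem (F_lt hp), (commute_pair_iff (F_lt hp)).2 hp⟩

variable {G : Type*} [Group G]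

/-- Any ordered pair of non-commuting transpositions is the image of the standard one. -/
theorem exists_frame {e : GG ≃* G} {D : Set G} (he : e '' Fi22Class.D = D) {a d : G} (ha : a ∈ D)
    (hd : d ∈ D) (hnc : ¬ Commute a d) :
    ∃ φ : GG ≃* G, φ '' Fi22Class.D = D ∧ φ a₀ = a ∧ φ d₀ = d := by
  obtain ⟨p, hp, rfl⟩ := Triple.exists_num he ha
  obtain ⟨q, hq, rfl⟩ := Triple.exists_num he hd
  obtain ⟨g, h0, h2⟩ := exists_pair hp hq fun h => hnc ((apt_trN hp hq).trans h |> (apt_fix_iff _ hq).1 |>.map e)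
  refine ⟨(MulAut.conj g).trans e, ?_, ?_, ?_⟩
  · rw [MulEquiv.coe_trans, Set.image_comp, ← he]
    refine congrArg (Set.image e) (Set.ext fun d => ⟨?_, fun hd => ?_⟩)
    · rintro ⟨c, hc, rfl⟩
      obtain ⟨k, rfl⟩ := Fi22Class.mem_D.1 hc
      exact Fi22Class.mem_D.2 ⟨g * k, by simp [mul_assoc]⟩
    · obtain ⟨k, rfl⟩ := Fi22Class.mem_D.1 hd
      exact ⟨g⁻¹ * k * Fi22Class.z * (g⁻¹ * k)⁻¹, Fi22Class.mem_D.2 ⟨_, rfl⟩, by simp [mul_assoc]⟩
  · show e (g * a₀ * g⁻¹) = _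
    rw [← trN_apt g (by norm_num), h0]
  · show e (g * d₀ * g⁻¹) = _
    rw [← trN_apt g (by norm_num), h2]

/-- The joint centraliser of a pair. -/
theorem closure_eq {φ : GG ≃* G} {D : Set G} (hφ : φ '' Fi22Class.D = D) :
    Subgroup.closure {y : G | y ∈ D ∧ Commute (φ a₀) y ∧ Commute (φ d₀) y} = K₀.map φ.toMonoidHom := by
  rw [K₀, MonoidHom.map_closure, ← K_set rfl rfl, ← hφ]
  congr 1
  ext y
  obtain ⟨w, rfl⟩ := φ.surjective y
  simp only [Set.mem_setOf_eq, Set.mem_image, MulEquiv.coe_toMonoidHom]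
  constructor
  · rintro ⟨⟨v, hv, e⟩, h1, h2⟩
    rw [φ.injective e] at hv
    exact ⟨w, ⟨hv, by simpa using h1.map φ.symm, by simpa using h2.map φ.symm⟩, rfl⟩
  · rintro ⟨v, ⟨hv, h1, h2⟩, e⟩
    rw [← e]
    exact ⟨⟨v, hv, rfl⟩, h1.map φ, h2.map φ⟩

end Cfsg.Agent.Fi22Local.PairSix
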