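import Cfsg.Agent.Lib.Fi22Local.ThreePc
import Cfsg.Agent.Lib.Fi22Local.ThreeU6
import Cfsg.Agent.Lib.Fi22Local.ThreeU4
import Cfsg.Agent.Lib.Fi22Local.ThreeU3
import Cfsg.Agent.Lib.Fi22Local.ThreeU0

/-! Data: a Sylow 3-subgroup of the presented Fi22 and the fusion of its elements of order three. -/

set_option autoImplicit false
set_option maxRecDepth 100000

namespace Cfsg.Agent.Fi22Local.ThreeFusion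

open ThreePc
open Cfsg.Agent.CosetCert

def pc0 : List ℕ := [6, 5, 1, 0, 2, 3, 4, 7, 1, 0, 2, 3, 4, 7, 2, 3, 1, 2, 0, 1, 3, 7,
    4, 3, 2, 0, 8, 5, 4, 6, 5, 3, 4, 1, 0, 2, 3, 4, 7, 1, 0, 2, 3, 4,
    7, 2, 3, 1, 2, 0, 1, 3, 7, 4, 3, 2, 0, 5, 6, 4, 3, 8, 7, 5, 4, 3,
    2, 3, 8, 1, 0, 2, 8, 4, 3, 1, 7, 5, 4, 6, 3, 1, 7, 2, 7, 1, 0, 2,
    3, 7, 4, 3, 2, 1, 6, 5, 4, 3, 2, 6, 5, 2, 3, 4, 5, 7, 3, 4, 2, 3,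
    6, 8, 7, 3, 4, 2, 5, 1, 2, 3, 4, 7, 3, 2, 1, 3, 0, 1, 2, 3, 7, 4,
    3, 2, 1, 8, 7, 3, 2]

def pc1 : List ℕ := [3, 4, 5, 7, 8, 3, 4, 6, 7, 5, 1, 0, 2, 3, 4, 7, 1, 0, 2, 3, 4, 7,
    2, 3, 1, 2, 0, 1, 3, 7, 4, 3, 2, 0, 5, 6, 8, 3, 4, 5, 6, 0, 2, 3,
    4, 7, 3, 1, 0, 2, 1, 3, 2, 7, 4, 3, 2, 0, 1, 7, 4, 3, 2, 0, 1, 5,
    6, 1, 0, 2, 3, 4, 5, 7, 3, 8, 4, 7, 3, 1, 2, 3, 4, 5, 7, 3, 2, 8,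
    7, 4, 3, 2, 7, 8, 4, 3, 5, 4, 7, 3, 1, 2, 0, 1, 2, 3, 7, 8, 4, 3,
    7, 5, 4, 3, 2, 8, 4, 5, 7, 3, 4, 5, 6, 7, 8, 1, 0, 2, 3, 4, 7, 1,
    0, 2, 3, 4, 7, 2, 3, 1, 2, 0, 1, 3, 7, 4, 3, 2, 0, 8, 7, 5, 2, 3,
    4, 5, 7, 3, 2, 6, 4, 3, 7, 8, 1, 2, 3, 4, 7, 3, 2, 8, 7, 5, 3, 4,
    6, 5, 1, 2, 3, 4, 7, 3, 2, 3, 7]

def pc2 : List ℕ := [5, 7, 2, 3, 4, 7, 1, 0, 2, 3, 4, 7, 1, 2, 5, 3, 4, 7, 3, 8, 7, 3,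
    2, 1, 5, 4, 3, 2, 0, 1, 7, 4, 3, 2, 4, 8, 6, 3, 7, 1, 2, 3, 8, 1,
    0, 1, 5, 4, 7, 2, 3, 7, 2, 4, 3, 1, 2, 0, 1, 3, 7, 4, 3, 2, 0, 7,
    5, 8, 2, 3, 4, 5, 7, 8, 3, 4, 6, 5, 7, 3, 4, 2, 3, 4, 7, 3, 2, 8,
    0, 1, 2, 3, 4, 7, 3, 2, 8, 7, 5, 3, 4, 6, 5, 3, 1, 2, 3, 4, 7, 3,
    8, 7, 2, 1, 0, 4, 8, 3, 5]

def pc3 : List ℕ := [2, 3, 4, 5, 7, 3, 6, 4, 5, 2, 3, 1, 0, 2, 1, 3, 4, 5, 6, 7, 2, 3,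
    4, 5, 7, 3, 4, 8, 7, 2, 3, 4, 7, 6, 3, 2, 1, 5, 4, 3, 2, 0, 1, 4,
    3, 2, 6, 7, 8, 5, 4, 3, 7, 4, 5, 6, 3, 4, 2, 3, 8, 7, 5, 4, 3, 2,
    5, 4, 8, 3, 1, 4, 2, 0, 1, 3, 2, 5, 0, 7, 4, 3, 2, 4, 7, 3, 1, 2,
    0, 1, 3, 7, 4, 3, 2, 0, 4, 3, 7, 5, 4, 3, 8, 7, 6, 5, 4, 1, 0, 2,
    3, 4, 7, 1, 0, 2, 3, 4, 7, 2, 3, 1, 2, 0, 1, 3, 7, 4, 3, 2, 0, 8,
    5, 4, 3, 7, 3, 4, 5, 6, 2, 3, 4, 5, 7, 3, 6, 4, 5, 2, 3, 4, 7, 3,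
    8, 7, 0, 2, 3, 4, 1, 2, 3, 4, 7, 3, 2, 8, 7, 5, 3, 4, 6, 5, 1, 6,
    3, 4, 7, 3, 2, 3, 4, 5, 7, 8, 6, 1, 3]

def pc4 : List ℕ := [5, 7, 2, 3, 4, 7, 1, 0, 2, 3, 4, 7, 1, 2, 5, 3, 4, 7, 3, 8, 7, 3,
    2, 1, 5, 4, 3, 2, 0, 1, 7, 4, 3, 2, 5, 8, 7, 4, 8, 3, 4, 5, 6, 5,
    4, 1, 0, 2, 3, 4, 7, 1, 0, 2, 3, 4, 7, 2, 3, 1, 2, 0, 1, 3, 7, 4,
    3, 2, 0, 8, 7, 2, 3, 4, 5, 7, 8, 3, 6, 4, 5, 2, 1, 3, 5, 2, 0, 7,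
    5, 1, 3, 2, 8, 4, 3, 7, 3, 2, 1, 4, 3, 2, 0, 1, 3, 2, 0]

def pc5 : List ℕ := [3, 7, 8, 1, 6, 2, 0, 3, 5, 1, 0, 7, 2, 4, 3, 2, 1, 7, 4, 3, 2, 0,
    1, 3, 7, 4, 3, 2, 0, 8, 7, 5, 6, 3, 4, 5, 0, 2, 3, 4, 7, 3, 1, 0,
    2, 1, 3, 2, 7, 4, 3, 2, 0, 1, 7, 4, 3, 2, 0, 1, 3, 7, 6, 4, 3, 5,
    4, 5, 2, 3, 4, 7, 1, 0, 2, 3, 4, 7, 1, 2, 5, 3, 4, 7, 3, 8, 7, 3,
    2, 1, 5, 4, 3, 2, 0, 1, 7, 4, 3, 2, 5, 8, 3, 4, 5, 6, 7, 8, 3, 4,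
    7, 3, 5, 1, 0, 2, 3, 4, 7, 1, 2, 5, 3, 4, 7, 3, 8, 7, 3, 2, 1, 5,
    4, 3, 2, 0, 1, 4, 6, 5, 4, 3, 7, 8, 2, 6, 3, 2, 7, 3, 1, 2, 3, 4,
    7, 3, 2, 8, 7, 5, 3, 4, 6, 5, 1, 6, 3, 4, 7, 3, 2, 3, 4, 5, 7, 8,
    6, 1, 3]

def pc6 : List ℕ := [2, 3, 4, 5, 7, 3, 6, 4, 5, 2, 3, 1, 0, 2, 1, 3, 4, 5, 6, 7, 2, 3,
    4, 5, 7, 3, 4, 8, 7, 2, 3, 4, 7, 6, 3, 2, 1, 5, 4, 3, 2, 0, 1, 4,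
    3, 2, 6, 7, 8, 5, 4, 3, 7, 4, 5, 6, 3, 4, 2, 3, 8, 7, 5, 4, 3, 2,
    5, 4, 5, 4, 8, 7, 3, 4, 6, 1, 0, 2, 3, 4, 7, 1, 2, 5, 3, 4, 7, 3,
    8, 7, 3, 2, 1, 5, 4, 3, 2, 0, 1, 7, 3, 4, 3, 1, 2, 3, 4, 7, 3, 2,
    8, 7, 5, 3, 4, 6, 5, 3, 2, 4, 1, 3, 2, 3, 4, 7, 3, 8, 7, 2, 1, 3]

def pc7 : List ℕ := [2, 3, 4, 5, 7, 3, 6, 4, 5, 2, 3, 1, 0, 2, 1, 3, 4, 5, 6, 7, 2, 3,
    4, 5, 7, 3, 4, 8, 7, 2, 3, 4, 7, 6, 3, 2, 1, 5, 4, 3, 2, 0, 1, 4,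
    3, 2, 6, 7, 8, 5, 4, 3, 7, 4, 5, 6, 3, 4, 2, 3, 8, 7, 5, 4, 3, 2,
    5, 4, 5, 4, 2, 3, 4, 7, 1, 0, 2, 3, 4, 7, 1, 2, 5, 3, 4, 7, 3, 8,
    7, 3, 2, 1, 5, 4, 3, 2, 0, 1, 7, 4, 3, 2, 4, 7, 6, 5, 4, 1, 0, 2,
    3, 4, 7, 1, 2, 5, 3, 4, 7, 3, 8, 7, 3, 2, 1, 5, 4, 3, 2, 0, 1, 2,
    3, 6, 0, 5, 4, 3, 1, 2, 3, 4, 7, 3, 2, 8, 7, 5, 3, 4, 6, 5, 1, 6,
    3, 4, 7, 3, 2, 3, 4, 5, 7, 8, 6, 1, 3]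

def pc8 : List ℕ := [8, 3, 4, 6, 7, 2, 3, 4, 5, 7, 3, 6, 4, 5, 2, 8, 7, 3, 4, 5, 7]

/-- The generators of the series. -/
def pcg : List (List ℕ) := [pc0, pc1, pc2, pc3, pc4, pc5, pc6, pc7, pc8]

/-- Commutators. -/
def comm : List (List (List ℕ)) := [
    [[], [0, 2, 2, 1], [2, 0, 2, 0, 2, 1], [], [], [], [], [2], []],
    [[0, 0, 1, 1, 0, 1], [], [0, 0, 0, 0, 1, 1], [0, 2], [2, 1, 2, 1], [0, 2, 2], [1, 1], [], []],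
    [[0, 0, 1, 0, 1, 0, 1], [0, 0, 0, 0, 0, 2, 2], [], [], [2, 0, 1, 1], [], [1, 1], [], []],
    [[], [0, 0, 0, 1, 0, 1, 1], [], [], [], [], [0, 1], [], []],
    [[], [0, 0, 0, 1, 2], [0, 0, 1, 0, 2, 1], [], [], [0, 0, 2], [], [], []],
    [[], [0, 0, 0, 0, 0, 1, 1], [], [], [0, 0, 0, 1], [], [], [], []],
    [[], [0, 0, 0, 0, 0, 2, 2], [0, 0, 0, 0, 2, 2], [0, 0, 0, 0, 2], [], [], [], [], []],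
    [[0, 0, 0, 0, 0, 0, 0, 1], [], [], [], [], [], [], [], []],
    [[], [], [], [], [], [], [], [], []]]

/-- The class representatives. -/
def us : List (List ℕ) := [Three.U6.xw, Three.U4.xw, Three.U3.xw, Three.U0.xw]

/-- The table. -/
def tbl : Table := ⟨pcg, comm, us⟩

def n0 : Node := .conj 2 []

def n1 : Node := .conj 2 [5, 7, 4, 5, 8, 3, 4, 6, 5, 4, 7]

def n2 : Node := .split (.one) n0 n1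

def n3 : Node := .conj 2 [2, 3, 4, 5, 7, 3, 6, 4, 5, 2, 3, 1, 0, 2, 1, 3, 4, 5, 6, 7, 2, 3,
    4, 5, 7, 3, 4, 8, 7, 2, 3, 4, 7, 6, 3, 2, 1, 5, 4, 3, 2, 0, 1, 4,
    3, 2, 6, 7, 8, 5, 4, 3, 7, 4, 5, 6, 3, 4, 2, 3, 8, 7, 5, 4, 3, 2,
    5, 4, 5, 1, 0, 2, 3, 7, 8, 1, 2, 3, 7, 1, 0, 2, 3, 4, 5, 1, 2, 3,
    6, 4, 5, 7, 3, 2, 1, 8, 7, 3, 2, 0, 1, 6, 5, 4, 3, 2, 0, 7, 8, 3,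
    7, 6, 4, 3, 7, 8, 3, 4, 5, 6, 5, 4, 1, 0, 2, 3, 4, 7, 1, 0, 2, 3,
    4, 7, 2, 3, 1, 2, 0, 1, 3, 7, 4, 3, 2, 0, 8, 5, 4, 2, 3, 4, 1, 0,
    2, 1, 3]

def n4 : Node := .fuse [1] 2 [] n3

def n5 : Node := .conj 2 [6, 5, 1, 0, 2, 3, 4, 7, 1, 0, 2, 3, 4, 7, 2, 3, 1, 2, 0, 1, 3, 7,
    4, 3, 2, 0, 8, 5, 4, 6, 5, 3, 4, 1, 0, 2, 3, 4, 7, 1, 0, 2, 3, 4,
    7, 2, 3, 1, 2, 0, 1, 3, 7, 4, 3, 2, 0, 5, 6, 4, 3, 8, 7, 5, 4, 3,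
    4, 2, 1, 3, 5, 2, 0, 7, 5, 1, 3, 2, 8, 4, 3, 7, 3, 2, 1, 4, 3, 2,
    0, 1, 8, 7, 3, 2, 5, 4, 5, 8, 6, 5, 4, 3, 7, 8, 1, 0, 2, 3, 4, 7,
    1, 0, 2, 3, 4, 7, 2, 3, 1, 2, 0, 1, 3, 7, 4, 3, 2, 0, 5, 2, 3, 1,
    0, 2, 1, 3]

def n6 : Node := .fuse [1] 1 [] n5

def n7 : Node := .split n2 n4 n6

def n8 : Node := .conj 3 [2, 3, 4, 5, 7, 3, 6, 4, 5, 2, 3, 1, 0, 2, 1, 3, 4, 5, 6, 7, 2, 3,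
    4, 5, 7, 3, 4, 8, 7, 2, 3, 4, 7, 6, 3, 2, 1, 5, 4, 3, 2, 0, 1, 4,
    3, 2, 6, 7, 8, 5, 4, 3, 7, 4, 5, 6, 3, 4, 2, 3, 8, 7, 5, 4, 3, 2,
    5, 4, 7, 8, 2, 3, 4, 7, 1, 0, 2, 3, 4, 7, 1, 2, 5, 3, 4, 7, 3, 8,
    7, 3, 2, 1, 5, 4, 3, 2, 0, 1, 7, 4, 3, 2, 5, 8, 1, 0, 2, 3, 4, 7,
    1, 0, 2, 3, 4, 7, 2, 3, 1, 2, 0, 1, 3, 7, 4, 3, 2, 0, 3, 4, 5, 6,
    5, 1, 0, 2, 3, 4, 7, 1, 2, 5, 3, 4, 7, 3, 8, 7, 3, 2, 1, 5, 4, 3,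
    2, 0, 1, 4, 2]

def n9 : Node := .fuse [0, 0, 0, 1] 1 [] n8

def n10 : Node := .fuse [0, 0, 1] 1 [1] n9

def n11 : Node := .conj 3 [5, 7, 4, 8, 2, 3, 4, 7, 1, 0, 2, 3, 4, 7, 1, 2, 5, 3, 4, 7, 3, 8,
    7, 3, 2, 1, 5, 4, 3, 2, 0, 1, 7, 4, 3, 2, 4, 3, 6, 5, 4, 7, 3, 5,
    1, 0, 2, 1, 3, 4, 5, 6, 7, 2, 3, 4, 5, 7, 3, 4, 8, 7, 2, 3, 4, 7,
    6, 3, 2, 1, 5, 4, 3, 2, 0, 1, 4, 8, 3]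

def n12 : Node := .fuse [0, 0, 0, 1] 2 [] n11

def n13 : Node := .fuse [0, 0, 1] 2 [2] n12

def n14 : Node := .split n7 n10 n13

def n15 : Node := .conj 1 [3, 7, 8, 1, 6, 2, 0, 3, 5, 1, 0, 7, 2, 4, 3, 2, 1, 7, 4, 3, 2, 0,
    1, 3, 7, 4, 3, 2, 0, 8, 7, 5, 6, 3, 4, 5, 0, 2, 3, 4, 7, 3, 1, 0,
    2, 1, 3, 2, 7, 4, 3, 2, 0, 1, 7, 4, 3, 2, 0, 1, 3, 7, 6, 4, 3, 5,
    4, 2, 3, 4, 7, 1, 0, 2, 3, 4, 7, 1, 2, 5, 3, 4, 7, 3, 8, 7, 3, 2,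
    1, 5, 4, 3, 2, 0, 1, 7, 4, 3, 2, 4, 7, 8, 3, 4, 7, 8, 1, 6, 2, 0,
    3, 5, 1, 0, 7, 2, 4, 3, 2, 1, 7, 4, 3, 2, 0, 1, 3, 7, 4, 3, 2, 0,
    8, 7, 2, 3, 4, 5, 7, 8, 3, 2, 4, 3, 6, 7, 3, 8, 1, 0, 2, 3, 7, 8,
    1, 2, 3, 7]

def n16 : Node := .fuse [0, 0, 0, 0, 1] 2 [] n15

def n17 : Node := .fuse [0, 1] 2 [2] n16

def n18 : Node := .conj 2 [3, 7, 8, 1, 6, 2, 0, 3, 5, 1, 0, 7, 2, 4, 3, 2, 1, 7, 4, 3, 2, 0,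
    1, 3, 7, 4, 3, 2, 0, 8, 7, 5, 6, 3, 4, 5, 0, 2, 3, 4, 7, 3, 1, 0,
    2, 1, 3, 2, 7, 4, 3, 2, 0, 1, 7, 4, 3, 2, 0, 1, 3, 7, 6, 4, 3, 5,
    4, 5, 8, 3, 1, 4, 2, 0, 1, 3, 2, 5, 0, 7, 4, 3, 2, 4, 7, 3, 1, 2,
    0, 1, 3, 7, 4, 3, 2, 0, 4, 3, 7, 5, 4, 3, 8, 7, 1, 6, 2, 0, 3, 5,
    1, 0, 7, 2, 4, 3, 2, 1, 7, 4, 3, 2, 0, 1, 3, 7, 4, 3, 2, 0, 8, 7,
    5, 4, 3, 4, 5, 2, 3, 4, 5, 7, 8, 3, 4, 6, 5, 1, 0, 2, 3, 4, 7, 1,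
    0, 2, 3, 4, 7, 2, 3, 1, 2, 0, 1, 3, 7, 4, 3, 8, 0, 5, 4, 7, 3, 7,
    8, 1, 2, 3, 4, 5, 7, 3, 4, 2, 3, 6, 8, 7, 3, 1, 2, 4, 3, 5, 7, 1,
    4, 3, 7, 2, 3, 1, 4, 8]

def n19 : Node := .fuse [0, 0, 0, 0, 1] 2 [] n18

def n20 : Node := .fuse [0, 0, 1] 1 [1] n19

def n21 : Node := .conj 2 [1, 6, 2, 0, 3, 5, 1, 0, 7, 2, 4, 3, 2, 1, 7, 4, 3, 2, 0, 1, 3, 7,
    4, 3, 2, 0, 5, 4, 3, 8, 6, 5, 4, 3, 1, 0, 2, 3, 4, 7, 1, 0, 2, 3,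
    4, 7, 2, 3, 1, 2, 0, 1, 3, 7, 4, 3, 2, 0, 5, 4, 8, 3, 6, 5, 4, 7,
    3, 2, 3, 4, 7, 1, 0, 2, 3, 4, 7, 1, 2, 5, 3, 4, 7, 3, 8, 7, 3, 2,
    1, 5, 4, 3, 2, 0, 1, 7, 4, 3, 2, 5, 4, 3, 4, 5, 6, 7, 8, 1, 0, 2,
    3, 4, 7, 1, 0, 2, 3, 4, 7, 2, 3, 1, 2, 0, 1, 3, 7, 4, 3, 2, 0, 5,
    4, 3, 6, 2, 3, 4, 7, 3, 2, 0, 5, 4, 8, 3, 1, 0, 2, 1, 3]

def n22 : Node := .fuse [0, 0, 0, 0, 1] 2 [] n21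

def n23 : Node := .fuse [0, 0, 1] 2 [2] n22

def n24 : Node := .split n17 n20 n23

def n25 : Node := .conj 1 [7, 2, 3, 4, 5, 7, 3, 6, 4, 5, 2, 3, 1, 0, 2, 1, 3, 4, 5, 6, 7, 2,
    3, 4, 5, 7, 3, 4, 8, 7, 2, 3, 4, 7, 6, 3, 2, 1, 5, 4, 3, 2, 0, 1,
    4, 3, 2, 6, 7, 8, 5, 4, 3, 7, 4, 5, 6, 3, 4, 2, 3, 8, 7, 5, 4, 3,
    2, 5, 4, 5, 4, 5, 2, 3, 4, 7, 1, 0, 2, 3, 4, 7, 1, 2, 5, 3, 4, 7,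
    3, 8, 7, 3, 2, 1, 5, 4, 3, 2, 0, 1, 7, 4, 3, 2, 5, 6, 5, 4, 1, 0,
    2, 3, 4, 7, 1, 0, 2, 3, 4, 7, 2, 3, 1, 2, 0, 1, 3, 7, 4, 3, 2, 0,
    5, 4, 3, 7, 6, 2, 3, 4, 5, 7, 3, 6, 4, 5, 2, 1, 0, 2, 3, 4, 1, 2,
    3]

def n26 : Node := .fuse [0, 0, 0, 0, 1] 1 [] n25

def n27 : Node := .fuse [0, 1] 1 [1] n26

def n28 : Node := .conj 2 [1, 0, 3, 4, 5, 7, 3, 4, 2, 3, 6, 8, 7, 3, 1, 2, 5, 3, 4, 3, 7, 1,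
    2, 3, 1, 2, 0, 1, 0, 2, 3, 7, 4, 3, 2, 5, 6, 4, 5, 8, 0, 2, 3, 4,
    7, 3, 1, 0, 2, 1, 3, 2, 7, 4, 3, 2, 0, 1, 7, 4, 3, 2, 0, 1, 5, 6,
    4, 8, 7, 3, 4, 5, 7, 3, 4, 1, 6, 2, 0, 3, 5, 1, 0, 7, 2, 4, 3, 2,
    1, 7, 4, 3, 2, 0, 1, 3, 7, 4, 3, 2, 0, 5, 4, 2, 3, 4, 5, 7, 8, 3,
    2, 4, 3, 6, 5, 4, 7, 3, 8, 2, 7, 3, 4, 1, 2, 3, 4, 5, 7, 3, 4, 2,
    3, 6, 8, 7, 3, 1, 2, 4, 3, 5, 7, 1, 4, 3, 7, 2, 3, 1, 4, 8]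

def n29 : Node := .fuse [0, 0, 0, 0, 1] 1 [] n28

def n30 : Node := .fuse [0, 0, 1] 1 [1] n29

def n31 : Node := .conj 2 [6, 5, 1, 0, 2, 3, 4, 7, 1, 0, 2, 3, 4, 7, 2, 3, 1, 2, 0, 1, 3, 7,
    4, 3, 2, 0, 8, 5, 4, 6, 5, 3, 4, 1, 0, 2, 3, 4, 7, 1, 0, 2, 3, 4,
    7, 2, 3, 1, 2, 0, 1, 3, 7, 4, 3, 2, 0, 5, 6, 4, 3, 8, 7, 5, 4, 3,
    4, 2, 3, 4, 7, 1, 0, 2, 3, 4, 7, 1, 2, 5, 3, 4, 7, 3, 8, 7, 3, 2,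
    1, 5, 4, 3, 2, 0, 1, 7, 4, 3, 2, 4, 5, 3, 4, 6, 5, 4, 7, 3, 7, 8,
    1, 0, 2, 3, 4, 7, 1, 0, 2, 3, 4, 7, 2, 3, 1, 2, 0, 1, 3, 7, 4, 3,
    2, 0, 5, 7, 4, 8, 1, 0, 2, 1, 3]

def n32 : Node := .fuse [0, 0, 0, 0, 1] 1 [] n31

def n33 : Node := .fuse [0, 0, 1] 2 [2] n32

def n34 : Node := .split n27 n30 n33

def n35 : Node := .split n14 n24 n34

def n36 : Node := .conj 1 [3, 7, 8, 3, 6, 5, 1, 0, 2, 3, 4, 7, 1, 0, 2, 3, 4, 7, 2, 3, 1, 2,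
    0, 1, 3, 7, 4, 3, 2, 0, 8, 5, 4, 7, 6, 5, 3, 7, 4, 5, 6, 3, 0, 2,
    3, 4, 7, 3, 1, 0, 2, 1, 3, 2, 7, 4, 3, 2, 0, 1, 7, 4, 3, 2, 0, 1,
    5, 4, 5, 4, 8, 2, 1, 3, 5, 2, 0, 7, 5, 1, 3, 2, 8, 4, 3, 7, 3, 2,
    1, 4, 3, 2, 0, 1, 8, 7, 3, 2, 5, 3, 4, 6, 5, 4, 7, 3, 7, 8, 1, 0,
    2, 3, 4, 7, 1, 0, 2, 3, 4, 7, 2, 3, 1, 2, 0, 1, 3, 7, 4, 3, 2, 0,
    6, 5, 7, 2, 3, 4, 5, 6]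

def n37 : Node := .fuse [0, 0, 0, 0, 0, 1] 1 [] n36

def n38 : Node := .conj 3 [3, 7, 8, 3, 6, 5, 1, 0, 2, 3, 4, 7, 1, 0, 2, 3, 4, 7, 2, 3, 1, 2,
    0, 1, 3, 7, 4, 3, 2, 0, 8, 5, 4, 7, 6, 5, 3, 7, 4, 5, 6, 3, 0, 2,
    3, 4, 7, 3, 1, 0, 2, 1, 3, 2, 7, 4, 3, 2, 0, 1, 7, 4, 3, 2, 0, 1,
    5, 4, 5, 8, 7, 2, 3, 4, 5, 7, 3, 1, 3, 5, 2, 0, 7, 5, 1, 3, 2, 8,
    4, 3, 7, 3, 2, 1, 4, 3, 2, 0, 1, 8, 5, 4, 3, 2, 6, 5, 4, 3, 4, 5,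
    6, 7, 8, 1, 0, 2, 3, 4, 7, 1, 0, 2, 3, 4, 7, 2, 3, 1, 2, 0, 1, 3,
    7, 4, 3, 2, 0, 5, 2, 3, 4, 7, 3]

def n39 : Node := .fuse [0, 0, 0, 0, 0, 1] 1 [] n38

def n40 : Node := .conj 3 [7, 2, 3, 4, 5, 7, 3, 6, 4, 5, 2, 3, 1, 0, 2, 1, 3, 4, 5, 6, 7, 2,
    3, 4, 5, 7, 3, 4, 8, 7, 2, 3, 4, 7, 6, 3, 2, 1, 5, 4, 3, 2, 0, 1,
    4, 3, 2, 6, 7, 8, 5, 4, 3, 7, 4, 5, 6, 3, 4, 2, 3, 8, 7, 5, 4, 3,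
    2, 5, 4, 5, 8, 2, 3, 4, 7, 1, 0, 2, 3, 4, 7, 1, 2, 5, 3, 4, 7, 3,
    8, 7, 3, 2, 1, 5, 4, 3, 2, 0, 1, 7, 4, 3, 2, 8, 7, 4, 1, 6, 2, 0,
    3, 5, 1, 0, 7, 2, 4, 3, 2, 1, 7, 4, 3, 2, 0, 1, 3, 7, 4, 3, 2, 0,
    5, 4, 6, 2, 3, 4, 5, 7, 3, 2, 4, 3]

def n41 : Node := .fuse [0, 0, 0, 0, 0, 1] 1 [] n40

def n42 : Node := .split n37 n39 n41

def n43 : Node := .fuse [0, 1, 2] 1 [0, 2] n42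

def n44 : Node := .fuse [0, 0, 1] 2 [0, 1, 1] n43

def n45 : Node := .conj 1 [6, 5, 1, 0, 2, 3, 4, 7, 1, 0, 2, 3, 4, 7, 2, 3, 1, 2, 0, 1, 3, 7,
    4, 3, 2, 0, 8, 5, 4, 6, 5, 3, 4, 1, 0, 2, 3, 4, 7, 1, 0, 2, 3, 4,
    7, 2, 3, 1, 2, 0, 1, 3, 7, 4, 3, 2, 0, 5, 6, 4, 3, 8, 7, 5, 4, 3,
    1, 0, 2, 3, 4, 5, 7, 3, 8, 4, 7, 3, 1, 2, 3, 4, 5, 7, 3, 2, 8, 7,
    4, 3, 2, 7, 8, 4, 3, 5, 4, 7, 3, 1, 2, 0, 1, 2, 3, 7, 8, 4, 3, 7,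
    5, 4, 3, 2, 8, 4, 3, 4, 6, 5, 1, 0, 2, 3, 4, 7, 1, 0, 2, 3, 4, 7,
    2, 3, 1, 2, 0, 1, 3, 7, 4, 3, 2, 0, 8, 5, 4, 7, 3, 4, 7, 2, 3, 4,
    5, 6]

def n46 : Node := .fuse [0, 0, 0, 0, 0, 1] 2 [] n45

def n47 : Node := .conj 3 [3, 7, 8, 1, 6, 2, 0, 3, 5, 1, 0, 7, 2, 4, 3, 2, 1, 7, 4, 3, 2, 0,
    1, 3, 7, 4, 3, 2, 0, 8, 7, 5, 6, 3, 4, 5, 0, 2, 3, 4, 7, 3, 1, 0,
    2, 1, 3, 2, 7, 4, 3, 2, 0, 1, 7, 4, 3, 2, 0, 1, 3, 7, 6, 4, 3, 5,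
    4, 5, 2, 3, 4, 5, 7, 3, 1, 3, 5, 2, 0, 7, 5, 1, 3, 2, 8, 4, 3, 7,
    3, 2, 1, 4, 3, 2, 0, 1, 8, 5, 4, 3, 2, 7, 4, 6, 5, 4, 1, 0, 2, 3,
    4, 7, 1, 0, 2, 3, 4, 7, 2, 3, 1, 2, 0, 1, 3, 7, 4, 3, 2, 0, 8, 5,
    4, 6, 3, 7, 5, 4, 1, 0, 2, 3, 4, 7, 1, 2, 5, 3, 4, 7, 3, 8, 7, 3,
    2, 1, 5, 4, 3, 2, 0, 1, 4, 3, 0]

def n48 : Node := .fuse [0, 0, 0, 0, 0, 1] 2 [] n47

def n49 : Node := .conj 3 [3, 7, 8, 3, 6, 5, 1, 0, 2, 3, 4, 7, 1, 0, 2, 3, 4, 7, 2, 3, 1, 2,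
    0, 1, 3, 7, 4, 3, 2, 0, 8, 5, 4, 7, 6, 5, 3, 7, 4, 5, 6, 3, 0, 2,
    3, 4, 7, 3, 1, 0, 2, 1, 3, 2, 7, 4, 3, 2, 0, 1, 7, 4, 3, 2, 0, 1,
    5, 4, 5, 8, 7, 2, 3, 4, 5, 7, 3, 1, 3, 5, 2, 0, 7, 5, 1, 3, 2, 8,
    4, 3, 7, 3, 2, 1, 4, 3, 2, 0, 1, 8, 5, 4, 3, 2, 6, 5, 4, 3, 4, 5,
    6, 7, 8, 1, 0, 2, 3, 4, 7, 1, 0, 2, 3, 4, 7, 2, 3, 1, 2, 0, 1, 3,
    7, 4, 3, 2, 0, 5, 4, 6, 0, 2, 3, 4, 7, 3]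

def n50 : Node := .fuse [0, 0, 0, 0, 0, 1] 2 [] n49

def n51 : Node := .split n46 n48 n50

def n52 : Node := .fuse [0, 1, 2] 2 [0, 1] n51

def n53 : Node := .fuse [0, 0, 1] 1 [0, 2, 1] n52

def n54 : Node := .split n35 n44 n53

def n55 : Node := .conj 0 [4, 5, 8, 2, 3, 4, 7, 1, 0, 2, 3, 4, 7, 1, 2, 5, 3, 4, 7, 3, 8, 7,
    3, 2, 1, 5, 4, 3, 2, 0, 1, 7, 4, 3, 2, 3, 4, 5, 6, 5, 7, 1, 0, 2,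
    3, 4, 7, 1, 0, 2, 3, 4, 7, 2, 3, 1, 2, 0, 1, 3, 7, 4, 3, 2, 0, 5,
    7, 3, 2, 3, 4, 5, 7, 3, 6, 4, 5, 2, 3, 4, 7, 3, 8, 2]

def n56 : Node := .fuse [0, 0, 0, 0, 0, 0, 1] 2 [] n55

def n57 : Node := .conj 2 [2, 3, 4, 5, 7, 3, 6, 4, 5, 2, 3, 1, 0, 2, 1, 3, 4, 5, 6, 7, 2, 3,
    4, 5, 7, 3, 4, 8, 7, 2, 3, 4, 7, 6, 3, 2, 1, 5, 4, 3, 2, 0, 1, 4,
    3, 2, 6, 7, 8, 5, 4, 3, 7, 4, 5, 6, 3, 4, 2, 3, 8, 7, 5, 4, 3, 2,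
    5, 4, 5, 2, 3, 4, 5, 7, 3, 1, 3, 5, 2, 0, 7, 5, 1, 3, 2, 8, 4, 3,
    7, 3, 2, 1, 4, 3, 2, 0, 1, 8, 5, 4, 3, 2, 3, 4, 6, 7, 3, 8, 5, 1,
    0, 2, 3, 4, 7, 1, 0, 2, 3, 4, 7, 2, 3, 1, 2, 0, 1, 3, 7, 4, 3, 2,
    0, 4, 5, 8, 6, 5, 2, 3, 1, 0, 2, 1, 3]

def n58 : Node := .fuse [0, 0, 0, 0, 0, 0, 1] 2 [] n57

def n59 : Node := .conj 1 [7, 2, 3, 4, 5, 7, 3, 6, 4, 5, 2, 3, 1, 0, 2, 1, 3, 4, 5, 6, 7, 2,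
    3, 4, 5, 7, 3, 4, 8, 7, 2, 3, 4, 7, 6, 3, 2, 1, 5, 4, 3, 2, 0, 1,
    4, 3, 2, 6, 7, 8, 5, 4, 3, 7, 4, 5, 6, 3, 4, 2, 3, 8, 7, 5, 4, 3,
    2, 5, 4, 5, 2, 7, 8, 1, 3, 4, 2, 3, 8, 2, 0, 1, 5, 2, 8, 0, 7, 1,
    3, 4, 3, 2, 1, 7, 3, 2, 0, 1, 5, 4, 3, 2, 6, 7, 3, 8, 5, 1, 0, 2,
    3, 4, 7, 1, 0, 2, 3, 4, 7, 2, 3, 1, 2, 0, 1, 3, 7, 4, 3, 2, 0, 6,
    4, 2, 3, 4, 5, 6]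

def n60 : Node := .fuse [0, 0, 0, 0, 0, 0, 1] 2 [] n59

def n61 : Node := .split n56 n58 n60

def n62 : Node := .conj 3 [3, 4, 5, 7, 8, 3, 4, 6, 7, 5, 1, 0, 2, 3, 4, 7, 1, 0, 2, 3, 4, 7,
    2, 3, 1, 2, 0, 1, 3, 7, 4, 3, 2, 0, 5, 6, 8, 3, 4, 5, 6, 0, 2, 3,
    4, 7, 3, 1, 0, 2, 1, 3, 2, 7, 4, 3, 2, 0, 1, 7, 4, 3, 2, 0, 1, 5,
    6, 2, 3, 4, 7, 1, 0, 2, 3, 4, 7, 1, 2, 5, 3, 4, 7, 3, 8, 7, 3, 2,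
    1, 5, 4, 3, 2, 0, 1, 7, 4, 3, 2, 5, 8, 7, 4, 3, 4, 6, 7, 3, 8, 5,
    1, 0, 2, 3, 4, 7, 1, 0, 2, 3, 4, 7, 2, 3, 1, 2, 0, 1, 3, 7, 4, 3,
    2, 0, 4, 5, 6, 4, 8, 7, 2, 3, 4, 5, 7, 3, 4, 8, 7, 0, 2, 3, 4, 2,
    7, 3, 5, 4]

def n63 : Node := .fuse [0, 0, 0, 0, 0, 0, 1] 2 [] n62

def n64 : Node := .fuse [0, 0, 1] 1 [1] n63

def n65 : Node := .conj 3 [3, 7, 8, 1, 6, 2, 0, 3, 5, 1, 0, 7, 2, 4, 3, 2, 1, 7, 4, 3, 2, 0,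
    1, 3, 7, 4, 3, 2, 0, 8, 7, 5, 6, 3, 4, 5, 0, 2, 3, 4, 7, 3, 1, 0,
    2, 1, 3, 2, 7, 4, 3, 2, 0, 1, 7, 4, 3, 2, 0, 1, 3, 7, 6, 4, 3, 5,
    4, 5, 4, 2, 1, 3, 5, 2, 0, 7, 5, 1, 3, 2, 8, 4, 3, 7, 3, 2, 1, 4,
    3, 2, 0, 1, 8, 7, 3, 2, 4, 5, 3, 4, 6, 5, 4, 3, 7, 8, 1, 0, 2, 3,
    4, 7, 1, 0, 2, 3, 4, 7, 2, 3, 1, 2, 0, 1, 3, 7, 4, 3, 2, 0, 8, 2,
    3, 4, 5, 7, 3, 4, 8, 7, 0, 2, 3, 4, 2, 7, 3, 5, 4]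

def n66 : Node := .fuse [0, 0, 0, 0, 0, 0, 1] 2 [] n65

def n67 : Node := .fuse [0, 0, 1] 2 [2] n66

def n68 : Node := .split n61 n64 n67

def n69 : Node := .fuse [0, 1] 2 [] n68

def n70 : Node := .conj 2 [6, 5, 1, 0, 2, 3, 4, 7, 1, 0, 2, 3, 4, 7, 2, 3, 1, 2, 0, 1, 3, 7,
    4, 3, 2, 0, 8, 5, 4, 6, 5, 3, 4, 1, 0, 2, 3, 4, 7, 1, 0, 2, 3, 4,
    7, 2, 3, 1, 2, 0, 1, 3, 7, 4, 3, 2, 0, 5, 6, 4, 3, 8, 7, 5, 4, 3,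
    4, 8, 2, 1, 3, 5, 2, 0, 7, 5, 1, 3, 2, 8, 4, 3, 7, 3, 2, 1, 4, 3,
    2, 0, 1, 8, 7, 3, 2, 4, 5, 3, 4, 6, 5, 4, 7, 3, 7, 8, 1, 0, 2, 3,
    4, 7, 1, 0, 2, 3, 4, 7, 2, 3, 1, 2, 0, 1, 3, 7, 4, 3, 2, 0, 5, 7,
    4, 8, 1, 0, 2, 3, 4, 7, 1, 2, 5, 3, 4, 7, 3, 8, 7, 3, 2, 1, 5, 4,
    3, 2, 0, 1, 6, 5, 4, 3, 2, 7, 3, 4, 8, 5, 7, 3, 2, 1, 2, 3, 4, 5,
    7, 3, 4, 2, 3, 6, 8, 7, 3, 1, 2, 4, 3, 5, 7, 1, 4, 3, 7, 2, 3, 1,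
    4, 8]

def n71 : Node := .fuse [0, 0, 0, 0, 0, 0, 1] 2 [] n70

def n72 : Node := .conj 3 [3, 7, 8, 3, 6, 5, 1, 0, 2, 3, 4, 7, 1, 0, 2, 3, 4, 7, 2, 3, 1, 2,
    0, 1, 3, 7, 4, 3, 2, 0, 8, 5, 4, 7, 6, 5, 3, 7, 4, 5, 6, 3, 0, 2,
    3, 4, 7, 3, 1, 0, 2, 1, 3, 2, 7, 4, 3, 2, 0, 1, 7, 4, 3, 2, 0, 1,
    5, 4, 5, 8, 7, 2, 3, 4, 5, 7, 3, 1, 3, 5, 2, 0, 7, 5, 1, 3, 2, 8,
    4, 3, 7, 3, 2, 1, 4, 3, 2, 0, 1, 8, 5, 4, 3, 2, 6, 5, 4, 3, 4, 5,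
    6, 7, 8, 1, 0, 2, 3, 4, 7, 1, 0, 2, 3, 4, 7, 2, 3, 1, 2, 0, 1, 3,
    7, 4, 3, 2, 0, 5, 0, 2, 3, 4, 7, 3]

def n73 : Node := .fuse [0, 0, 0, 0, 0, 0, 1] 2 [] n72

def n74 : Node := .conj 1 [6, 5, 1, 0, 2, 3, 4, 7, 1, 0, 2, 3, 4, 7, 2, 3, 1, 2, 0, 1, 3, 7,
    4, 3, 2, 0, 8, 5, 4, 6, 5, 3, 4, 1, 0, 2, 3, 4, 7, 1, 0, 2, 3, 4,
    7, 2, 3, 1, 2, 0, 1, 3, 7, 4, 3, 2, 0, 5, 6, 4, 3, 8, 7, 5, 4, 3,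
    4, 2, 3, 4, 7, 1, 0, 2, 3, 4, 7, 1, 2, 5, 3, 4, 7, 3, 8, 7, 3, 2,
    1, 5, 4, 3, 2, 0, 1, 7, 4, 3, 2, 5, 8, 6, 5, 4, 1, 0, 2, 3, 4, 7,
    1, 0, 2, 3, 4, 7, 2, 3, 1, 2, 0, 1, 3, 7, 4, 3, 2, 0, 8, 5, 4, 6,
    3, 7, 3, 5, 4, 2, 3, 4, 5, 7, 3, 2, 6, 4, 3]

def n75 : Node := .fuse [0, 0, 0, 0, 0, 0, 1] 2 [] n74

def n76 : Node := .split n71 n73 n75

def n77 : Node := .fuse [0, 1, 1] 1 [1, 2] n76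

def n78 : Node := .fuse [0, 0, 1] 2 [0, 1, 1] n77

def n79 : Node := .conj 2 [2, 3, 4, 5, 7, 3, 6, 4, 5, 2, 3, 1, 0, 2, 1, 3, 4, 5, 6, 7, 2, 3,
    4, 5, 7, 3, 4, 8, 7, 2, 3, 4, 7, 6, 3, 2, 1, 5, 4, 3, 2, 0, 1, 4,
    3, 2, 6, 7, 8, 5, 4, 3, 7, 4, 5, 6, 3, 4, 2, 3, 8, 7, 5, 4, 3, 2,
    5, 4, 5, 4, 2, 3, 4, 7, 1, 0, 2, 3, 4, 7, 1, 2, 5, 3, 4, 7, 3, 8,
    7, 3, 2, 1, 5, 4, 3, 2, 0, 1, 7, 4, 3, 2, 4, 3, 4, 6, 5, 1, 0, 2,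
    3, 4, 7, 1, 0, 2, 3, 4, 7, 2, 3, 1, 2, 0, 1, 3, 7, 4, 3, 2, 0, 8,
    5, 4, 6, 5, 4, 1, 0, 2, 3, 4, 7, 1, 2, 5, 3, 4, 7, 3, 8, 7, 3, 2,
    1, 5, 4, 3, 2, 0, 1, 6, 5, 4, 3, 2, 7, 3, 4, 8, 5, 7, 3, 2, 1, 2,
    3, 4, 5, 7, 3, 4, 2, 3, 6, 8, 7, 3, 1, 2, 4, 3, 5, 7, 1, 4, 3, 7,
    2, 3, 1, 4, 8]

def n80 : Node := .fuse [0, 0, 0, 0, 0, 0, 1] 2 [] n79

def n81 : Node := .conj 3 [3, 7, 8, 1, 6, 2, 0, 3, 5, 1, 0, 7, 2, 4, 3, 2, 1, 7, 4, 3, 2, 0,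
    1, 3, 7, 4, 3, 2, 0, 8, 7, 5, 6, 3, 4, 5, 0, 2, 3, 4, 7, 3, 1, 0,
    2, 1, 3, 2, 7, 4, 3, 2, 0, 1, 7, 4, 3, 2, 0, 1, 3, 7, 6, 4, 3, 5,
    4, 5, 2, 3, 4, 5, 7, 3, 1, 3, 5, 2, 0, 7, 5, 1, 3, 2, 8, 4, 3, 7,
    3, 2, 1, 4, 3, 2, 0, 1, 8, 5, 4, 3, 2, 7, 4, 6, 5, 4, 1, 0, 2, 3,
    4, 7, 1, 0, 2, 3, 4, 7, 2, 3, 1, 2, 0, 1, 3, 7, 4, 3, 2, 0, 8, 5,
    4, 6, 3, 7, 5, 4, 1, 0, 2, 3, 4, 7, 1, 2, 5, 3, 4, 7, 3, 8, 7, 3,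
    2, 1, 5, 4, 3, 2, 0, 1, 4, 3]

def n82 : Node := .fuse [0, 0, 0, 0, 0, 0, 1] 2 [] n81

def n83 : Node := .conj 1 [3, 7, 8, 3, 6, 5, 1, 0, 2, 3, 4, 7, 1, 0, 2, 3, 4, 7, 2, 3, 1, 2,
    0, 1, 3, 7, 4, 3, 2, 0, 8, 5, 4, 7, 6, 5, 3, 7, 4, 5, 6, 3, 0, 2,
    3, 4, 7, 3, 1, 0, 2, 1, 3, 2, 7, 4, 3, 2, 0, 1, 7, 4, 3, 2, 0, 1,
    5, 4, 1, 0, 2, 3, 7, 8, 1, 2, 3, 7, 1, 0, 2, 3, 4, 5, 1, 2, 3, 6,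
    4, 5, 7, 3, 2, 1, 8, 7, 3, 2, 0, 1, 6, 5, 4, 3, 2, 0, 7, 8, 3, 7,
    6, 4, 6, 5, 1, 0, 2, 3, 4, 7, 1, 0, 2, 3, 4, 7, 2, 3, 1, 2, 0, 1,
    3, 7, 4, 3, 2, 0, 8, 7, 4, 3, 5, 4, 2, 3, 4, 5, 7, 3, 6]

def n84 : Node := .fuse [0, 0, 0, 0, 0, 0, 1] 2 [] n83

def n85 : Node := .split n80 n82 n84

def n86 : Node := .fuse [0, 1] 2 [1, 2] n85

def n87 : Node := .fuse [0, 0, 1] 1 [0, 2, 1] n86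

def n88 : Node := .split n69 n78 n87

def n89 : Node := .conj 0 [4, 5, 8, 2, 3, 4, 7, 1, 0, 2, 3, 4, 7, 1, 2, 5, 3, 4, 7, 3, 8, 7,
    3, 2, 1, 5, 4, 3, 2, 0, 1, 7, 4, 3, 2, 3, 4, 5, 6, 5, 7, 1, 0, 2,
    3, 4, 7, 1, 0, 2, 3, 4, 7, 2, 3, 1, 2, 0, 1, 3, 7, 4, 3, 2, 0, 5,
    7, 3, 2, 3, 4, 5, 7, 3, 6, 4, 5, 2, 3, 4, 7, 3, 8, 2, 0]

def n90 : Node := .fuse [0, 0, 0, 0, 0, 0, 1] 1 [] n89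

def n91 : Node := .conj 1 [7, 2, 3, 4, 5, 7, 3, 6, 4, 5, 2, 3, 1, 0, 2, 1, 3, 4, 5, 6, 7, 2,
    3, 4, 5, 7, 3, 4, 8, 7, 2, 3, 4, 7, 6, 3, 2, 1, 5, 4, 3, 2, 0, 1,
    4, 3, 2, 6, 7, 8, 5, 4, 3, 7, 4, 5, 6, 3, 4, 2, 3, 8, 7, 5, 4, 3,
    2, 5, 4, 5, 2, 7, 8, 1, 3, 4, 2, 3, 8, 2, 0, 1, 5, 2, 8, 0, 7, 1,
    3, 4, 3, 2, 1, 7, 3, 2, 0, 1, 5, 4, 3, 2, 6, 7, 3, 8, 5, 1, 0, 2,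
    3, 4, 7, 1, 0, 2, 3, 4, 7, 2, 3, 1, 2, 0, 1, 3, 7, 4, 3, 2, 0, 6,
    4, 5, 8, 2, 3, 4, 5, 6]

def n92 : Node := .fuse [0, 0, 0, 0, 0, 0, 1] 1 [] n91

def n93 : Node := .conj 2 [3, 7, 8, 1, 6, 2, 0, 3, 5, 1, 0, 7, 2, 4, 3, 2, 1, 7, 4, 3, 2, 0,
    1, 3, 7, 4, 3, 2, 0, 8, 7, 5, 6, 3, 4, 5, 0, 2, 3, 4, 7, 3, 1, 0,
    2, 1, 3, 2, 7, 4, 3, 2, 0, 1, 7, 4, 3, 2, 0, 1, 3, 7, 6, 4, 3, 5,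
    4, 2, 3, 4, 7, 1, 0, 2, 3, 4, 7, 1, 2, 5, 3, 4, 7, 3, 8, 7, 3, 2,
    1, 5, 4, 3, 2, 0, 1, 7, 4, 3, 2, 5, 8, 6, 5, 4, 1, 0, 2, 3, 4, 7,
    1, 0, 2, 3, 4, 7, 2, 3, 1, 2, 0, 1, 3, 7, 4, 3, 2, 0, 8, 7, 3, 4,
    5, 2, 3, 4, 1, 0, 2, 1, 3]

def n94 : Node := .fuse [0, 0, 0, 0, 0, 0, 1] 1 [] n93

def n95 : Node := .split n90 n92 n94

def n96 : Node := .conj 3 [2, 3, 4, 5, 7, 3, 6, 4, 5, 2, 3, 1, 0, 2, 1, 3, 4, 5, 6, 7, 2, 3,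
    4, 5, 7, 3, 4, 8, 7, 2, 3, 4, 7, 6, 3, 2, 1, 5, 4, 3, 2, 0, 1, 4,
    3, 2, 6, 7, 8, 5, 4, 3, 7, 4, 5, 6, 3, 4, 2, 3, 8, 7, 5, 4, 3, 2,
    5, 4, 2, 3, 8, 1, 0, 2, 8, 4, 3, 1, 7, 5, 4, 6, 3, 1, 7, 2, 7, 1,
    0, 2, 3, 7, 4, 3, 2, 1, 6, 5, 4, 3, 2, 7, 3, 4, 5, 6, 5, 7, 1, 0,
    2, 3, 4, 7, 1, 0, 2, 3, 4, 7, 2, 3, 1, 2, 0, 1, 3, 7, 4, 3, 2, 0,
    8, 7, 3, 4, 5, 6, 1, 0, 2, 3, 4, 7, 1, 2, 5, 3, 4, 7, 3, 8, 7, 3,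
    2, 1, 5, 4, 3, 2, 0, 1, 4, 0, 2]

def n97 : Node := .fuse [0, 0, 0, 0, 0, 0, 1] 1 [] n96

def n98 : Node := .fuse [0, 0, 1] 1 [1] n97

def n99 : Node := .conj 3 [2, 3, 4, 5, 7, 3, 6, 4, 5, 2, 3, 1, 0, 2, 1, 3, 4, 5, 6, 7, 2, 3,
    4, 5, 7, 3, 4, 8, 7, 2, 3, 4, 7, 6, 3, 2, 1, 5, 4, 3, 2, 0, 1, 4,
    3, 2, 6, 7, 8, 5, 4, 3, 7, 4, 5, 6, 3, 4, 2, 3, 8, 7, 5, 4, 3, 2,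
    5, 4, 3, 1, 4, 2, 0, 1, 3, 2, 5, 0, 7, 4, 3, 2, 4, 7, 3, 1, 2, 0,
    1, 3, 7, 4, 3, 2, 0, 4, 3, 7, 5, 4, 3, 5, 6, 5, 4, 3, 1, 0, 2, 3,
    4, 7, 1, 0, 2, 3, 4, 7, 2, 3, 1, 2, 0, 1, 3, 7, 4, 3, 2, 0, 5, 4,
    6, 5, 3, 8, 7, 6, 1, 0, 2, 3, 4, 7, 1, 2, 5, 3, 4, 7, 3, 8, 7, 3,
    2, 1, 5, 4, 3, 2, 0, 1, 4, 0, 2]

def n100 : Node := .fuse [0, 0, 0, 0, 0, 0, 1] 1 [] n99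

def n101 : Node := .fuse [0, 0, 1] 2 [2] n100

def n102 : Node := .split n95 n98 n101

def n103 : Node := .fuse [0, 1] 1 [] n102

def n104 : Node := .conj 2 [3, 7, 8, 1, 6, 2, 0, 3, 5, 1, 0, 7, 2, 4, 3, 2, 1, 7, 4, 3, 2, 0,
    1, 3, 7, 4, 3, 2, 0, 8, 7, 5, 6, 3, 4, 5, 0, 2, 3, 4, 7, 3, 1, 0,
    2, 1, 3, 2, 7, 4, 3, 2, 0, 1, 7, 4, 3, 2, 0, 1, 3, 7, 6, 4, 3, 5,
    4, 8, 2, 3, 4, 7, 1, 0, 2, 3, 4, 7, 1, 2, 5, 3, 4, 7, 3, 8, 7, 3,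
    2, 1, 5, 4, 3, 2, 0, 1, 7, 4, 3, 2, 8, 3, 4, 7, 3, 6, 5, 4, 3, 1,
    0, 2, 3, 4, 7, 1, 0, 2, 3, 4, 7, 2, 3, 1, 2, 0, 1, 3, 7, 4, 3, 2,
    0, 4, 2, 3, 1, 0, 2, 1, 3]

def n105 : Node := .fuse [0, 0, 0, 0, 0, 0, 1] 1 [] n104

def n106 : Node := .conj 1 [3, 7, 8, 3, 6, 5, 1, 0, 2, 3, 4, 7, 1, 0, 2, 3, 4, 7, 2, 3, 1, 2,
    0, 1, 3, 7, 4, 3, 2, 0, 8, 5, 4, 7, 6, 5, 3, 7, 4, 5, 6, 3, 0, 2,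
    3, 4, 7, 3, 1, 0, 2, 1, 3, 2, 7, 4, 3, 2, 0, 1, 7, 4, 3, 2, 0, 1,
    5, 4, 1, 0, 2, 3, 7, 8, 1, 2, 3, 7, 1, 0, 2, 3, 4, 5, 1, 2, 3, 6,
    4, 5, 7, 3, 2, 1, 8, 7, 3, 2, 0, 1, 6, 5, 4, 3, 2, 0, 7, 8, 3, 7,
    6, 4, 6, 5, 1, 0, 2, 3, 4, 7, 1, 0, 2, 3, 4, 7, 2, 3, 1, 2, 0, 1,
    3, 7, 4, 3, 2, 0, 8, 4, 5, 6, 7, 3, 2, 3, 4, 5, 7, 3, 6]

def n107 : Node := .fuse [0, 0, 0, 0, 0, 0, 1] 1 [] n106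

def n108 : Node := .conj 3 [7, 2, 3, 4, 5, 7, 3, 6, 4, 5, 2, 3, 1, 0, 2, 1, 3, 4, 5, 6, 7, 2,
    3, 4, 5, 7, 3, 4, 8, 7, 2, 3, 4, 7, 6, 3, 2, 1, 5, 4, 3, 2, 0, 1,
    4, 3, 2, 6, 7, 8, 5, 4, 3, 7, 4, 5, 6, 3, 4, 2, 3, 8, 7, 5, 4, 3,
    2, 5, 4, 5, 8, 2, 3, 4, 7, 1, 0, 2, 3, 4, 7, 1, 2, 5, 3, 4, 7, 3,
    8, 7, 3, 2, 1, 5, 4, 3, 2, 0, 1, 7, 4, 3, 2, 8, 7, 4, 1, 6, 2, 0,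
    3, 5, 1, 0, 7, 2, 4, 3, 2, 1, 7, 4, 3, 2, 0, 1, 3, 7, 4, 3, 2, 0,
    5, 4, 6, 2, 3, 4, 7, 3, 2, 0, 5, 4, 3]

def n109 : Node := .fuse [0, 0, 0, 0, 0, 0, 1] 1 [] n108

def n110 : Node := .split n105 n107 n109

def n111 : Node := .fuse [0, 1] 1 [2, 2] n110

def n112 : Node := .fuse [0, 0, 1] 2 [0, 1, 1] n111

def n113 : Node := .conj 2 [3, 7, 8, 1, 6, 2, 0, 3, 5, 1, 0, 7, 2, 4, 3, 2, 1, 7, 4, 3, 2, 0,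
    1, 3, 7, 4, 3, 2, 0, 8, 7, 5, 6, 3, 4, 5, 0, 2, 3, 4, 7, 3, 1, 0,
    2, 1, 3, 2, 7, 4, 3, 2, 0, 1, 7, 4, 3, 2, 0, 1, 3, 7, 6, 4, 3, 5,
    4, 2, 3, 4, 7, 1, 0, 2, 3, 4, 7, 1, 2, 5, 3, 4, 7, 3, 8, 7, 3, 2,
    1, 5, 4, 3, 2, 0, 1, 7, 4, 3, 2, 5, 8, 7, 4, 6, 5, 1, 0, 2, 3, 4,
    7, 1, 0, 2, 3, 4, 7, 2, 3, 1, 2, 0, 1, 3, 7, 4, 3, 2, 0, 8, 5, 4,
    6, 5, 3, 4, 2, 3, 1, 0, 2, 1, 3]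

def n114 : Node := .fuse [0, 0, 0, 0, 0, 0, 1] 1 [] n113

def n115 : Node := .conj 1 [3, 7, 8, 1, 6, 2, 0, 3, 5, 1, 0, 7, 2, 4, 3, 2, 1, 7, 4, 3, 2, 0,
    1, 3, 7, 4, 3, 2, 0, 8, 7, 5, 6, 3, 4, 5, 0, 2, 3, 4, 7, 3, 1, 0,
    2, 1, 3, 2, 7, 4, 3, 2, 0, 1, 7, 4, 3, 2, 0, 1, 3, 7, 6, 4, 3, 5,
    2, 3, 4, 7, 1, 0, 2, 3, 4, 7, 1, 2, 5, 3, 4, 7, 3, 8, 7, 3, 2, 1,
    5, 4, 3, 2, 0, 1, 7, 4, 3, 2, 3, 6, 5, 1, 0, 2, 3, 4, 7, 1, 0, 2,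
    3, 4, 7, 2, 3, 1, 2, 0, 1, 3, 7, 4, 3, 2, 0, 8, 5, 7, 4, 3, 1, 0,
    2, 3, 4, 7, 1, 2, 5, 3, 4, 7, 3, 8, 7, 3, 2, 1, 5, 4, 3, 2, 0, 1,
    7, 6, 8, 3, 7]

def n116 : Node := .fuse [0, 0, 0, 0, 0, 0, 1] 1 [] n115

def n117 : Node := .conj 3 [3, 7, 8, 3, 6, 5, 1, 0, 2, 3, 4, 7, 1, 0, 2, 3, 4, 7, 2, 3, 1, 2,
    0, 1, 3, 7, 4, 3, 2, 0, 8, 5, 4, 7, 6, 5, 3, 7, 4, 5, 6, 3, 0, 2,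
    3, 4, 7, 3, 1, 0, 2, 1, 3, 2, 7, 4, 3, 2, 0, 1, 7, 4, 3, 2, 0, 1,
    5, 4, 5, 8, 7, 2, 3, 4, 5, 7, 3, 1, 3, 5, 2, 0, 7, 5, 1, 3, 2, 8,
    4, 3, 7, 3, 2, 1, 4, 3, 2, 0, 1, 8, 5, 4, 3, 2, 6, 5, 4, 3, 4, 5,
    6, 7, 8, 1, 0, 2, 3, 4, 7, 1, 0, 2, 3, 4, 7, 2, 3, 1, 2, 0, 1, 3,
    7, 4, 3, 2, 0, 5, 4, 6, 2, 3, 4, 7, 3]

def n118 : Node := .fuse [0, 0, 0, 0, 0, 0, 1] 1 [] n117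

def n119 : Node := .split n114 n116 n118

def n120 : Node := .fuse [0, 1, 1] 2 [2] n119

def n121 : Node := .fuse [0, 0, 1] 1 [0, 2, 1] n120

def n122 : Node := .split n103 n112 n121

def n123 : Node := .split n54 n88 n122

def n124 : Node := .conj 1 [3, 7, 8, 1, 6, 2, 0, 3, 5, 1, 0, 7, 2, 4, 3, 2, 1, 7, 4, 3, 2, 0,
    1, 3, 7, 4, 3, 2, 0, 8, 7, 5, 6, 3, 4, 5, 0, 2, 3, 4, 7, 3, 1, 0,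
    2, 1, 3, 2, 7, 4, 3, 2, 0, 1, 7, 4, 3, 2, 0, 1, 3, 7, 6, 4, 3, 5,
    4, 8, 3, 1, 4, 2, 0, 1, 3, 2, 5, 0, 7, 4, 3, 2, 4, 7, 3, 1, 2, 0,
    1, 3, 7, 4, 3, 2, 0, 4, 3, 7, 5, 4, 3, 7, 8, 3, 4, 6, 5, 4, 7, 3,
    7, 8, 1, 0, 2, 3, 4, 7, 1, 0, 2, 3, 4, 7, 2, 3, 1, 2, 0, 1, 3, 7,
    4, 3, 2, 0, 4, 2, 3, 4, 5, 7, 3, 6, 0, 2, 1, 0, 2, 3, 4, 1, 2, 3]

def n125 : Node := .conj 2 [1, 0, 3, 4, 5, 7, 3, 4, 2, 3, 6, 8, 7, 3, 1, 2, 5, 3, 4, 3, 7, 1,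
    2, 3, 1, 2, 0, 1, 0, 2, 3, 7, 4, 3, 2, 5, 6, 4, 5, 8, 0, 2, 3, 4,
    7, 3, 1, 0, 2, 1, 3, 2, 7, 4, 3, 2, 0, 1, 7, 4, 3, 2, 0, 1, 5, 6,
    1, 0, 2, 3, 4, 5, 7, 3, 8, 4, 7, 3, 1, 2, 3, 4, 5, 7, 3, 2, 8, 7,
    4, 3, 2, 7, 8, 4, 3, 5, 4, 7, 3, 1, 2, 0, 1, 2, 3, 7, 8, 4, 3, 7,
    5, 4, 3, 2, 8, 4, 5, 3, 4, 6, 5, 4, 3, 2, 3, 1, 0, 2, 1, 3]

def n126 : Node := .conj 0 [2, 3, 4, 5, 7, 3, 6, 4, 5, 2, 3, 1, 0, 2, 1, 3, 4, 5, 6, 7, 2, 3,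
    4, 5, 7, 3, 4, 8, 7, 2, 3, 4, 7, 6, 3, 2, 1, 5, 4, 3, 2, 0, 1, 4,
    3, 2, 6, 7, 8, 5, 4, 3, 7, 4, 5, 6, 3, 4, 2, 3, 8, 7, 5, 4, 3, 2,
    5, 4, 7, 8, 2, 3, 4, 7, 1, 0, 2, 3, 4, 7, 1, 2, 5, 3, 4, 7, 3, 8,
    7, 3, 2, 1, 5, 4, 3, 2, 0, 1, 7, 4, 3, 2, 8, 5, 7, 3, 4, 6, 7, 3,
    8, 5, 1, 0, 2, 3, 4, 7, 1, 0, 2, 3, 4, 7, 2, 3, 1, 2, 0, 1, 3, 7,
    4, 3, 2, 0, 5, 6, 8, 5, 4, 0, 2, 3, 4, 5, 6, 7, 8, 3, 4, 7, 3, 5,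
    2, 3, 4, 5, 7, 3, 6, 7, 8, 1, 2, 3, 4, 5, 7, 3, 4, 8, 7, 3, 2]

def n127 : Node := .split n124 n125 n126

def n128 : Node := .fuse [0, 0, 0, 0, 0, 0, 1] 2 [2] n127

def n129 : Node := .conj 3 [2, 3, 4, 5, 7, 3, 6, 4, 5, 2, 3, 1, 0, 2, 1, 3, 4, 5, 6, 7, 2, 3,
    4, 5, 7, 3, 4, 8, 7, 2, 3, 4, 7, 6, 3, 2, 1, 5, 4, 3, 2, 0, 1, 4,
    3, 2, 6, 7, 8, 5, 4, 3, 7, 4, 5, 6, 3, 4, 2, 3, 8, 7, 5, 4, 3, 2,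
    5, 4, 5, 8, 2, 3, 4, 7, 1, 0, 2, 3, 4, 7, 1, 2, 5, 3, 4, 7, 3, 8,
    7, 3, 2, 1, 5, 4, 3, 2, 0, 1, 7, 4, 3, 2, 5, 4, 5, 3, 4, 6, 5, 4,
    2, 1, 3, 5, 2, 0, 7, 5, 1, 3, 2, 8, 4, 3, 7, 3, 2, 1, 4, 3, 2, 0,
    1, 8, 7, 3, 2, 6, 5, 2, 3, 4, 5, 7, 3, 6, 4, 5, 2, 8, 7, 3, 4, 1,
    2, 3, 4]

def n130 : Node := .fuse [0, 0, 0, 1] 1 [] n129

def n131 : Node := .fuse [0, 0, 0, 0, 0, 0, 1] 2 [2] n130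

def n132 : Node := .conj 3 [1, 6, 2, 0, 3, 5, 1, 0, 7, 2, 4, 3, 2, 1, 7, 4, 3, 2, 0, 1, 3, 7,
    4, 3, 2, 0, 5, 4, 3, 8, 6, 5, 4, 3, 1, 0, 2, 3, 4, 7, 1, 0, 2, 3,
    4, 7, 2, 3, 1, 2, 0, 1, 3, 7, 4, 3, 2, 0, 5, 4, 8, 3, 6, 5, 4, 7,
    3, 8, 4, 2, 1, 3, 5, 2, 0, 7, 5, 1, 3, 2, 8, 4, 3, 7, 3, 2, 1, 4,
    3, 2, 0, 1, 8, 7, 3, 2, 5, 7, 4, 5, 3, 4, 7, 6, 5, 1, 0, 2, 3, 4,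
    7, 1, 0, 2, 3, 4, 7, 2, 3, 1, 2, 0, 1, 3, 7, 4, 3, 2, 0, 3, 8, 7,
    5, 3, 4, 5, 2, 3, 4, 7, 3, 8, 7, 0, 2, 3, 1, 2, 3, 4, 7, 3, 2, 5,
    4, 8, 7, 1, 3, 7, 2, 1, 0, 3, 8]

def n133 : Node := .fuse [0, 0, 0, 1] 2 [] n132

def n134 : Node := .fuse [0, 0, 0, 0, 0, 0, 1] 2 [2] n133

def n135 : Node := .split n128 n131 n134

def n136 : Node := .fuse [0, 0, 0, 0, 1] 1 [0, 2, 1] n135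

def n137 : Node := .fuse [0, 0, 0, 0, 0, 1] 1 [] (.bad 1)

def n138 : Node := .fuse [0, 0, 0, 0, 0, 0, 1] 2 [2] n137

def n139 : Node := .fuse [0, 1, 0, 0, 1] 1 [1] n138

def n140 : Node := .fuse [0, 0, 0, 0, 1] 1 [0, 2, 2] n139

def n141 : Node := .fuse [0, 0, 0, 0, 0, 1] 2 [] (.bad 1)

def n142 : Node := .fuse [0, 0, 0, 0, 0, 0, 1] 2 [2] n141

def n143 : Node := .fuse [0, 1, 0, 0, 2] 2 [1, 2] n142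

def n144 : Node := .fuse [0, 0, 0, 0, 1] 1 [0, 2] n143

def n145 : Node := .split n136 n140 n144

def n146 : Node := .fuse [1] 2 [0, 2, 0, 2, 1] n145

def n147 : Node := .conj 1 [3, 7, 8, 1, 6, 2, 0, 3, 5, 1, 0, 7, 2, 4, 3, 2, 1, 7, 4, 3, 2, 0,
    1, 3, 7, 4, 3, 2, 0, 8, 7, 5, 6, 3, 4, 5, 0, 2, 3, 4, 7, 3, 1, 0,
    2, 1, 3, 2, 7, 4, 3, 2, 0, 1, 7, 4, 3, 2, 0, 1, 3, 7, 6, 4, 3, 5,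
    4, 8, 3, 1, 4, 2, 0, 1, 3, 2, 5, 0, 7, 4, 3, 2, 4, 7, 3, 1, 2, 0,
    1, 3, 7, 4, 3, 2, 0, 4, 3, 7, 5, 4, 3, 7, 8, 6, 5, 4, 3, 4, 7, 3,
    8, 7, 1, 0, 2, 3, 4, 7, 1, 0, 2, 3, 4, 7, 2, 3, 1, 2, 0, 1, 3, 7,
    4, 3, 2, 0, 2, 3, 4, 5, 7, 3, 2, 6, 1, 0, 2, 3, 4, 1, 2, 3]

def n148 : Node := .conj 0 [3, 4, 5, 7, 8, 3, 4, 6, 7, 5, 1, 0, 2, 3, 4, 7, 1, 0, 2, 3, 4, 7,
    2, 3, 1, 2, 0, 1, 3, 7, 4, 3, 2, 0, 5, 6, 8, 3, 4, 5, 6, 0, 2, 3,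
    4, 7, 3, 1, 0, 2, 1, 3, 2, 7, 4, 3, 2, 0, 1, 7, 4, 3, 2, 0, 1, 5,
    6, 4, 8, 2, 1, 3, 5, 2, 0, 7, 5, 1, 3, 2, 8, 4, 3, 7, 3, 2, 1, 4,
    3, 2, 0, 1, 8, 7, 3, 2, 4, 6, 3, 7, 1, 2, 3, 8, 1, 0, 1, 5, 4, 7,
    2, 3, 7, 2, 4, 3, 1, 2, 0, 1, 3, 7, 4, 3, 2, 0, 7, 8, 5, 7, 2, 3,
    4, 5, 7, 8, 3, 2, 4, 3, 6, 5, 4, 7, 3, 4, 2, 5, 1, 2, 3, 4, 5, 7,
    3, 4, 8, 7, 3, 2, 3, 4, 5, 1, 7]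

def n149 : Node := .conj 2 [1, 0, 3, 4, 5, 7, 3, 4, 2, 3, 6, 8, 7, 3, 1, 2, 5, 3, 4, 3, 7, 1,
    2, 3, 1, 2, 0, 1, 0, 2, 3, 7, 4, 3, 2, 5, 6, 4, 5, 8, 0, 2, 3, 4,
    7, 3, 1, 0, 2, 1, 3, 2, 7, 4, 3, 2, 0, 1, 7, 4, 3, 2, 0, 1, 5, 6,
    4, 5, 1, 0, 2, 3, 4, 5, 7, 3, 8, 4, 7, 3, 1, 2, 3, 4, 5, 7, 3, 2,
    8, 7, 4, 3, 2, 7, 8, 4, 3, 5, 4, 7, 3, 1, 2, 0, 1, 2, 3, 7, 8, 4,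
    3, 7, 5, 4, 3, 2, 3, 4, 5, 6, 5, 4, 1, 0, 2, 3, 4, 7, 1, 0, 2, 3,
    4, 7, 2, 3, 1, 2, 0, 1, 3, 7, 4, 3, 2, 0, 8, 2, 3, 4, 1, 0, 2, 1,
    3]

def n150 : Node := .split n147 n148 n149

def n151 : Node := .fuse [0, 0, 0, 0, 0, 0, 1] 1 [1] n150

def n152 : Node := .conj 3 [2, 3, 4, 5, 7, 3, 6, 4, 5, 2, 3, 1, 0, 2, 1, 3, 4, 5, 6, 7, 2, 3,
    4, 5, 7, 3, 4, 8, 7, 2, 3, 4, 7, 6, 3, 2, 1, 5, 4, 3, 2, 0, 1, 4,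
    3, 2, 6, 7, 8, 5, 4, 3, 7, 4, 5, 6, 3, 4, 2, 3, 8, 7, 5, 4, 3, 2,
    5, 4, 2, 3, 4, 5, 7, 3, 1, 3, 5, 2, 0, 7, 5, 1, 3, 2, 8, 4, 3, 7,
    3, 2, 1, 4, 3, 2, 0, 1, 8, 5, 4, 3, 2, 8, 7, 3, 4, 5, 6, 7, 8, 1,
    0, 2, 3, 4, 7, 1, 0, 2, 3, 4, 7, 2, 3, 1, 2, 0, 1, 3, 7, 4, 3, 2,
    0, 5, 6, 3, 2, 3, 4, 7, 3, 8, 7, 0, 2, 3, 1, 2, 3, 4, 7, 3, 2, 5,
    4, 8, 7, 1, 3, 7, 2, 1, 0, 3, 8]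

def n153 : Node := .fuse [0, 0, 0, 1] 1 [] n152

def n154 : Node := .fuse [0, 0, 0, 0, 0, 0, 1] 1 [1] n153

def n155 : Node := .conj 3 [5, 4, 2, 3, 4, 7, 1, 0, 2, 3, 4, 7, 1, 2, 5, 3, 4, 7, 3, 8, 7, 3,
    2, 1, 5, 4, 3, 2, 0, 1, 7, 4, 3, 2, 4, 3, 6, 5, 1, 0, 2, 3, 4, 7,
    1, 0, 2, 3, 4, 7, 2, 3, 1, 2, 0, 1, 3, 7, 4, 3, 2, 0, 8, 5, 7, 4,
    6, 3, 2, 3, 4, 5, 7, 3, 6, 4, 5, 2, 8, 7, 3, 4, 1, 2, 3, 4]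

def n156 : Node := .fuse [0, 0, 0, 1] 2 [] n155

def n157 : Node := .fuse [0, 0, 0, 0, 0, 0, 1] 1 [1] n156

def n158 : Node := .split n151 n154 n157

def n159 : Node := .fuse [0, 0, 0, 0, 1] 2 [0, 1, 2] n158

def n160 : Node := .fuse [0, 0, 0, 0, 0, 1] 1 [] (.bad 1)

def n161 : Node := .fuse [0, 0, 0, 0, 0, 0, 1] 1 [1] n160

def n162 : Node := .fuse [0, 1, 0, 0, 2] 1 [2, 2] n161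

def n163 : Node := .fuse [0, 0, 0, 0, 1] 2 [0, 1, 1] n162

def n164 : Node := .fuse [0, 0, 0, 0, 0, 1] 2 [] (.bad 1)

def n165 : Node := .fuse [0, 0, 0, 0, 0, 0, 1] 1 [1] n164

def n166 : Node := .fuse [0, 1, 0, 0, 1] 2 [2, 1] n165

def n167 : Node := .fuse [0, 0, 0, 0, 1] 2 [0, 1] n166

def n168 : Node := .split n159 n163 n167

def n169 : Node := .fuse [1] 1 [0, 1, 0, 1, 2] n168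

def n170 : Node := .split n123 n146 n169

def n171 : Node := .conj 1 [3, 7, 8, 3, 6, 5, 1, 0, 2, 3, 4, 7, 1, 0, 2, 3, 4, 7, 2, 3, 1, 2,
    0, 1, 3, 7, 4, 3, 2, 0, 8, 5, 4, 7, 6, 5, 3, 7, 4, 5, 6, 3, 0, 2,
    3, 4, 7, 3, 1, 0, 2, 1, 3, 2, 7, 4, 3, 2, 0, 1, 7, 4, 3, 2, 0, 1,
    5, 8, 3, 1, 4, 2, 0, 1, 3, 2, 5, 0, 7, 4, 3, 2, 4, 7, 3, 1, 2, 0,
    1, 3, 7, 4, 3, 2, 0, 4, 3, 7, 5, 4, 3, 4, 6, 5, 4, 3, 7, 8, 1, 0,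
    2, 3, 4, 7, 1, 0, 2, 3, 4, 7, 2, 3, 1, 2, 0, 1, 3, 7, 4, 3, 2, 0,
    5, 8, 7, 1, 0, 2, 3, 4, 7, 1, 2, 5, 3, 4, 7, 3, 8, 7, 3, 2, 1, 5,
    4, 3, 2, 0, 1, 4, 5, 6, 5, 4, 2, 3, 7, 8, 0, 1, 2, 3, 4, 5, 7, 3,
    4, 8, 2, 6, 7, 3, 2, 4, 1, 2, 3, 0, 7, 8]

def n172 : Node := .conj 3 [3, 7, 8, 3, 6, 5, 1, 0, 2, 3, 4, 7, 1, 0, 2, 3, 4, 7, 2, 3, 1, 2,
    0, 1, 3, 7, 4, 3, 2, 0, 8, 5, 4, 7, 6, 5, 3, 7, 4, 5, 6, 3, 0, 2,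
    3, 4, 7, 3, 1, 0, 2, 1, 3, 2, 7, 4, 3, 2, 0, 1, 7, 4, 3, 2, 0, 1,
    5, 4, 8, 2, 3, 4, 7, 1, 0, 2, 3, 4, 7, 1, 2, 5, 3, 4, 7, 3, 8, 7,
    3, 2, 1, 5, 4, 3, 2, 0, 1, 7, 4, 3, 2, 5, 3, 4, 6, 5, 1, 0, 2, 3,
    4, 7, 1, 0, 2, 3, 4, 7, 2, 3, 1, 2, 0, 1, 3, 7, 4, 3, 2, 0, 7, 5,
    4, 3, 8, 7, 2, 3, 4, 5, 7, 3, 2, 6, 4, 5, 8, 1, 0, 2, 3, 4, 5, 6,
    7, 8, 3, 2, 7, 3]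

def n173 : Node := .conj 2 [7, 4, 8, 6, 5, 4, 3, 7, 0, 2, 3, 1]

def n174 : Node := .split n171 n172 n173

def n175 : Node := .fuse [0, 0, 0, 0, 0, 0, 1] 2 [2] n174

def n176 : Node := .fuse [0, 0, 0, 1, 2] 1 [1, 1] n175

def n177 : Node := .fuse [0, 0, 0, 0, 1] 1 [2] n176

def n178 : Node := .fuse [0, 0, 0, 0, 0, 1, 1] 1 [] (.bad 0)

def n179 : Node := .fuse [0, 0, 0, 0, 0, 0, 1] 2 [2] n178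

def n180 : Node := .fuse [0, 0, 0, 1, 2] 1 [1, 1] n179

def n181 : Node := .fuse [0, 0, 0, 0, 1] 1 [2, 0, 1] n180

def n182 : Node := .fuse [0, 0, 0, 0, 0, 1, 1] 2 [] (.bad 0)

def n183 : Node := .fuse [0, 0, 0, 0, 0, 0, 1] 2 [2] n182

def n184 : Node := .fuse [0, 0, 0, 1, 2] 1 [1, 1] n183

def n185 : Node := .fuse [0, 0, 0, 0, 1] 1 [2, 0, 2] n184

def n186 : Node := .split n177 n181 n185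

def n187 : Node := .fuse [1] 2 [2, 1] n186

def n188 : Node := .conj 2 [2, 3, 4, 5, 7, 3, 6, 4, 5, 2, 3, 1, 0, 2, 1, 3, 4, 5, 6, 7, 2, 3,
    4, 5, 7, 3, 4, 8, 7, 2, 3, 4, 7, 6, 3, 2, 1, 5, 4, 3, 2, 0, 1, 4,
    3, 2, 6, 7, 8, 5, 4, 3, 7, 4, 5, 6, 3, 4, 2, 3, 8, 7, 5, 4, 3, 2,
    5, 4, 8, 7, 2, 3, 4, 5, 7, 3, 1, 3, 5, 2, 0, 7, 5, 1, 3, 2, 8, 4,
    3, 7, 3, 2, 1, 4, 3, 2, 0, 1, 8, 5, 4, 3, 2, 3, 4, 6, 5, 4, 7, 3,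
    7, 8, 1, 0, 2, 3, 4, 7, 1, 0, 2, 3, 4, 7, 2, 3, 1, 2, 0, 1, 3, 7,
    4, 3, 2, 0, 4, 5, 2, 3, 1]

def n189 : Node := .conj 3 [3, 7, 8, 3, 6, 5, 1, 0, 2, 3, 4, 7, 1, 0, 2, 3, 4, 7, 2, 3, 1, 2,
    0, 1, 3, 7, 4, 3, 2, 0, 8, 5, 4, 7, 6, 5, 3, 7, 4, 5, 6, 3, 0, 2,
    3, 4, 7, 3, 1, 0, 2, 1, 3, 2, 7, 4, 3, 2, 0, 1, 7, 4, 3, 2, 0, 1,
    5, 4, 5, 3, 1, 4, 2, 0, 1, 3, 2, 5, 0, 7, 4, 3, 2, 4, 7, 3, 1, 2,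
    0, 1, 3, 7, 4, 3, 2, 0, 4, 3, 7, 5, 6, 7, 3, 8, 5, 1, 0, 2, 3, 4,
    7, 1, 0, 2, 3, 4, 7, 2, 3, 1, 2, 0, 1, 3, 7, 4, 3, 2, 0, 6, 8, 7,
    1, 0, 2, 3, 4, 7, 1, 2, 5, 3, 4, 7, 3, 8, 7, 3, 2, 1, 5, 4, 3, 2,
    0, 1, 2, 3, 1, 2, 3]

def n190 : Node := .conj 1 [7, 2, 3, 4, 7, 1, 0, 2, 3, 4, 7, 1, 2, 5, 3, 4, 7, 3, 8, 7, 3, 2,
    1, 5, 4, 3, 2, 0, 1, 7, 4, 3, 2, 8, 7, 8, 3, 4, 5, 6, 5, 7, 1, 0,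
    2, 3, 4, 7, 1, 0, 2, 3, 4, 7, 2, 3, 1, 2, 0, 1, 3, 7, 4, 3, 2, 0,
    5, 8, 4, 7, 2, 3, 4, 5, 7, 3, 6, 0, 2, 4, 5, 3, 4, 8, 7, 1, 2, 3]

def n191 : Node := .split n188 n189 n190

def n192 : Node := .fuse [0, 0, 0, 0, 0, 0, 1] 1 [1] n191

def n193 : Node := .fuse [0, 0, 0, 1, 1] 2 [1, 2] n192

def n194 : Node := .fuse [0, 0, 0, 0, 1] 2 [2, 0, 2] n193

def n195 : Node := .fuse [0, 0, 0, 0, 0, 1, 2] 1 [] (.bad 0)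

def n196 : Node := .fuse [0, 0, 0, 0, 0, 0, 1] 1 [1] n195

def n197 : Node := .fuse [0, 0, 0, 1, 1] 2 [1, 2] n196

def n198 : Node := .fuse [0, 0, 0, 0, 1] 2 [2, 0, 1] n197

def n199 : Node := .fuse [0, 0, 0, 0, 0, 1, 2] 2 [] (.bad 0)

def n200 : Node := .fuse [0, 0, 0, 0, 0, 0, 1] 1 [1] n199

def n201 : Node := .fuse [0, 0, 0, 1, 1] 2 [1, 2] n200

def n202 : Node := .fuse [0, 0, 0, 0, 1] 2 [2] n201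

def n203 : Node := .split n194 n198 n202

def n204 : Node := .fuse [1] 1 [2, 2] n203

def n205 : Node := .conj 3 [5, 8, 2, 3, 4, 5, 7, 3, 1, 3, 5, 2, 0, 7, 5, 1, 3, 2, 8, 4, 3, 7,
    3, 2, 1, 4, 3, 2, 0, 1, 8, 5, 4, 3, 2, 7, 8, 3, 4, 5, 6, 5, 4, 1,
    0, 2, 3, 4, 7, 1, 0, 2, 3, 4, 7, 2, 3, 1, 2, 0, 1, 3, 7, 4, 3, 2,
    0, 8, 7, 3, 4, 5, 1, 0, 2, 3, 4, 7, 1, 2, 5, 3, 4, 7, 3, 8, 7, 3,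
    2, 1, 5, 4, 3, 2, 0, 1, 6, 5, 4, 3, 2, 7, 3, 4, 1, 0, 2, 3, 4, 5,
    6, 7, 8, 3, 2, 7, 3]

def n206 : Node := .conj 1 [7, 2, 3, 4, 5, 7, 3, 6, 4, 5, 2, 3, 1, 0, 2, 1, 3, 4, 5, 6, 7, 2,
    3, 4, 5, 7, 3, 4, 8, 7, 2, 3, 4, 7, 6, 3, 2, 1, 5, 4, 3, 2, 0, 1,
    4, 3, 2, 6, 7, 8, 5, 4, 3, 7, 4, 5, 6, 3, 4, 2, 3, 8, 7, 5, 4, 3,
    2, 5, 4, 5, 2, 3, 4, 7, 1, 0, 2, 3, 4, 7, 1, 2, 5, 3, 4, 7, 3, 8,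
    7, 3, 2, 1, 5, 4, 3, 2, 0, 1, 7, 4, 3, 2, 5, 4, 5, 7, 8, 6, 5, 4,
    3, 1, 0, 2, 3, 4, 7, 1, 0, 2, 3, 4, 7, 2, 3, 1, 2, 0, 1, 3, 7, 4,
    3, 2, 0, 8, 5, 7, 1, 0, 2, 3, 4, 7, 1, 2, 5, 3, 4, 7, 3, 8, 7, 3,
    2, 1, 5, 4, 3, 2, 0, 1, 6, 5, 4, 3, 2, 3, 4, 7, 3, 1, 2, 3, 4, 5,
    6, 7, 3]

def n207 : Node := .conj 3 [2, 3, 4, 5, 7, 3, 6, 4, 5, 2, 3, 1, 0, 2, 1, 3, 4, 5, 6, 7, 2, 3,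
    4, 5, 7, 3, 4, 8, 7, 2, 3, 4, 7, 6, 3, 2, 1, 5, 4, 3, 2, 0, 1, 4,
    3, 2, 6, 7, 8, 5, 4, 3, 7, 4, 5, 6, 3, 4, 2, 3, 8, 7, 5, 4, 3, 2,
    5, 4, 7, 4, 3, 4, 6, 5, 1, 0, 2, 3, 4, 7, 1, 0, 2, 3, 4, 7, 2, 3,
    1, 2, 0, 1, 3, 7, 4, 3, 2, 0, 8, 7, 8, 3, 4, 5, 3, 4, 1, 0, 2, 3,
    4, 7, 1, 2, 5, 3, 4, 7, 3, 8, 7, 3, 2, 1, 5, 4, 3, 2, 0, 1, 2, 6,
    5, 4, 3, 1, 2, 3]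

def n208 : Node := .split n205 n206 n207

def n209 : Node := .fuse [0, 0, 0, 0, 0, 1] 1 [1] n208

def n210 : Node := .fuse [0, 0, 0, 0, 1] 2 [0, 1] n209

def n211 : Node := .fuse [0, 0, 0, 1] 1 [0, 1, 1] n210

def n212 : Node := .fuse [1] 2 [] n211

def n213 : Node := .fuse [0, 0, 0, 0, 0, 0, 1] 2 [] (.bad 0)

def n214 : Node := .fuse [0, 0, 0, 0, 0, 1] 1 [1] n213

def n215 : Node := .fuse [0, 0, 0, 0, 1] 2 [0, 2] n214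

def n216 : Node := .fuse [0, 0, 0, 1] 1 [0, 1, 1] n215

def n217 : Node := .fuse [1] 2 [] n216

def n218 : Node := .fuse [0, 0, 0, 0, 0, 0, 1] 1 [] (.bad 0)

def n219 : Node := .fuse [0, 0, 0, 0, 0, 1] 1 [1] n218

def n220 : Node := .fuse [0, 0, 0, 0, 1] 2 [] n219

def n221 : Node := .fuse [0, 0, 0, 1] 1 [0, 1, 1] n220

def n222 : Node := .fuse [1] 2 [] n221

def n223 : Node := .split n212 n217 n222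

def n224 : Node := .split n187 n204 n223

def n225 : Node := .conj 1 [6, 5, 1, 0, 2, 3, 4, 7, 1, 0, 2, 3, 4, 7, 2, 3, 1, 2, 0, 1, 3, 7,
    4, 3, 2, 0, 8, 5, 4, 6, 5, 3, 4, 1, 0, 2, 3, 4, 7, 1, 0, 2, 3, 4,
    7, 2, 3, 1, 2, 0, 1, 3, 7, 4, 3, 2, 0, 5, 6, 4, 3, 8, 7, 5, 4, 3,
    1, 0, 2, 3, 4, 5, 7, 3, 8, 4, 7, 3, 1, 2, 3, 4, 5, 7, 3, 2, 8, 7,
    4, 3, 2, 7, 8, 4, 3, 5, 4, 7, 3, 1, 2, 0, 1, 2, 3, 7, 8, 4, 3, 7,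
    5, 4, 3, 2, 8, 4, 7, 3, 6, 5, 1, 0, 2, 3, 4, 7, 1, 0, 2, 3, 4, 7,
    2, 3, 1, 2, 0, 1, 3, 7, 4, 3, 2, 0, 5, 4, 5, 7, 1, 0, 2, 3, 4, 7,
    1, 2, 5, 3, 4, 7, 3, 8, 7, 3, 2, 1, 5, 4, 3, 2, 0, 1, 4, 5, 6, 5,
    4, 2, 3, 7, 8, 0, 1, 2, 3, 4, 5, 7, 3, 4, 8, 2, 6, 7, 3, 2, 4, 1,
    2, 3, 0, 7, 8]

def n226 : Node := .conj 2 [2, 3, 4, 5, 7, 3, 6, 4, 5, 2, 3, 1, 0, 2, 1, 3, 4, 5, 6, 7, 2, 3,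
    4, 5, 7, 3, 4, 8, 7, 2, 3, 4, 7, 6, 3, 2, 1, 5, 4, 3, 2, 0, 1, 4,
    3, 2, 6, 7, 8, 5, 4, 3, 7, 4, 5, 6, 3, 4, 2, 3, 8, 7, 5, 4, 3, 2,
    5, 4, 7, 8, 7, 3, 4, 5, 7, 3, 4, 6, 5, 4, 3, 1, 0, 2, 3, 4, 7, 1,
    0, 2, 3, 4, 7, 2, 3, 1, 2, 0, 1, 3, 7, 4, 3, 2, 0, 4, 8, 0, 2, 3,
    1]

def n227 : Node := .conj 3 [2, 3, 4, 5, 7, 3, 6, 4, 5, 2, 3, 1, 0, 2, 1, 3, 4, 5, 6, 7, 2, 3,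
    4, 5, 7, 3, 4, 8, 7, 2, 3, 4, 7, 6, 3, 2, 1, 5, 4, 3, 2, 0, 1, 4,
    3, 2, 6, 7, 8, 5, 4, 3, 7, 4, 5, 6, 3, 4, 2, 3, 8, 7, 5, 4, 3, 2,
    5, 4, 7, 4, 5, 2, 3, 4, 7, 1, 0, 2, 3, 4, 7, 1, 2, 5, 3, 4, 7, 3,
    8, 7, 3, 2, 1, 5, 4, 3, 2, 0, 1, 7, 4, 3, 2, 8, 6, 5, 4, 1, 0, 2,
    3, 4, 7, 1, 0, 2, 3, 4, 7, 2, 3, 1, 2, 0, 1, 3, 7, 4, 3, 2, 0, 8,
    5, 6, 2, 3, 4, 5, 7, 3, 2, 6, 4, 5, 8, 1, 0, 2, 3, 4, 5, 6, 7, 8,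
    3, 2, 7, 3]

def n228 : Node := .split n225 n226 n227

def n229 : Node := .fuse [0, 0, 0, 0, 0, 0, 1] 1 [1] n228

def n230 : Node := .fuse [0, 0, 0, 1, 2] 2 [1, 1] n229

def n231 : Node := .fuse [0, 0, 0, 0, 1] 2 [1, 2, 2] n230

def n232 : Node := .fuse [0, 0, 0, 0, 0, 1, 1] 1 [] (.bad 0)

def n233 : Node := .fuse [0, 0, 0, 0, 0, 0, 1] 1 [1] n232

def n234 : Node := .fuse [0, 0, 0, 1, 2] 2 [1, 1] n233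

def n235 : Node := .fuse [0, 0, 0, 0, 1] 2 [1, 2, 1] n234

def n236 : Node := .fuse [0, 0, 0, 0, 0, 1, 1] 2 [] (.bad 0)

def n237 : Node := .fuse [0, 0, 0, 0, 0, 0, 1] 1 [1] n236

def n238 : Node := .fuse [0, 0, 0, 1, 2] 2 [1, 1] n237

def n239 : Node := .fuse [0, 0, 0, 0, 1] 2 [1, 2] n238

def n240 : Node := .split n231 n235 n239

def n241 : Node := .fuse [1] 1 [1, 0, 1] n240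

def n242 : Node := .conj 3 [2, 3, 4, 5, 7, 3, 6, 4, 5, 2, 3, 1, 0, 2, 1, 3, 4, 5, 6, 7, 2, 3,
    4, 5, 7, 3, 4, 8, 7, 2, 3, 4, 7, 6, 3, 2, 1, 5, 4, 3, 2, 0, 1, 4,
    3, 2, 6, 7, 8, 5, 4, 3, 7, 4, 5, 6, 3, 4, 2, 3, 8, 7, 5, 4, 3, 2,
    5, 4, 2, 3, 4, 7, 1, 0, 2, 3, 4, 7, 1, 2, 5, 3, 4, 7, 3, 8, 7, 3,
    2, 1, 5, 4, 3, 2, 0, 1, 7, 4, 3, 2, 5, 8, 7, 4, 6, 5, 4, 3, 4, 5,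
    2, 1, 3, 5, 2, 0, 7, 5, 1, 3, 2, 8, 4, 3, 7, 3, 2, 1, 4, 3, 2, 0,
    1, 8, 7, 3, 2, 4, 7, 1, 0, 2, 3, 4, 7, 1, 2, 5, 3, 4, 7, 3, 8, 7,
    3, 2, 1, 5, 4, 3, 2, 0, 1, 6, 5, 4, 3, 2, 7, 3, 4, 1, 0, 2, 3, 4,
    5, 6, 7, 8, 3, 2, 7, 3]

def n243 : Node := .conj 3 [2, 3, 4, 5, 7, 3, 6, 4, 5, 2, 3, 1, 0, 2, 1, 3, 4, 5, 6, 7, 2, 3,
    4, 5, 7, 3, 4, 8, 7, 2, 3, 4, 7, 6, 3, 2, 1, 5, 4, 3, 2, 0, 1, 4,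
    3, 2, 6, 7, 8, 5, 4, 3, 7, 4, 5, 6, 3, 4, 2, 3, 8, 7, 5, 4, 3, 2,
    5, 4, 7, 4, 3, 4, 6, 5, 1, 0, 2, 3, 4, 7, 1, 0, 2, 3, 4, 7, 2, 3,
    1, 2, 0, 1, 3, 7, 4, 3, 2, 0, 6, 5, 4, 8, 7, 1, 0, 2, 3, 4, 7, 1,
    2, 5, 3, 4, 7, 3, 8, 7, 3, 2, 1, 5, 4, 3, 2, 0, 1, 2, 6, 5, 4, 3,
    1, 2, 3]

def n244 : Node := .conj 1 [6, 5, 1, 0, 2, 3, 4, 7, 1, 0, 2, 3, 4, 7, 2, 3, 1, 2, 0, 1, 3, 7,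
    4, 3, 2, 0, 8, 5, 4, 6, 5, 3, 4, 1, 0, 2, 3, 4, 7, 1, 0, 2, 3, 4,
    7, 2, 3, 1, 2, 0, 1, 3, 7, 4, 3, 2, 0, 5, 6, 4, 3, 8, 7, 5, 4, 3,
    8, 7, 2, 3, 8, 1, 0, 2, 8, 4, 3, 1, 7, 5, 4, 6, 3, 1, 7, 2, 7, 1,
    0, 2, 3, 7, 4, 3, 2, 1, 6, 5, 4, 3, 2, 3, 4, 6, 7, 3, 8, 5, 1, 0,
    2, 3, 4, 7, 1, 0, 2, 3, 4, 7, 2, 3, 1, 2, 0, 1, 3, 7, 4, 3, 2, 0,
    5, 4, 8, 1, 0, 2, 3, 4, 7, 1, 2, 5, 3, 4, 7, 3, 8, 7, 3, 2, 1, 5,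
    4, 3, 2, 0, 1, 6, 5, 4, 3, 2, 3, 4, 7, 3, 1, 2, 3, 4, 5, 6, 7, 3]

def n245 : Node := .split n242 n243 n244

def n246 : Node := .fuse [0, 0, 0, 0, 0, 1] 2 [2] n245

def n247 : Node := .fuse [0, 0, 0, 0, 1] 1 [0, 2] n246

def n248 : Node := .fuse [0, 0, 0, 1] 2 [] n247

def n249 : Node := .fuse [1] 1 [0, 1] n248

def n250 : Node := .fuse [0, 0, 0, 0, 0, 0, 1] 2 [] (.bad 0)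

def n251 : Node := .fuse [0, 0, 0, 0, 0, 1] 2 [2] n250

def n252 : Node := .fuse [0, 0, 0, 0, 1] 1 [0, 1] n251

def n253 : Node := .fuse [0, 0, 0, 1] 2 [] n252

def n254 : Node := .fuse [1] 1 [0, 1, 0, 2] n253

def n255 : Node := .fuse [0, 0, 0, 0, 0, 0, 1] 1 [] (.bad 0)

def n256 : Node := .fuse [0, 0, 0, 0, 0, 1] 2 [2] n255

def n257 : Node := .fuse [0, 0, 0, 0, 1] 1 [] n256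

def n258 : Node := .fuse [0, 0, 0, 1] 2 [] n257

def n259 : Node := .fuse [1] 1 [0, 1, 0, 1] n258

def n260 : Node := .split n249 n254 n259

def n261 : Node := .conj 2 [7, 8, 3, 1, 4, 2, 0, 1, 3, 2, 5, 0, 7, 4, 3, 2, 4, 7, 3, 1, 2, 0,
    1, 3, 7, 4, 3, 2, 0, 4, 3, 7, 5, 4, 3, 7, 8, 7, 3, 4, 6, 5, 4, 3,
    1, 0, 2, 3, 4, 7, 1, 0, 2, 3, 4, 7, 2, 3, 1, 2, 0, 1, 3, 7, 4, 3,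
    2, 0, 4, 5, 8, 3, 7, 1, 0, 2, 3, 4, 7, 1, 2, 5, 3, 4, 7, 3, 8, 7,
    3, 2, 1, 5, 4, 3, 2, 0, 1, 7, 6, 5, 4, 5, 3, 8, 2, 7, 3, 4, 6, 1,
    2, 3, 4, 7, 3, 2, 8, 7, 5, 3, 4, 6, 5, 3, 4, 1, 2, 7, 3, 7, 6, 2,
    1]

def n262 : Node := .conj 1 [3, 7, 8, 1, 6, 2, 0, 3, 5, 1, 0, 7, 2, 4, 3, 2, 1, 7, 4, 3, 2, 0,
    1, 3, 7, 4, 3, 2, 0, 8, 7, 5, 6, 3, 4, 5, 0, 2, 3, 4, 7, 3, 1, 0,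
    2, 1, 3, 2, 7, 4, 3, 2, 0, 1, 7, 4, 3, 2, 0, 1, 3, 7, 6, 4, 3, 5,
    4, 2, 3, 4, 7, 1, 0, 2, 3, 4, 7, 1, 2, 5, 3, 4, 7, 3, 8, 7, 3, 2,
    1, 5, 4, 3, 2, 0, 1, 7, 4, 3, 2, 4, 7, 8, 3, 4, 7, 8, 1, 6, 2, 0,
    3, 5, 1, 0, 7, 2, 4, 3, 2, 1, 7, 4, 3, 2, 0, 1, 3, 7, 4, 3, 2, 0,
    8, 7, 2, 3, 4, 5, 7, 3, 6, 0, 2, 4, 5, 3, 4, 8, 7, 1, 2, 3]

def n263 : Node := .conj 3 [2, 3, 4, 5, 7, 3, 6, 4, 5, 2, 3, 1, 0, 2, 1, 3, 4, 5, 6, 7, 2, 3,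
    4, 5, 7, 3, 4, 8, 7, 2, 3, 4, 7, 6, 3, 2, 1, 5, 4, 3, 2, 0, 1, 4,
    3, 2, 6, 7, 8, 5, 4, 3, 7, 4, 5, 6, 3, 4, 2, 3, 8, 7, 5, 4, 3, 2,
    5, 4, 7, 4, 3, 4, 6, 5, 1, 0, 2, 3, 4, 7, 1, 0, 2, 3, 4, 7, 2, 3,
    1, 2, 0, 1, 3, 7, 4, 3, 2, 0, 8, 5, 7, 3, 6, 1, 0, 2, 3, 4, 7, 1,
    2, 5, 3, 4, 7, 3, 8, 7, 3, 2, 1, 5, 4, 3, 2, 0, 1, 2, 3, 1, 2, 3]

def n264 : Node := .split n261 n262 n263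

def n265 : Node := .fuse [0, 0, 0, 0, 0, 0, 1] 2 [2] n264

def n266 : Node := .fuse [0, 0, 0, 1, 1] 1 [1] n265

def n267 : Node := .fuse [0, 0, 0, 0, 1] 1 [1, 1, 2] n266

def n268 : Node := .fuse [0, 0, 0, 0, 0, 1, 2] 1 [] (.bad 0)

def n269 : Node := .fuse [0, 0, 0, 0, 0, 0, 1] 2 [2] n268

def n270 : Node := .fuse [0, 0, 0, 1, 1] 1 [1] n269

def n271 : Node := .fuse [0, 0, 0, 0, 1] 1 [1, 1] n270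

def n272 : Node := .fuse [0, 0, 0, 0, 0, 1, 2] 2 [] (.bad 0)

def n273 : Node := .fuse [0, 0, 0, 0, 0, 0, 1] 2 [2] n272

def n274 : Node := .fuse [0, 0, 0, 1, 1] 1 [1] n273

def n275 : Node := .fuse [0, 0, 0, 0, 1] 1 [1, 1, 1] n274

def n276 : Node := .split n267 n271 n275

def n277 : Node := .fuse [1] 2 [1, 0, 1] n276

def n278 : Node := .split n241 n260 n277

def n279 : Node := .split n170 n224 n278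

def n280 : Node := .conj 0 [7, 2, 3, 4, 5, 7, 3, 6, 4, 5, 2, 3, 1, 0, 2, 1, 3, 4, 5, 6, 7, 2,
    3, 4, 5, 7, 3, 4, 8, 7, 2, 3, 4, 7, 6, 3, 2, 1, 5, 4, 3, 2, 0, 1,
    4, 3, 2, 6, 7, 8, 5, 4, 3, 7, 4, 5, 6, 3, 4, 2, 3, 8, 7, 5, 4, 3,
    2, 5, 4, 5, 4, 5, 2, 3, 4, 7, 1, 0, 2, 3, 4, 7, 1, 2, 5, 3, 4, 7,
    3, 8, 7, 3, 2, 1, 5, 4, 3, 2, 0, 1, 7, 4, 3, 2, 5, 4, 3, 6, 5, 4,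
    7, 3, 5, 7, 1, 0, 2, 3, 4, 7, 1, 0, 2, 3, 4, 7, 2, 3, 1, 2, 0, 1,
    3, 7, 4, 3, 2, 0, 8, 1, 0, 2, 3, 4, 7, 1, 2, 5, 3, 4, 7, 3, 8, 7,
    3, 2, 1, 5, 4, 3, 2, 0, 1, 7, 3, 4, 0, 3, 1, 2, 3, 4, 5, 7, 3, 4,
    2, 3, 7, 1, 2, 3, 4]

def n281 : Node := .fuse [0, 0, 0, 0, 0, 0, 0, 1] 1 [] n280

def n282 : Node := .conj 3 [3, 7, 8, 3, 6, 5, 1, 0, 2, 3, 4, 7, 1, 0, 2, 3, 4, 7, 2, 3, 1, 2,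
    0, 1, 3, 7, 4, 3, 2, 0, 8, 5, 4, 7, 6, 5, 3, 7, 4, 5, 6, 3, 0, 2,
    3, 4, 7, 3, 1, 0, 2, 1, 3, 2, 7, 4, 3, 2, 0, 1, 7, 4, 3, 2, 0, 1,
    5, 4, 5, 2, 3, 4, 7, 1, 0, 2, 3, 4, 7, 1, 2, 5, 3, 4, 7, 3, 8, 7,
    3, 2, 1, 5, 4, 3, 2, 0, 1, 7, 4, 3, 2, 4, 7, 8, 7, 3, 4, 5, 6, 5,
    7, 2, 1, 3, 5, 2, 0, 7, 5, 1, 3, 2, 8, 4, 3, 7, 3, 2, 1, 4, 3, 2,
    0, 1, 8, 7, 3, 2, 4, 5, 8, 3, 1, 0, 2, 3, 4, 7, 1, 2, 5, 3, 4, 7,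
    3, 8, 7, 3, 2, 1, 5, 4, 3, 2, 0, 1, 4, 3, 0]

def n283 : Node := .fuse [0, 0, 0, 0, 0, 0, 0, 1] 1 [] n282

def n284 : Node := .conj 3 [3, 7, 8, 3, 6, 5, 1, 0, 2, 3, 4, 7, 1, 0, 2, 3, 4, 7, 2, 3, 1, 2,
    0, 1, 3, 7, 4, 3, 2, 0, 8, 5, 4, 7, 6, 5, 3, 7, 4, 5, 6, 3, 0, 2,
    3, 4, 7, 3, 1, 0, 2, 1, 3, 2, 7, 4, 3, 2, 0, 1, 7, 4, 3, 2, 0, 1,
    5, 4, 5, 3, 1, 4, 2, 0, 1, 3, 2, 5, 0, 7, 4, 3, 2, 4, 7, 3, 1, 2,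
    0, 1, 3, 7, 4, 3, 2, 0, 4, 3, 7, 5, 4, 6, 5, 4, 7, 8, 3, 2, 3, 4,
    5, 7, 3, 2, 4, 3]

def n285 : Node := .fuse [0, 0, 0, 0, 0, 0, 0, 1] 1 [] n284

def n286 : Node := .split n281 n283 n285

def n287 : Node := .conj 3 [1, 0, 2, 3, 7, 8, 1, 2, 3, 7, 1, 0, 2, 3, 4, 5, 1, 2, 3, 6, 4, 5,
    7, 3, 2, 1, 8, 7, 3, 2, 0, 1, 6, 5, 4, 3, 2, 0, 7, 8, 3, 7, 6, 4,
    3, 7, 3, 4, 5, 6, 5, 4, 1, 0, 2, 3, 4, 7, 1, 0, 2, 3, 4, 7, 2, 3,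
    1, 2, 0, 1, 3, 7, 4, 3, 2, 0, 8, 7, 5, 6, 3, 2, 3, 4, 5, 7, 3, 4,
    8, 7, 2, 3, 4, 5, 7, 8, 2, 6, 0, 3, 4, 7]

def n288 : Node := .fuse [0, 0, 0, 0, 0, 0, 0, 1] 1 [] n287

def n289 : Node := .conj 3 [2, 3, 4, 5, 7, 3, 6, 4, 5, 2, 3, 1, 0, 2, 1, 3, 4, 5, 6, 7, 2, 3,
    4, 5, 7, 3, 4, 8, 7, 2, 3, 4, 7, 6, 3, 2, 1, 5, 4, 3, 2, 0, 1, 4,
    3, 2, 6, 7, 8, 5, 4, 3, 7, 4, 5, 6, 3, 4, 2, 3, 8, 7, 5, 4, 3, 2,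
    5, 4, 5, 4, 5, 2, 3, 4, 7, 1, 0, 2, 3, 4, 7, 1, 2, 5, 3, 4, 7, 3,
    8, 7, 3, 2, 1, 5, 4, 3, 2, 0, 1, 7, 4, 3, 2, 5, 4, 3, 4, 5, 7, 3,
    6, 5, 4, 3, 2, 3, 4, 5, 7, 3, 2, 8, 7, 4, 3, 2]

def n290 : Node := .fuse [0, 0, 0, 0, 0, 0, 0, 1] 1 [] n289

def n291 : Node := .conj 3 [5, 2, 3, 4, 7, 1, 0, 2, 3, 4, 7, 1, 2, 5, 3, 4, 7, 3, 8, 7, 3, 2,
    1, 5, 4, 3, 2, 0, 1, 7, 4, 3, 2, 4, 3, 4, 6, 7, 3, 8, 5, 1, 0, 2,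
    3, 4, 7, 1, 0, 2, 3, 4, 7, 2, 3, 1, 2, 0, 1, 3, 7, 4, 3, 2, 0, 4,
    8, 7, 2, 3, 4, 7, 3, 2, 0, 5, 4, 8, 7, 3, 2]

def n292 : Node := .fuse [0, 0, 0, 0, 0, 0, 0, 1] 1 [] n291

def n293 : Node := .split n288 n290 n292

def n294 : Node := .conj 1 [3, 7, 8, 1, 6, 2, 0, 3, 5, 1, 0, 7, 2, 4, 3, 2, 1, 7, 4, 3, 2, 0,
    1, 3, 7, 4, 3, 2, 0, 8, 7, 5, 6, 3, 4, 5, 0, 2, 3, 4, 7, 3, 1, 0,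
    2, 1, 3, 2, 7, 4, 3, 2, 0, 1, 7, 4, 3, 2, 0, 1, 3, 7, 6, 4, 3, 5,
    4, 5, 2, 3, 8, 1, 0, 2, 8, 4, 3, 1, 7, 5, 4, 6, 3, 1, 7, 2, 7, 1,
    0, 2, 3, 7, 4, 3, 2, 1, 6, 5, 4, 3, 2, 3, 6, 5, 4, 3, 2, 1, 3, 5,
    2, 0, 7, 5, 1, 3, 2, 8, 4, 3, 7, 3, 2, 1, 4, 3, 2, 0, 1, 8, 7, 3,
    2, 5, 4, 7, 6, 2, 3, 4, 7, 3, 2, 0, 5, 8, 7, 3, 4, 5, 6, 5, 1, 0,
    2, 3, 7, 8, 1, 2, 3, 7]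

def n295 : Node := .fuse [0, 0, 0, 0, 0, 0, 0, 1] 1 [] n294

def n296 : Node := .conj 2 [3, 4, 5, 7, 8, 3, 4, 6, 7, 5, 1, 0, 2, 3, 4, 7, 1, 0, 2, 3, 4, 7,
    2, 3, 1, 2, 0, 1, 3, 7, 4, 3, 2, 0, 5, 6, 8, 3, 4, 5, 6, 0, 2, 3,
    4, 7, 3, 1, 0, 2, 1, 3, 2, 7, 4, 3, 2, 0, 1, 7, 4, 3, 2, 0, 1, 5,
    6, 4, 2, 3, 4, 7, 1, 0, 2, 3, 4, 7, 1, 2, 5, 3, 4, 7, 3, 8, 7, 3,
    2, 1, 5, 4, 3, 2, 0, 1, 7, 4, 3, 2, 4, 3, 4, 7, 8, 1, 6, 2, 0, 3,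
    5, 1, 0, 7, 2, 4, 3, 2, 1, 7, 4, 3, 2, 0, 1, 3, 7, 4, 3, 2, 0, 8,
    5, 2, 3, 4, 7, 3, 2, 0, 5, 4, 8, 3, 1, 0, 2, 1, 3]

def n297 : Node := .fuse [0, 0, 0, 0, 0, 0, 0, 1] 1 [] n296

def n298 : Node := .conj 2 [2, 3, 4, 5, 7, 3, 6, 4, 5, 2, 3, 1, 0, 2, 1, 3, 4, 5, 6, 7, 2, 3,
    4, 5, 7, 3, 4, 8, 7, 2, 3, 4, 7, 6, 3, 2, 1, 5, 4, 3, 2, 0, 1, 4,
    3, 2, 6, 7, 8, 5, 4, 3, 7, 4, 5, 6, 3, 4, 2, 3, 8, 7, 5, 4, 3, 2,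
    5, 4, 7, 4, 5, 8, 7, 2, 1, 3, 5, 2, 0, 7, 5, 1, 3, 2, 8, 4, 3, 7,
    3, 2, 1, 4, 3, 2, 0, 1, 8, 7, 3, 2, 3, 0, 1, 2, 5, 4, 0, 7, 5, 1,
    3, 4, 2, 0, 8, 7, 3, 2, 1, 7, 4, 3, 2, 0, 1, 3, 7, 4, 3, 2, 8, 7,
    5, 4, 2, 3, 4, 7, 3, 2, 0, 5, 4, 8, 3, 1, 0, 2, 1, 3]

def n299 : Node := .fuse [0, 0, 0, 0, 0, 0, 0, 1] 1 [] n298

def n300 : Node := .split n295 n297 n299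

def n301 : Node := .split n286 n293 n300

def n302 : Node := .conj 3 [2, 3, 4, 5, 7, 3, 6, 4, 5, 2, 3, 1, 0, 2, 1, 3, 4, 5, 6, 7, 2, 3,
    4, 5, 7, 3, 4, 8, 7, 2, 3, 4, 7, 6, 3, 2, 1, 5, 4, 3, 2, 0, 1, 4,
    3, 2, 6, 7, 8, 5, 4, 3, 7, 4, 5, 6, 3, 4, 2, 3, 8, 7, 5, 4, 3, 2,
    5, 4, 5, 4, 8, 3, 1, 4, 2, 0, 1, 3, 2, 5, 0, 7, 4, 3, 2, 4, 7, 3,
    1, 2, 0, 1, 3, 7, 4, 3, 2, 0, 4, 3, 7, 5, 4, 3, 8, 7, 6, 5, 4, 1,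
    0, 2, 3, 4, 7, 1, 0, 2, 3, 4, 7, 2, 3, 1, 2, 0, 1, 3, 7, 4, 3, 2,
    0, 8, 5, 4, 6, 5, 7, 3, 2, 3, 4, 7, 3, 2, 0, 5, 4, 3]

def n303 : Node := .fuse [0, 0, 0, 0, 0, 0, 0, 1] 1 [] n302

def n304 : Node := .conj 1 [3, 4, 5, 7, 8, 3, 4, 6, 7, 5, 1, 0, 2, 3, 4, 7, 1, 0, 2, 3, 4, 7,
    2, 3, 1, 2, 0, 1, 3, 7, 4, 3, 2, 0, 5, 6, 8, 3, 4, 5, 6, 0, 2, 3,
    4, 7, 3, 1, 0, 2, 1, 3, 2, 7, 4, 3, 2, 0, 1, 7, 4, 3, 2, 0, 1, 5,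
    6, 2, 3, 4, 7, 1, 0, 2, 3, 4, 7, 1, 2, 5, 3, 4, 7, 3, 8, 7, 3, 2,
    1, 5, 4, 3, 2, 0, 1, 7, 4, 3, 2, 7, 3, 4, 6, 5, 4, 3, 1, 0, 2, 3,
    4, 7, 1, 0, 2, 3, 4, 7, 2, 3, 1, 2, 0, 1, 3, 7, 4, 3, 2, 0, 5, 4,
    8, 7, 3, 2, 3, 4, 5, 7, 8, 3, 2, 4, 3, 6, 7, 3, 8, 0, 1, 0, 2, 3,
    7, 8, 1, 2, 3, 7]

def n305 : Node := .fuse [0, 0, 0, 0, 0, 0, 0, 1] 1 [] n304

def n306 : Node := .conj 1 [3, 4, 5, 7, 8, 3, 4, 6, 7, 5, 1, 0, 2, 3, 4, 7, 1, 0, 2, 3, 4, 7,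
    2, 3, 1, 2, 0, 1, 3, 7, 4, 3, 2, 0, 5, 6, 8, 3, 4, 5, 6, 0, 2, 3,
    4, 7, 3, 1, 0, 2, 1, 3, 2, 7, 4, 3, 2, 0, 1, 7, 4, 3, 2, 0, 1, 5,
    6, 4, 2, 3, 4, 7, 1, 0, 2, 3, 4, 7, 1, 2, 5, 3, 4, 7, 3, 8, 7, 3,
    2, 1, 5, 4, 3, 2, 0, 1, 7, 4, 3, 2, 8, 3, 4, 6, 5, 1, 0, 2, 3, 4,
    7, 1, 0, 2, 3, 4, 7, 2, 3, 1, 2, 0, 1, 3, 7, 4, 3, 2, 0, 8, 7, 2,
    3, 4, 5, 7, 3, 2, 6, 4, 3]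

def n307 : Node := .fuse [0, 0, 0, 0, 0, 0, 0, 1] 1 [] n306

def n308 : Node := .split n303 n305 n307

def n309 : Node := .conj 2 [2, 3, 4, 5, 7, 3, 6, 4, 5, 2, 3, 1, 0, 2, 1, 3, 4, 5, 6, 7, 2, 3,
    4, 5, 7, 3, 4, 8, 7, 2, 3, 4, 7, 6, 3, 2, 1, 5, 4, 3, 2, 0, 1, 4,
    3, 2, 6, 7, 8, 5, 4, 3, 7, 4, 5, 6, 3, 4, 2, 3, 8, 7, 5, 4, 3, 2,
    5, 4, 5, 4, 8, 3, 1, 4, 2, 0, 1, 3, 2, 5, 0, 7, 4, 3, 2, 4, 7, 3,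
    1, 2, 0, 1, 3, 7, 4, 3, 2, 0, 4, 3, 7, 5, 4, 3, 4, 6, 5, 1, 0, 2,
    3, 4, 7, 1, 0, 2, 3, 4, 7, 2, 3, 1, 2, 0, 1, 3, 7, 4, 3, 2, 0, 8,
    5, 4, 6, 5, 2, 3, 4, 7, 3, 2, 0, 5, 4, 8, 3, 1, 0, 2, 1, 3]

def n310 : Node := .fuse [0, 0, 0, 0, 0, 0, 0, 1] 1 [] n309

def n311 : Node := .conj 3 [2, 3, 4, 5, 7, 3, 6, 4, 5, 2, 3, 1, 0, 2, 1, 3, 4, 5, 6, 7, 2, 3,
    4, 5, 7, 3, 4, 8, 7, 2, 3, 4, 7, 6, 3, 2, 1, 5, 4, 3, 2, 0, 1, 4,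
    3, 2, 6, 7, 8, 5, 4, 3, 7, 4, 5, 6, 3, 4, 2, 3, 8, 7, 5, 4, 3, 2,
    5, 4, 5, 4, 5, 2, 1, 3, 5, 2, 0, 7, 5, 1, 3, 2, 8, 4, 3, 7, 3, 2,
    1, 4, 3, 2, 0, 1, 8, 7, 3, 2, 4, 5, 1, 6, 2, 0, 3, 5, 1, 0, 7, 2,
    4, 3, 2, 1, 7, 4, 3, 2, 0, 1, 3, 7, 4, 3, 2, 0, 8, 7, 5, 4, 3, 6,
    5, 7, 4, 1, 0, 2, 3, 4, 7, 1, 2, 5, 3, 4, 7, 3, 8, 7, 3, 2, 1, 5,
    4, 3, 2, 0, 1, 4, 6, 7, 5, 6, 4, 8, 3, 0, 7, 8, 2]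

def n312 : Node := .fuse [0, 0, 0, 0, 0, 0, 0, 1] 1 [] n311

def n313 : Node := .conj 3 [3, 7, 8, 3, 6, 5, 1, 0, 2, 3, 4, 7, 1, 0, 2, 3, 4, 7, 2, 3, 1, 2,
    0, 1, 3, 7, 4, 3, 2, 0, 8, 5, 4, 7, 6, 5, 3, 7, 4, 5, 6, 3, 0, 2,
    3, 4, 7, 3, 1, 0, 2, 1, 3, 2, 7, 4, 3, 2, 0, 1, 7, 4, 3, 2, 0, 1,
    5, 4, 5, 3, 1, 4, 2, 0, 1, 3, 2, 5, 0, 7, 4, 3, 2, 4, 7, 3, 1, 2,
    0, 1, 3, 7, 4, 3, 2, 0, 4, 3, 7, 5, 4, 3, 8, 3, 4, 7, 8, 1, 6, 2,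
    0, 3, 5, 1, 0, 7, 2, 4, 3, 2, 1, 7, 4, 3, 2, 0, 1, 3, 7, 4, 3, 2,
    0, 8, 6, 1, 0, 2, 3, 4, 7, 1, 2, 5, 3, 4, 7, 3, 8, 7, 3, 2, 1, 5,
    4, 3, 2, 0, 1, 4, 0, 2]

def n314 : Node := .fuse [0, 0, 0, 0, 0, 0, 0, 1] 1 [] n313

def n315 : Node := .split n310 n312 n314

def n316 : Node := .conj 1 [5, 2, 3, 8, 1, 0, 2, 8, 4, 3, 1, 7, 5, 4, 6, 3, 1, 7, 2, 7, 1, 0,
    2, 3, 7, 4, 3, 2, 1, 6, 5, 4, 3, 2, 3, 6, 7, 4, 5, 2, 1, 3, 5, 2,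
    0, 7, 5, 1, 3, 2, 8, 4, 3, 7, 3, 2, 1, 4, 3, 2, 0, 1, 8, 7, 3, 2,
    4, 5, 6, 4, 2, 3, 4, 5, 7, 8, 3, 4, 6, 7, 2, 3, 4, 5, 6, 1, 3, 5,
    2, 0, 7, 5, 1, 3, 2, 8, 4, 3, 7, 3, 2, 1, 4, 3, 2, 0, 1, 8, 3, 1,
    0, 2, 3, 7, 8, 1, 2, 3, 7]

def n317 : Node := .fuse [0, 0, 0, 0, 0, 0, 0, 1] 1 [] n316

def n318 : Node := .conj 3 [2, 3, 4, 5, 7, 3, 6, 4, 5, 2, 3, 1, 0, 2, 1, 3, 4, 5, 6, 7, 2, 3,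
    4, 5, 7, 3, 4, 8, 7, 2, 3, 4, 7, 6, 3, 2, 1, 5, 4, 3, 2, 0, 1, 4,
    3, 2, 6, 7, 8, 5, 4, 3, 7, 4, 5, 6, 3, 4, 2, 3, 8, 7, 5, 4, 3, 2,
    5, 4, 5, 1, 0, 2, 3, 4, 5, 7, 3, 8, 4, 7, 3, 1, 2, 3, 4, 5, 7, 3,
    2, 8, 7, 4, 3, 2, 7, 8, 4, 3, 5, 4, 7, 3, 1, 2, 0, 1, 2, 3, 7, 8,
    4, 3, 7, 5, 4, 3, 2, 8, 4, 5, 6, 5, 4, 3, 1, 0, 2, 3, 4, 7, 1, 0,
    2, 3, 4, 7, 2, 3, 1, 2, 0, 1, 3, 7, 4, 3, 2, 0, 5, 4, 5, 7, 3, 2,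
    3, 4, 7, 3, 2, 0, 5, 4, 8, 7, 3, 2]

def n319 : Node := .fuse [0, 0, 0, 0, 0, 0, 0, 1] 1 [] n318

def n320 : Node := .conj 3 [3, 7, 8, 1, 6, 2, 0, 3, 5, 1, 0, 7, 2, 4, 3, 2, 1, 7, 4, 3, 2, 0,
    1, 3, 7, 4, 3, 2, 0, 8, 7, 5, 6, 3, 4, 5, 0, 2, 3, 4, 7, 3, 1, 0,
    2, 1, 3, 2, 7, 4, 3, 2, 0, 1, 7, 4, 3, 2, 0, 1, 3, 7, 6, 4, 3, 2,
    1, 3, 5, 2, 0, 7, 5, 1, 3, 2, 8, 4, 3, 7, 3, 2, 1, 4, 3, 2, 0, 1,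
    8, 7, 3, 2, 4, 5, 3, 4, 6, 5, 1, 0, 2, 3, 4, 7, 1, 0, 2, 3, 4, 7,
    2, 3, 1, 2, 0, 1, 3, 7, 4, 3, 2, 0, 8, 5, 6, 2, 3, 4, 7, 3, 2, 0,
    5, 4, 8, 7, 3, 2]

def n321 : Node := .fuse [0, 0, 0, 0, 0, 0, 0, 1] 1 [] n320

def n322 : Node := .split n317 n319 n321

def n323 : Node := .split n308 n315 n322

def n324 : Node := .conj 3 [2, 3, 4, 5, 7, 3, 6, 4, 5, 2, 3, 1, 0, 2, 1, 3, 4, 5, 6, 7, 2, 3,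
    4, 5, 7, 3, 4, 8, 7, 2, 3, 4, 7, 6, 3, 2, 1, 5, 4, 3, 2, 0, 1, 4,
    3, 2, 6, 7, 8, 5, 4, 3, 7, 4, 5, 6, 3, 4, 2, 3, 8, 7, 5, 4, 3, 2,
    6, 5, 4, 3, 1, 0, 2, 3, 4, 7, 1, 0, 2, 3, 4, 7, 2, 3, 1, 2, 0, 1,
    3, 7, 4, 3, 2, 0, 4, 5, 8, 6, 7, 4, 0, 2, 3, 4, 5, 7, 3, 8]

def n325 : Node := .fuse [0, 0, 0, 0, 0, 0, 0, 1] 1 [] n324

def n326 : Node := .conj 1 [3, 4, 5, 7, 8, 3, 4, 6, 7, 5, 1, 0, 2, 3, 4, 7, 1, 0, 2, 3, 4, 7,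
    2, 3, 1, 2, 0, 1, 3, 7, 4, 3, 2, 0, 5, 6, 8, 3, 4, 5, 6, 0, 2, 3,
    4, 7, 3, 1, 0, 2, 1, 3, 2, 7, 4, 3, 2, 0, 1, 7, 4, 3, 2, 0, 1, 5,
    6, 8, 3, 1, 4, 2, 0, 1, 3, 2, 5, 0, 7, 4, 3, 2, 4, 7, 3, 1, 2, 0,
    1, 3, 7, 4, 3, 2, 0, 4, 3, 7, 5, 4, 3, 8, 7, 6, 5, 4, 3, 1, 0, 2,
    3, 4, 7, 1, 0, 2, 3, 4, 7, 2, 3, 1, 2, 0, 1, 3, 7, 4, 3, 2, 0, 4,
    8, 7, 5, 3, 8, 2, 3, 4, 5, 7, 3, 6]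

def n327 : Node := .fuse [0, 0, 0, 0, 0, 0, 0, 1] 1 [] n326

def n328 : Node := .conj 1 [2, 3, 4, 5, 7, 3, 6, 4, 5, 2, 3, 1, 0, 2, 1, 3, 4, 5, 6, 7, 2, 3,
    4, 5, 7, 3, 4, 8, 7, 2, 3, 4, 7, 6, 3, 2, 1, 5, 4, 3, 2, 0, 1, 4,
    3, 2, 6, 7, 8, 5, 4, 3, 7, 4, 5, 6, 3, 4, 2, 3, 8, 7, 5, 4, 3, 2,
    5, 4, 7, 3, 1, 4, 2, 0, 1, 3, 2, 5, 0, 7, 4, 3, 2, 4, 7, 3, 1, 2,
    0, 1, 3, 7, 4, 3, 2, 0, 4, 3, 7, 5, 4, 6, 2, 3, 4, 5, 7, 3, 2, 6,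
    8, 1, 0, 2, 3, 7, 8, 1, 2, 3, 7]

def n329 : Node := .fuse [0, 0, 0, 0, 0, 0, 0, 1] 1 [] n328

def n330 : Node := .split n325 n327 n329

def n331 : Node := .conj 2 [1, 0, 3, 4, 5, 7, 3, 4, 2, 3, 6, 8, 7, 3, 1, 2, 5, 3, 4, 3, 7, 1,
    2, 3, 1, 2, 0, 1, 0, 2, 3, 7, 4, 3, 2, 5, 6, 4, 5, 8, 0, 2, 3, 4,
    7, 3, 1, 0, 2, 1, 3, 2, 7, 4, 3, 2, 0, 1, 7, 4, 3, 2, 0, 1, 5, 6,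
    4, 2, 3, 4, 7, 1, 0, 2, 3, 4, 7, 1, 2, 5, 3, 4, 7, 3, 8, 7, 3, 2,
    1, 5, 4, 3, 2, 0, 1, 7, 4, 3, 2, 8, 7, 3, 4, 6, 5, 1, 0, 2, 3, 4,
    7, 1, 0, 2, 3, 4, 7, 2, 3, 1, 2, 0, 1, 3, 7, 4, 3, 2, 0, 8, 5, 4,
    7, 2, 3, 4, 5, 7, 3, 4, 2, 3, 6, 8, 7, 3, 4, 2, 5, 1, 2, 3, 4, 7,
    3, 2, 1, 3, 0, 1, 2, 3, 7, 4, 3, 2, 1, 3, 2, 8, 7, 3, 1, 2, 3, 4,
    5, 7, 3, 4, 2, 3, 6, 8, 7, 3, 1, 2, 4, 3, 5, 7, 1, 4, 3, 7, 2, 3,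
    1, 4, 8]

def n332 : Node := .fuse [0, 0, 0, 0, 0, 0, 0, 1] 1 [] n331

def n333 : Node := .conj 3 [4, 2, 1, 3, 5, 2, 0, 7, 5, 1, 3, 2, 8, 4, 3, 7, 3, 2, 1, 4, 3, 2,
    0, 1, 8, 7, 3, 2, 5, 4, 8, 1, 0, 2, 3, 4, 7, 1, 0, 2, 3, 4, 7, 2,
    3, 1, 2, 0, 1, 3, 7, 4, 3, 2, 0, 3, 6, 7, 8, 1, 0, 2, 1, 3, 4, 5,
    6, 7, 2, 3, 4, 5, 7, 3, 4, 8, 7, 2, 3, 4, 7, 6, 3, 2, 1, 5, 4, 3,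
    2, 0, 1, 4, 8, 3]

def n334 : Node := .fuse [0, 0, 0, 0, 0, 0, 0, 1] 1 [] n333

def n335 : Node := .conj 3 [7, 2, 3, 4, 5, 7, 3, 6, 4, 5, 2, 3, 1, 0, 2, 1, 3, 4, 5, 6, 7, 2,
    3, 4, 5, 7, 3, 4, 8, 7, 2, 3, 4, 7, 6, 3, 2, 1, 5, 4, 3, 2, 0, 1,
    4, 3, 2, 6, 7, 8, 5, 4, 3, 7, 4, 5, 6, 3, 4, 2, 3, 8, 7, 5, 4, 3,
    2, 5, 4, 5, 2, 3, 4, 7, 1, 0, 2, 3, 4, 7, 1, 2, 5, 3, 4, 7, 3, 8,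
    7, 3, 2, 1, 5, 4, 3, 2, 0, 1, 7, 4, 3, 2, 5, 8, 7, 1, 0, 2, 3, 4,
    7, 1, 0, 2, 3, 4, 7, 2, 3, 1, 2, 0, 1, 3, 7, 4, 3, 2, 0, 3, 6, 5,
    4, 7, 3, 8, 7, 1, 0, 2, 3, 4, 7, 1, 2, 5, 3, 4, 7, 3, 8, 7, 3, 2,
    1, 5, 4, 3, 2, 0, 1, 7, 4, 6, 5, 4, 3, 7, 2, 6, 8, 7]

def n336 : Node := .fuse [0, 0, 0, 0, 0, 0, 0, 1] 1 [] n335

def n337 : Node := .split n332 n334 n336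

def n338 : Node := .conj 1 [3, 7, 8, 1, 6, 2, 0, 3, 5, 1, 0, 7, 2, 4, 3, 2, 1, 7, 4, 3, 2, 0,
    1, 3, 7, 4, 3, 2, 0, 8, 7, 5, 6, 3, 4, 5, 0, 2, 3, 4, 7, 3, 1, 0,
    2, 1, 3, 2, 7, 4, 3, 2, 0, 1, 7, 4, 3, 2, 0, 1, 3, 7, 6, 4, 3, 5,
    4, 2, 3, 4, 7, 1, 0, 2, 3, 4, 7, 1, 2, 5, 3, 4, 7, 3, 8, 7, 3, 2,
    1, 5, 4, 3, 2, 0, 1, 7, 4, 3, 2, 4, 8, 3, 4, 6, 7, 3, 8, 5, 1, 0,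
    2, 3, 4, 7, 1, 0, 2, 3, 4, 7, 2, 3, 1, 2, 0, 1, 3, 7, 4, 3, 2, 0,
    5, 4, 8, 0, 2, 3, 4, 7, 3, 5, 4, 8, 2, 3, 7, 8, 6, 1, 0, 2, 3, 4,
    1, 2, 3]

def n339 : Node := .fuse [0, 0, 0, 0, 0, 0, 0, 1] 1 [] n338

def n340 : Node := .conj 3 [2, 3, 4, 5, 7, 3, 6, 4, 5, 2, 3, 1, 0, 2, 1, 3, 4, 5, 6, 7, 2, 3,
    4, 5, 7, 3, 4, 8, 7, 2, 3, 4, 7, 6, 3, 2, 1, 5, 4, 3, 2, 0, 1, 4,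
    3, 2, 6, 7, 8, 5, 4, 3, 7, 4, 5, 6, 3, 4, 2, 3, 8, 7, 5, 4, 3, 2,
    5, 4, 6, 5, 4, 3, 1, 0, 2, 3, 4, 7, 1, 0, 2, 3, 4, 7, 2, 3, 1, 2,
    0, 1, 3, 7, 4, 3, 2, 0, 5, 7, 6, 2, 3, 4, 5, 7, 3, 4, 8, 7, 0, 2,
    3, 4, 2]

def n341 : Node := .fuse [0, 0, 0, 0, 0, 0, 0, 1] 1 [] n340

def n342 : Node := .conj 3 [7, 2, 3, 4, 5, 7, 3, 6, 4, 5, 2, 3, 1, 0, 2, 1, 3, 4, 5, 6, 7, 2,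
    3, 4, 5, 7, 3, 4, 8, 7, 2, 3, 4, 7, 6, 3, 2, 1, 5, 4, 3, 2, 0, 1,
    4, 3, 2, 6, 7, 8, 5, 4, 3, 7, 4, 5, 6, 3, 4, 2, 3, 8, 7, 5, 4, 3,
    2, 5, 4, 5, 3, 1, 4, 2, 0, 1, 3, 2, 5, 0, 7, 4, 3, 2, 4, 7, 3, 1,
    2, 0, 1, 3, 7, 4, 3, 2, 0, 4, 3, 7, 5, 4, 3, 5, 3, 4, 5, 6, 5, 4,
    1, 0, 2, 3, 4, 7, 1, 0, 2, 3, 4, 7, 2, 3, 1, 2, 0, 1, 3, 7, 4, 3,
    2, 0, 8, 7, 3, 5, 4, 5, 1, 0, 2, 3, 4, 7, 1, 2, 5, 3, 4, 7, 3, 8,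
    7, 3, 2, 1, 5, 4, 3, 2, 0, 1, 7, 6, 5, 4, 5, 3, 0, 2, 6]

def n343 : Node := .fuse [0, 0, 0, 0, 0, 0, 0, 1] 1 [] n342

def n344 : Node := .split n339 n341 n343

def n345 : Node := .split n330 n337 n344

def n346 : Node := .split n301 n323 n345

def n347 : Node := .fuse [0, 1, 2] 1 [0, 1, 0, 2] n346

def n348 : Node := .fuse [0, 0, 1] 1 [0, 1, 0, 1] n347

def n349 : Node := .fuse [0, 0, 0, 0, 0, 0, 0, 1] 1 [] (.bad 1)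

def n350 : Node := .fuse [0, 0, 0, 0, 0, 0, 1] 2 [2] n349

def n351 : Node := .conj 3 [2, 3, 4, 7, 1, 0, 2, 3, 4, 7, 1, 2, 5, 3, 4, 7, 3, 8, 7, 3, 2, 1,
    5, 4, 3, 2, 0, 1, 7, 4, 3, 2, 5, 8, 3, 4, 6, 5, 2, 1, 3, 5, 2, 0,
    7, 5, 1, 3, 2, 8, 4, 3, 7, 3, 2, 1, 4, 3, 2, 0, 1, 8, 7, 3, 2, 4,
    5, 6, 2, 3, 4, 7, 3, 8, 7, 2, 3, 5, 4, 1, 2, 3, 4]

def n352 : Node := .fuse [0, 0, 0, 0, 0, 0, 0, 1] 1 [] n351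

def n353 : Node := .fuse [0, 0, 0, 0, 0, 0, 1] 2 [2] n352

def n354 : Node := .fuse [0, 0, 0, 0, 0, 0, 0, 1] 1 [] (.bad 1)

def n355 : Node := .fuse [0, 0, 0, 0, 0, 0, 1] 2 [2] n354

def n356 : Node := .split n350 n353 n355

def n357 : Node := .fuse [0, 0, 0, 0, 1] 1 [0, 2, 1] n356

def n358 : Node := .fuse [0, 1, 2] 1 [1, 1, 2, 1] n357

def n359 : Node := .fuse [0, 0, 1] 1 [0, 1, 0, 1] n358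

def n360 : Node := .fuse [0, 0, 0, 0, 0, 0, 0, 1] 1 [] (.bad 1)

def n361 : Node := .fuse [0, 0, 0, 0, 0, 0, 1] 1 [1] n360

def n362 : Node := .conj 3 [2, 3, 4, 5, 7, 3, 6, 4, 5, 2, 3, 1, 0, 2, 1, 3, 4, 5, 6, 7, 2, 3,
    4, 5, 7, 3, 4, 8, 7, 2, 3, 4, 7, 6, 3, 2, 1, 5, 4, 3, 2, 0, 1, 4,
    3, 2, 6, 7, 8, 5, 4, 3, 7, 4, 5, 6, 3, 4, 2, 3, 8, 7, 5, 4, 3, 2,
    5, 4, 5, 4, 5, 2, 1, 3, 5, 2, 0, 7, 5, 1, 3, 2, 8, 4, 3, 7, 3, 2,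
    1, 4, 3, 2, 0, 1, 8, 7, 3, 2, 5, 4, 5, 6, 5, 4, 1, 0, 2, 3, 4, 7,
    1, 0, 2, 3, 4, 7, 2, 3, 1, 2, 0, 1, 3, 7, 4, 3, 2, 0, 8, 5, 4, 6,
    7, 3, 4, 5, 7, 2, 3, 4, 7, 3, 2, 0, 5, 8, 7, 3, 4, 1, 2, 3, 4]

def n363 : Node := .fuse [0, 0, 0, 0, 0, 0, 0, 1] 1 [] n362

def n364 : Node := .fuse [0, 0, 0, 0, 0, 0, 1] 1 [1] n363

def n365 : Node := .fuse [0, 0, 0, 0, 0, 0, 0, 1] 1 [] (.bad 1)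

def n366 : Node := .fuse [0, 0, 0, 0, 0, 0, 1] 1 [1] n365

def n367 : Node := .split n361 n364 n366

def n368 : Node := .fuse [0, 0, 0, 0, 1] 2 [0, 1, 2] n367

def n369 : Node := .fuse [0, 1, 2] 1 [2, 1, 1] n368

def n370 : Node := .fuse [0, 0, 1] 1 [0, 1, 0, 1] n369

def n371 : Node := .split n348 n359 n370

def n372 : Node := .fuse [0, 0, 0, 0, 0, 0, 0, 1] 1 [] (.bad 0)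

def n373 : Node := .fuse [0, 0, 0, 0, 0, 0, 1] 2 [2] n372

def n374 : Node := .fuse [0, 0, 0, 1, 2] 1 [1, 1] n373

def n375 : Node := .fuse [0, 0, 0, 0, 1] 1 [2] n374

def n376 : Node := .fuse [0, 1, 2] 1 [1] n375

def n377 : Node := .fuse [0, 0, 1] 1 [0, 2, 0, 2, 1] n376

def n378 : Node := .fuse [0, 0, 0, 0, 0, 0, 0, 1] 1 [] (.bad 0)

def n379 : Node := .fuse [0, 0, 0, 0, 0, 0, 1] 1 [1] n378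

def n380 : Node := .fuse [0, 0, 0, 1, 1] 2 [1, 2] n379

def n381 : Node := .fuse [0, 0, 0, 0, 1] 2 [2, 0, 2] n380

def n382 : Node := .fuse [0, 1, 2] 1 [2] n381

def n383 : Node := .fuse [0, 0, 1] 1 [0, 2, 0, 2, 1] n382

def n384 : Node := .fuse [0, 0, 0, 0, 0, 0, 0, 1] 1 [] (.bad 0)

def n385 : Node := .fuse [0, 0, 0, 0, 0, 1] 1 [1] n384

def n386 : Node := .fuse [0, 0, 0, 0, 1] 2 [0, 1] n385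

def n387 : Node := .fuse [0, 0, 0, 1] 1 [0, 1, 1] n386

def n388 : Node := .fuse [1] 2 [] n387

def n389 : Node := .fuse [0, 0, 1] 1 [0, 2, 0, 2, 1] n388

def n390 : Node := .split n377 n383 n389

def n391 : Node := .fuse [0, 0, 0, 0, 0, 0, 0, 1] 1 [] (.bad 0)

def n392 : Node := .fuse [0, 0, 0, 0, 0, 0, 1] 1 [1] n391

def n393 : Node := .fuse [0, 0, 0, 1, 2] 2 [1, 1] n392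

def n394 : Node := .fuse [0, 0, 0, 0, 1] 2 [1, 2, 2] n393

def n395 : Node := .fuse [0, 1, 2] 1 [2, 2, 2] n394

def n396 : Node := .fuse [0, 0, 1] 1 [0, 0, 0, 1] n395

def n397 : Node := .fuse [0, 0, 0, 0, 0, 0, 0, 1] 1 [] (.bad 0)

def n398 : Node := .fuse [0, 0, 0, 0, 0, 1] 2 [2] n397

def n399 : Node := .fuse [0, 0, 0, 0, 1] 1 [0, 2] n398

def n400 : Node := .fuse [0, 0, 0, 1] 2 [] n399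

def n401 : Node := .fuse [1] 1 [0, 1] n400

def n402 : Node := .fuse [0, 0, 1] 1 [0, 0, 0, 1] n401

def n403 : Node := .fuse [0, 0, 0, 0, 0, 0, 0, 1] 1 [] (.bad 0)

def n404 : Node := .fuse [0, 0, 0, 0, 0, 0, 1] 2 [2] n403

def n405 : Node := .fuse [0, 0, 0, 1, 1] 1 [1] n404

def n406 : Node := .fuse [0, 0, 0, 0, 1] 1 [1, 1, 2] n405

def n407 : Node := .fuse [0, 1, 2] 1 [1, 2, 1, 2] n406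

def n408 : Node := .fuse [0, 0, 1] 1 [0, 0, 0, 1] n407

def n409 : Node := .split n396 n402 n408

def n410 : Node := .split n371 n390 n409

def n411 : Node := .conj 0 [5, 4, 5, 8, 3, 6, 5, 2, 1, 3, 5, 2, 0, 7, 5, 1, 3, 2, 8, 4, 3, 7,
    3, 2, 1, 4, 3, 2, 0, 1, 8, 7, 3, 2, 4, 5, 7, 6, 8, 2, 3, 4, 7, 3,
    2, 0, 5, 4, 8, 7, 1, 0, 2, 1, 3, 2]

def n412 : Node := .fuse [0, 0, 0, 0, 0, 0, 0, 1] 2 [] n411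

def n413 : Node := .conj 3 [4, 2, 3, 4, 5, 7, 3, 1, 3, 5, 2, 0, 7, 5, 1, 3, 2, 8, 4, 3, 7, 3,
    2, 1, 4, 3, 2, 0, 1, 8, 5, 4, 3, 2, 3, 4, 6, 5, 1, 0, 2, 3, 4, 7,
    1, 0, 2, 3, 4, 7, 2, 3, 1, 2, 0, 1, 3, 7, 4, 3, 2, 0, 8, 4, 7, 3,
    4, 5, 4, 6, 1, 0, 2, 3, 4, 7, 1, 2, 5, 3, 4, 7, 3, 8, 7, 3, 2, 1,
    5, 4, 3, 2, 0, 1, 4, 3, 0]

def n414 : Node := .fuse [0, 0, 0, 0, 0, 0, 0, 1] 2 [] n413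

def n415 : Node := .conj 3 [7, 2, 3, 4, 5, 7, 3, 6, 4, 5, 2, 3, 1, 0, 2, 1, 3, 4, 5, 6, 7, 2,
    3, 4, 5, 7, 3, 4, 8, 7, 2, 3, 4, 7, 6, 3, 2, 1, 5, 4, 3, 2, 0, 1,
    4, 3, 2, 6, 7, 8, 5, 4, 3, 7, 4, 5, 6, 3, 4, 2, 3, 8, 7, 5, 4, 3,
    2, 5, 4, 5, 2, 3, 4, 7, 1, 0, 2, 3, 4, 7, 1, 2, 5, 3, 4, 7, 3, 8,
    7, 3, 2, 1, 5, 4, 3, 2, 0, 1, 7, 4, 3, 2, 5, 8, 6, 5, 4, 3, 1, 0,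
    2, 3, 4, 7, 1, 0, 2, 3, 4, 7, 2, 3, 1, 2, 0, 1, 3, 7, 4, 3, 2, 0,
    4, 5, 6, 4, 0, 2, 3, 4, 5, 7, 3, 8]

def n416 : Node := .fuse [0, 0, 0, 0, 0, 0, 0, 1] 2 [] n415

def n417 : Node := .split n412 n414 n416

def n418 : Node := .conj 1 [3, 7, 8, 3, 6, 5, 1, 0, 2, 3, 4, 7, 1, 0, 2, 3, 4, 7, 2, 3, 1, 2,
    0, 1, 3, 7, 4, 3, 2, 0, 8, 5, 4, 7, 6, 5, 3, 7, 4, 5, 6, 3, 0, 2,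
    3, 4, 7, 3, 1, 0, 2, 1, 3, 2, 7, 4, 3, 2, 0, 1, 7, 4, 3, 2, 0, 1,
    5, 4, 5, 8, 3, 1, 4, 2, 0, 1, 3, 2, 5, 0, 7, 4, 3, 2, 4, 7, 3, 1,
    2, 0, 1, 3, 7, 4, 3, 2, 0, 4, 3, 7, 5, 4, 3, 8, 7, 3, 4, 6, 5, 1,
    0, 2, 3, 4, 7, 1, 0, 2, 3, 4, 7, 2, 3, 1, 2, 0, 1, 3, 7, 4, 3, 2,
    0, 6, 5, 7, 2, 3, 4, 7, 3, 2, 0, 5, 4, 6, 3, 8, 7, 1, 0, 2, 3, 4,
    1, 2, 3]

def n419 : Node := .fuse [0, 0, 0, 0, 0, 0, 0, 1] 2 [] n418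

def n420 : Node := .conj 2 [2, 3, 4, 5, 7, 3, 6, 4, 5, 2, 3, 1, 0, 2, 1, 3, 4, 5, 6, 7, 2, 3,
    4, 5, 7, 3, 4, 8, 7, 2, 3, 4, 7, 6, 3, 2, 1, 5, 4, 3, 2, 0, 1, 4,
    3, 2, 6, 7, 8, 5, 4, 3, 7, 4, 5, 6, 3, 4, 2, 3, 8, 7, 5, 4, 3, 2,
    5, 4, 5, 8, 2, 1, 3, 5, 2, 0, 7, 5, 1, 3, 2, 8, 4, 3, 7, 3, 2, 1,
    4, 3, 2, 0, 1, 8, 7, 3, 2, 7, 4, 5, 3, 6, 5, 4, 2, 1, 3, 5, 2, 0,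
    7, 5, 1, 3, 2, 8, 4, 3, 7, 3, 2, 1, 4, 3, 2, 0, 1, 8, 7, 3, 2, 1,
    0, 2, 1, 3]

def n421 : Node := .fuse [0, 0, 0, 0, 0, 0, 0, 1] 2 [] n420

def n422 : Node := .conj 2 [7, 2, 3, 4, 5, 7, 3, 1, 3, 5, 2, 0, 7, 5, 1, 3, 2, 8, 4, 3, 7, 3,
    2, 1, 4, 3, 2, 0, 1, 8, 5, 4, 3, 2, 8, 1, 6, 2, 0, 3, 5, 1, 0, 7,
    2, 4, 3, 2, 1, 7, 4, 3, 2, 0, 1, 3, 7, 4, 3, 2, 0, 5, 4, 3, 6, 7,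
    8, 5, 7, 2, 3, 4, 7, 3, 2, 0, 5, 4, 3, 1, 0, 2, 1, 3]

def n423 : Node := .fuse [0, 0, 0, 0, 0, 0, 0, 1] 2 [] n422

def n424 : Node := .split n419 n421 n423

def n425 : Node := .conj 3 [6, 5, 1, 0, 2, 3, 4, 7, 1, 0, 2, 3, 4, 7, 2, 3, 1, 2, 0, 1, 3, 7,
    4, 3, 2, 0, 8, 5, 4, 6, 5, 3, 4, 1, 0, 2, 3, 4, 7, 1, 0, 2, 3, 4,
    7, 2, 3, 1, 2, 0, 1, 3, 7, 4, 3, 2, 0, 5, 6, 4, 3, 8, 7, 5, 4, 3,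
    2, 3, 4, 7, 1, 0, 2, 3, 4, 7, 1, 2, 5, 3, 4, 7, 3, 8, 7, 3, 2, 1,
    5, 4, 3, 2, 0, 1, 7, 4, 3, 2, 5, 8, 7, 6, 5, 4, 3, 1, 0, 2, 3, 4,
    7, 1, 0, 2, 3, 4, 7, 2, 3, 1, 2, 0, 1, 3, 7, 4, 3, 2, 0, 5, 4, 5,
    8, 7, 3, 7, 2, 3, 4, 5, 7, 3, 4, 8, 7, 0, 2, 3, 4, 2, 7, 3, 5, 4]

def n426 : Node := .fuse [0, 0, 0, 0, 0, 0, 0, 1] 2 [] n425

def n427 : Node := .conj 3 [1, 0, 3, 4, 5, 7, 3, 4, 2, 3, 6, 8, 7, 3, 1, 2, 5, 3, 4, 3, 7, 1,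
    2, 3, 1, 2, 0, 1, 0, 2, 3, 7, 4, 3, 2, 5, 6, 4, 5, 8, 0, 2, 3, 4,
    7, 3, 1, 0, 2, 1, 3, 2, 7, 4, 3, 2, 0, 1, 7, 4, 3, 2, 0, 1, 5, 6,
    8, 7, 2, 3, 4, 7, 1, 0, 2, 3, 4, 7, 1, 2, 5, 3, 4, 7, 3, 8, 7, 3,
    2, 1, 5, 4, 3, 2, 0, 1, 7, 4, 3, 2, 5, 4, 6, 5, 4, 3, 1, 0, 2, 3,
    4, 7, 1, 0, 2, 3, 4, 7, 2, 3, 1, 2, 0, 1, 3, 7, 4, 3, 2, 0, 5, 4,
    8, 7, 6, 3, 5, 7, 2, 3, 4, 7, 3, 2, 0, 5, 4, 8, 7, 3, 4, 6, 2]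

def n428 : Node := .fuse [0, 0, 0, 0, 0, 0, 0, 1] 2 [] n427

def n429 : Node := .conj 3 [2, 3, 4, 5, 7, 3, 6, 4, 5, 2, 3, 1, 0, 2, 1, 3, 4, 5, 6, 7, 2, 3,
    4, 5, 7, 3, 4, 8, 7, 2, 3, 4, 7, 6, 3, 2, 1, 5, 4, 3, 2, 0, 1, 4,
    3, 2, 6, 7, 8, 5, 4, 3, 7, 4, 5, 6, 3, 4, 2, 3, 8, 7, 5, 4, 3, 2,
    5, 4, 5, 4, 8, 2, 1, 3, 5, 2, 0, 7, 5, 1, 3, 2, 8, 4, 3, 7, 3, 2,
    1, 4, 3, 2, 0, 1, 8, 7, 3, 2, 7, 4, 5, 3, 4, 1, 0, 2, 3, 4, 7, 1,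
    0, 2, 3, 4, 7, 2, 3, 1, 2, 0, 1, 3, 7, 4, 3, 2, 0, 4, 1, 0, 2, 3,
    4, 7, 1, 2, 5, 3, 4, 7, 3, 8, 7, 3, 2, 1, 5, 4, 3, 2, 0, 1, 7, 4,
    6, 5, 4, 3, 7, 2, 6, 8, 7]

def n430 : Node := .fuse [0, 0, 0, 0, 0, 0, 0, 1] 2 [] n429

def n431 : Node := .split n426 n428 n430

def n432 : Node := .split n417 n424 n431

def n433 : Node := .conj 3 [2, 3, 4, 5, 7, 3, 6, 4, 5, 2, 3, 1, 0, 2, 1, 3, 4, 5, 6, 7, 2, 3,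
    4, 5, 7, 3, 4, 8, 7, 2, 3, 4, 7, 6, 3, 2, 1, 5, 4, 3, 2, 0, 1, 4,
    3, 2, 6, 7, 8, 5, 4, 3, 7, 4, 5, 6, 3, 4, 2, 3, 8, 7, 5, 4, 3, 2,
    6, 5, 4, 3, 1, 0, 2, 3, 4, 7, 1, 0, 2, 3, 4, 7, 2, 3, 1, 2, 0, 1,
    3, 7, 4, 3, 2, 0, 4, 8, 7, 5, 2, 3, 4, 5, 7, 8, 3]

def n434 : Node := .fuse [0, 0, 0, 0, 0, 0, 0, 1] 2 [] n433

def n435 : Node := .conj 1 [2, 3, 4, 5, 7, 3, 6, 4, 5, 2, 3, 1, 0, 2, 1, 3, 4, 5, 6, 7, 2, 3,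
    4, 5, 7, 3, 4, 8, 7, 2, 3, 4, 7, 6, 3, 2, 1, 5, 4, 3, 2, 0, 1, 4,
    3, 2, 6, 7, 8, 5, 4, 3, 7, 4, 5, 6, 3, 4, 2, 3, 8, 7, 5, 4, 3, 2,
    5, 6, 5, 4, 3, 1, 0, 2, 3, 4, 7, 1, 0, 2, 3, 4, 7, 2, 3, 1, 2, 0,
    1, 3, 7, 4, 3, 2, 0, 4, 2, 3, 4, 5, 7, 8, 3, 2, 4, 3, 6, 7, 3, 8,
    0, 1, 0, 2, 3, 7, 8, 1, 2, 3, 7]

def n436 : Node := .fuse [0, 0, 0, 0, 0, 0, 0, 1] 2 [] n435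

def n437 : Node := .conj 1 [3, 4, 5, 7, 8, 3, 4, 6, 7, 5, 1, 0, 2, 3, 4, 7, 1, 0, 2, 3, 4, 7,
    2, 3, 1, 2, 0, 1, 3, 7, 4, 3, 2, 0, 5, 6, 8, 3, 4, 5, 6, 0, 2, 3,
    4, 7, 3, 1, 0, 2, 1, 3, 2, 7, 4, 3, 2, 0, 1, 7, 4, 3, 2, 0, 1, 5,
    6, 8, 3, 1, 4, 2, 0, 1, 3, 2, 5, 0, 7, 4, 3, 2, 4, 7, 3, 1, 2, 0,
    1, 3, 7, 4, 3, 2, 0, 4, 3, 7, 5, 4, 3, 8, 7, 6, 5, 4, 3, 1, 0, 2,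
    3, 4, 7, 1, 0, 2, 3, 4, 7, 2, 3, 1, 2, 0, 1, 3, 7, 4, 3, 2, 0, 5,
    4, 8, 7, 6, 3, 2, 3, 4, 5, 7, 3, 2, 6, 4, 3]

def n438 : Node := .fuse [0, 0, 0, 0, 0, 0, 0, 1] 2 [] n437

def n439 : Node := .split n434 n436 n438

def n440 : Node := .conj 1 [3, 7, 8, 3, 6, 5, 1, 0, 2, 3, 4, 7, 1, 0, 2, 3, 4, 7, 2, 3, 1, 2,
    0, 1, 3, 7, 4, 3, 2, 0, 8, 5, 4, 7, 6, 5, 3, 7, 4, 5, 6, 3, 0, 2,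
    3, 4, 7, 3, 1, 0, 2, 1, 3, 2, 7, 4, 3, 2, 0, 1, 7, 4, 3, 2, 0, 1,
    5, 4, 5, 3, 1, 4, 2, 0, 1, 3, 2, 5, 0, 7, 4, 3, 2, 4, 7, 3, 1, 2,
    0, 1, 3, 7, 4, 3, 2, 0, 4, 3, 7, 5, 4, 3, 8, 5, 7, 3, 4, 6, 5, 7,
    3, 0, 2, 3, 4, 7, 3, 5, 4, 8, 2, 3, 7, 8, 6, 1, 0, 2, 3, 4, 1, 2,
    3]

def n441 : Node := .fuse [0, 0, 0, 0, 0, 0, 0, 1] 2 [] n440

def n442 : Node := .conj 3 [3, 7, 8, 1, 6, 2, 0, 3, 5, 1, 0, 7, 2, 4, 3, 2, 1, 7, 4, 3, 2, 0,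
    1, 3, 7, 4, 3, 2, 0, 8, 7, 5, 6, 3, 4, 5, 0, 2, 3, 4, 7, 3, 1, 0,
    2, 1, 3, 2, 7, 4, 3, 2, 0, 1, 7, 4, 3, 2, 0, 1, 3, 7, 6, 4, 3, 5,
    4, 2, 3, 4, 7, 1, 0, 2, 3, 4, 7, 1, 2, 5, 3, 4, 7, 3, 8, 7, 3, 2,
    1, 5, 4, 3, 2, 0, 1, 7, 4, 3, 2, 4, 5, 3, 4, 5, 6, 7, 8, 1, 0, 2,
    3, 4, 7, 1, 0, 2, 3, 4, 7, 2, 3, 1, 2, 0, 1, 3, 7, 4, 3, 2, 0, 5,
    6, 2, 3, 4, 5, 7, 3, 2, 8, 7, 4, 3, 2, 4]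

def n443 : Node := .fuse [0, 0, 0, 0, 0, 0, 0, 1] 2 [] n442

def n444 : Node := .conj 3 [7, 2, 3, 4, 5, 7, 3, 6, 4, 5, 2, 3, 1, 0, 2, 1, 3, 4, 5, 6, 7, 2,
    3, 4, 5, 7, 3, 4, 8, 7, 2, 3, 4, 7, 6, 3, 2, 1, 5, 4, 3, 2, 0, 1,
    4, 3, 2, 6, 7, 8, 5, 4, 3, 7, 4, 5, 6, 3, 4, 2, 3, 8, 7, 5, 4, 3,
    2, 5, 4, 5, 3, 1, 4, 2, 0, 1, 3, 2, 5, 0, 7, 4, 3, 2, 4, 7, 3, 1,
    2, 0, 1, 3, 7, 4, 3, 2, 0, 4, 3, 7, 5, 4, 3, 7, 8, 7, 3, 4, 6, 5,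
    7, 8, 3, 4, 6, 5, 2, 3, 4, 7, 3, 2, 0, 5, 4, 8, 7, 3, 2]

def n445 : Node := .fuse [0, 0, 0, 0, 0, 0, 0, 1] 2 [] n444

def n446 : Node := .split n441 n443 n445

def n447 : Node := .conj 2 [1, 6, 2, 0, 3, 5, 1, 0, 7, 2, 4, 3, 2, 1, 7, 4, 3, 2, 0, 1, 3, 7,
    4, 3, 2, 0, 5, 4, 3, 8, 6, 5, 4, 3, 1, 0, 2, 3, 4, 7, 1, 0, 2, 3,
    4, 7, 2, 3, 1, 2, 0, 1, 3, 7, 4, 3, 2, 0, 5, 4, 8, 3, 6, 5, 4, 7,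
    3, 2, 3, 4, 7, 1, 0, 2, 3, 4, 7, 1, 2, 5, 3, 4, 7, 3, 8, 7, 3, 2,
    1, 5, 4, 3, 2, 0, 1, 7, 4, 3, 2, 5, 4, 3, 4, 5, 6, 7, 8, 1, 0, 2,
    3, 4, 7, 1, 0, 2, 3, 4, 7, 2, 3, 1, 2, 0, 1, 3, 7, 4, 3, 2, 0, 5,
    4, 3, 6, 2, 3, 4, 7, 3, 2, 0, 5, 4, 3, 1, 0, 2, 1, 3]

def n448 : Node := .fuse [0, 0, 0, 0, 0, 0, 0, 1] 2 [] n447

def n449 : Node := .conj 3 [3, 7, 8, 1, 6, 2, 0, 3, 5, 1, 0, 7, 2, 4, 3, 2, 1, 7, 4, 3, 2, 0,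
    1, 3, 7, 4, 3, 2, 0, 8, 7, 5, 6, 3, 4, 5, 0, 2, 3, 4, 7, 3, 1, 0,
    2, 1, 3, 2, 7, 4, 3, 2, 0, 1, 7, 4, 3, 2, 0, 1, 3, 7, 6, 4, 3, 8,
    2, 3, 4, 7, 1, 0, 2, 3, 4, 7, 1, 2, 5, 3, 4, 7, 3, 8, 7, 3, 2, 1,
    5, 4, 3, 2, 0, 1, 7, 4, 3, 2, 4, 3, 4, 6, 7, 3, 8, 5, 1, 0, 2, 3,
    4, 7, 1, 0, 2, 3, 4, 7, 2, 3, 1, 2, 0, 1, 3, 7, 4, 3, 2, 0, 4, 5,
    6, 7, 8, 2, 3, 4, 5, 7, 3, 2, 8, 7, 4, 3, 2]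

def n450 : Node := .fuse [0, 0, 0, 0, 0, 0, 0, 1] 2 [] n449

def n451 : Node := .conj 3 [2, 3, 4, 5, 7, 3, 6, 4, 5, 2, 3, 1, 0, 2, 1, 3, 4, 5, 6, 7, 2, 3,
    4, 5, 7, 3, 4, 8, 7, 2, 3, 4, 7, 6, 3, 2, 1, 5, 4, 3, 2, 0, 1, 4,
    3, 2, 6, 7, 8, 5, 4, 3, 7, 4, 5, 6, 3, 4, 2, 3, 8, 7, 5, 4, 3, 2,
    5, 4, 3, 1, 4, 2, 0, 1, 3, 2, 5, 0, 7, 4, 3, 2, 4, 7, 3, 1, 2, 0,
    1, 3, 7, 4, 3, 2, 0, 4, 3, 7, 5, 4, 3, 6, 5, 4, 1, 0, 2, 3, 4, 7,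
    1, 0, 2, 3, 4, 7, 2, 3, 1, 2, 0, 1, 3, 7, 4, 3, 2, 0, 8, 1, 0, 2,
    3, 4, 7, 1, 2, 5, 3, 4, 7, 3, 8, 7, 3, 2, 1, 5, 4, 3, 2, 0, 1, 4,
    0, 2]

def n452 : Node := .fuse [0, 0, 0, 0, 0, 0, 0, 1] 2 [] n451

def n453 : Node := .split n448 n450 n452

def n454 : Node := .split n439 n446 n453

def n455 : Node := .conj 3 [2, 3, 4, 5, 7, 3, 6, 4, 5, 2, 3, 1, 0, 2, 1, 3, 4, 5, 6, 7, 2, 3,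
    4, 5, 7, 3, 4, 8, 7, 2, 3, 4, 7, 6, 3, 2, 1, 5, 4, 3, 2, 0, 1, 4,
    3, 2, 6, 7, 8, 5, 4, 3, 7, 4, 5, 6, 3, 4, 2, 3, 8, 7, 5, 4, 3, 2,
    5, 4, 8, 2, 1, 3, 5, 2, 0, 7, 5, 1, 3, 2, 8, 4, 3, 7, 3, 2, 1, 4,
    3, 2, 0, 1, 8, 7, 3, 2, 4, 3, 4, 6, 5, 1, 0, 2, 3, 4, 7, 1, 0, 2,
    3, 4, 7, 2, 3, 1, 2, 0, 1, 3, 7, 4, 3, 2, 0, 8, 5, 4, 7, 1, 0, 2,
    3, 4, 7, 1, 2, 5, 3, 4, 7, 3, 8, 7, 3, 2, 1, 5, 4, 3, 2, 0, 1, 4,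
    3]

def n456 : Node := .fuse [0, 0, 0, 0, 0, 0, 0, 1] 2 [] n455

def n457 : Node := .conj 1 [7, 2, 3, 4, 5, 7, 3, 6, 4, 5, 2, 3, 1, 0, 2, 1, 3, 4, 5, 6, 7, 2,
    3, 4, 5, 7, 3, 4, 8, 7, 2, 3, 4, 7, 6, 3, 2, 1, 5, 4, 3, 2, 0, 1,
    4, 3, 2, 6, 7, 8, 5, 4, 3, 7, 4, 5, 6, 3, 4, 2, 3, 8, 7, 5, 4, 3,
    2, 5, 4, 5, 8, 2, 3, 4, 7, 1, 0, 2, 3, 4, 7, 1, 2, 5, 3, 4, 7, 3,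
    8, 7, 3, 2, 1, 5, 4, 3, 2, 0, 1, 7, 4, 3, 2, 8, 7, 4, 3, 4, 7, 6,
    5, 4, 3, 1, 0, 2, 3, 4, 7, 1, 0, 2, 3, 4, 7, 2, 3, 1, 2, 0, 1, 3,
    7, 4, 3, 2, 0, 8, 7, 4, 2, 3, 4, 5, 7, 3, 6]

def n458 : Node := .fuse [0, 0, 0, 0, 0, 0, 0, 1] 2 [] n457

def n459 : Node := .conj 1 [2, 3, 4, 5, 7, 3, 6, 4, 5, 2, 3, 1, 0, 2, 1, 3, 4, 5, 6, 7, 2, 3,
    4, 5, 7, 3, 4, 8, 7, 2, 3, 4, 7, 6, 3, 2, 1, 5, 4, 3, 2, 0, 1, 4,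
    3, 2, 6, 7, 8, 5, 4, 3, 7, 4, 5, 6, 3, 4, 2, 3, 8, 7, 5, 4, 3, 2,
    5, 8, 2, 1, 3, 5, 2, 0, 7, 5, 1, 3, 2, 8, 4, 3, 7, 3, 2, 1, 4, 3,
    2, 0, 1, 8, 7, 3, 2, 4, 3, 6, 5, 1, 0, 2, 3, 4, 7, 1, 0, 2, 3, 4,
    7, 2, 3, 1, 2, 0, 1, 3, 7, 4, 3, 2, 0, 8, 5, 4, 3, 7, 2, 3, 4, 5,
    7, 8, 3, 2, 4, 3, 6, 7, 3, 8, 1, 0, 2, 3, 7, 8, 1, 2, 3, 7]

def n460 : Node := .fuse [0, 0, 0, 0, 0, 0, 0, 1] 2 [] n459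

def n461 : Node := .split n456 n458 n460

def n462 : Node := .conj 1 [1, 0, 3, 4, 5, 7, 3, 4, 2, 3, 6, 8, 7, 3, 1, 2, 5, 3, 4, 3, 7, 1,
    2, 3, 1, 2, 0, 1, 0, 2, 3, 7, 4, 3, 2, 5, 6, 4, 5, 8, 0, 2, 3, 4,
    7, 3, 1, 0, 2, 1, 3, 2, 7, 4, 3, 2, 0, 1, 7, 4, 3, 2, 0, 1, 5, 6,
    8, 2, 3, 4, 7, 1, 0, 2, 3, 4, 7, 1, 2, 5, 3, 4, 7, 3, 8, 7, 3, 2,
    1, 5, 4, 3, 2, 0, 1, 7, 4, 3, 2, 7, 3, 4, 6, 5, 1, 0, 2, 3, 4, 7,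
    1, 0, 2, 3, 4, 7, 2, 3, 1, 2, 0, 1, 3, 7, 4, 3, 2, 0, 8, 5, 4, 7,
    3, 4, 6, 7, 2, 3, 4, 5, 7, 8, 0, 3, 6, 7, 2, 1, 0, 2, 3, 4, 1, 2,
    3]

def n463 : Node := .fuse [0, 0, 0, 0, 0, 0, 0, 1] 2 [] n462

def n464 : Node := .conj 3 [3, 7, 8, 1, 6, 2, 0, 3, 5, 1, 0, 7, 2, 4, 3, 2, 1, 7, 4, 3, 2, 0,
    1, 3, 7, 4, 3, 2, 0, 8, 7, 5, 6, 3, 4, 5, 0, 2, 3, 4, 7, 3, 1, 0,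
    2, 1, 3, 2, 7, 4, 3, 2, 0, 1, 7, 4, 3, 2, 0, 1, 3, 7, 6, 4, 3, 8,
    2, 3, 4, 7, 1, 0, 2, 3, 4, 7, 1, 2, 5, 3, 4, 7, 3, 8, 7, 3, 2, 1,
    5, 4, 3, 2, 0, 1, 7, 4, 3, 2, 1, 6, 2, 0, 3, 5, 1, 0, 7, 2, 4, 3,
    2, 1, 7, 4, 3, 2, 0, 1, 3, 7, 4, 3, 2, 0, 8, 7, 5, 3, 2, 3, 4, 5,
    7, 3, 4, 8, 7, 0, 2, 3, 4, 2]

def n465 : Node := .fuse [0, 0, 0, 0, 0, 0, 0, 1] 2 [] n464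

def n466 : Node := .conj 3 [3, 7, 8, 1, 6, 2, 0, 3, 5, 1, 0, 7, 2, 4, 3, 2, 1, 7, 4, 3, 2, 0,
    1, 3, 7, 4, 3, 2, 0, 8, 7, 5, 6, 3, 4, 5, 0, 2, 3, 4, 7, 3, 1, 0,
    2, 1, 3, 2, 7, 4, 3, 2, 0, 1, 7, 4, 3, 2, 0, 1, 3, 7, 6, 4, 3, 5,
    4, 1, 0, 2, 3, 4, 5, 7, 3, 8, 4, 7, 3, 1, 2, 3, 4, 5, 7, 3, 2, 8,
    7, 4, 3, 2, 7, 8, 4, 3, 5, 4, 7, 3, 1, 2, 0, 1, 2, 3, 7, 8, 4, 3,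
    7, 5, 4, 3, 2, 8, 4, 7, 3, 4, 6, 5, 4, 3, 1, 0, 2, 3, 4, 7, 1, 0,
    2, 3, 4, 7, 2, 3, 1, 2, 0, 1, 3, 7, 4, 3, 2, 0, 8, 7, 2, 3, 4, 7,
    3, 2, 0, 5, 4, 8, 7, 3, 4, 6, 2]

def n467 : Node := .fuse [0, 0, 0, 0, 0, 0, 0, 1] 2 [] n466

def n468 : Node := .split n463 n465 n467

def n469 : Node := .conj 2 [3, 7, 8, 3, 6, 5, 1, 0, 2, 3, 4, 7, 1, 0, 2, 3, 4, 7, 2, 3, 1, 2,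
    0, 1, 3, 7, 4, 3, 2, 0, 8, 5, 4, 7, 6, 5, 3, 7, 4, 5, 6, 3, 0, 2,
    3, 4, 7, 3, 1, 0, 2, 1, 3, 2, 7, 4, 3, 2, 0, 1, 7, 4, 3, 2, 0, 1,
    5, 4, 2, 3, 4, 7, 1, 0, 2, 3, 4, 7, 1, 2, 5, 3, 4, 7, 3, 8, 7, 3,
    2, 1, 5, 4, 3, 2, 0, 1, 7, 4, 3, 2, 5, 3, 6, 5, 4, 2, 1, 3, 5, 2,
    0, 7, 5, 1, 3, 2, 8, 4, 3, 7, 3, 2, 1, 4, 3, 2, 0, 1, 8, 7, 3, 2,
    4, 2, 3, 4, 7, 3, 2, 0, 5, 4, 8, 3, 1, 0, 2, 1, 3]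

def n470 : Node := .fuse [0, 0, 0, 0, 0, 0, 0, 1] 2 [] n469

def n471 : Node := .conj 3 [5, 7, 4, 2, 3, 4, 7, 1, 0, 2, 3, 4, 7, 1, 2, 5, 3, 4, 7, 3, 8, 7,
    3, 2, 1, 5, 4, 3, 2, 0, 1, 7, 4, 3, 2, 4, 8, 3, 4, 7, 6, 5, 4, 3,
    1, 0, 2, 3, 4, 7, 1, 0, 2, 3, 4, 7, 2, 3, 1, 2, 0, 1, 3, 7, 4, 3,
    2, 0, 8, 7, 4, 3, 1, 0, 2, 1, 3, 4, 5, 6, 7, 2, 3, 4, 5, 7, 3, 4,
    8, 7, 2, 3, 4, 7, 6, 3, 2, 1, 5, 4, 3, 2, 0, 1, 4, 8, 3]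

def n472 : Node := .fuse [0, 0, 0, 0, 0, 0, 0, 1] 2 [] n471

def n473 : Node := .conj 3 [3, 7, 8, 3, 6, 5, 1, 0, 2, 3, 4, 7, 1, 0, 2, 3, 4, 7, 2, 3, 1, 2,
    0, 1, 3, 7, 4, 3, 2, 0, 8, 5, 4, 7, 6, 5, 3, 7, 4, 5, 6, 3, 0, 2,
    3, 4, 7, 3, 1, 0, 2, 1, 3, 2, 7, 4, 3, 2, 0, 1, 7, 4, 3, 2, 0, 1,
    5, 4, 5, 3, 1, 4, 2, 0, 1, 3, 2, 5, 0, 7, 4, 3, 2, 4, 7, 3, 1, 2,
    0, 1, 3, 7, 4, 3, 2, 0, 4, 3, 7, 5, 4, 3, 8, 5, 3, 4, 6, 7, 3, 8,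
    5, 1, 0, 2, 3, 4, 7, 1, 0, 2, 3, 4, 7, 2, 3, 1, 2, 0, 1, 3, 7, 4,
    3, 2, 0, 6, 4, 5, 7, 6, 2, 3, 4, 7, 3, 2, 0, 5, 4, 8, 7, 3, 2]

def n474 : Node := .fuse [0, 0, 0, 0, 0, 0, 0, 1] 2 [] n473

def n475 : Node := .split n470 n472 n474

def n476 : Node := .split n461 n468 n475

def n477 : Node := .split n432 n454 n476

def n478 : Node := .fuse [0, 1, 2] 2 [0, 2, 0, 1] n477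

def n479 : Node := .fuse [0, 0, 1] 2 [0, 2, 0, 2, 1] n478

def n480 : Node := .fuse [0, 0, 0, 0, 0, 0, 0, 1] 2 [] (.bad 1)

def n481 : Node := .fuse [0, 0, 0, 0, 0, 0, 1] 2 [2] n480

def n482 : Node := .fuse [0, 0, 0, 0, 0, 0, 0, 1] 2 [] (.bad 1)

def n483 : Node := .fuse [0, 0, 0, 0, 0, 0, 1] 2 [2] n482

def n484 : Node := .conj 3 [6, 5, 1, 0, 2, 3, 4, 7, 1, 0, 2, 3, 4, 7, 2, 3, 1, 2, 0, 1, 3, 7,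
    4, 3, 2, 0, 8, 5, 4, 6, 5, 3, 4, 1, 0, 2, 3, 4, 7, 1, 0, 2, 3, 4,
    7, 2, 3, 1, 2, 0, 1, 3, 7, 4, 3, 2, 0, 5, 6, 4, 3, 8, 7, 5, 4, 3,
    2, 3, 4, 7, 1, 0, 2, 3, 4, 7, 1, 2, 5, 3, 4, 7, 3, 8, 7, 3, 2, 1,
    5, 4, 3, 2, 0, 1, 7, 4, 3, 2, 4, 7, 5, 8, 6, 5, 4, 3, 1, 0, 2, 3,
    4, 7, 1, 0, 2, 3, 4, 7, 2, 3, 1, 2, 0, 1, 3, 7, 4, 3, 2, 0, 4, 5,
    8, 6, 7, 1, 0, 2, 3, 4, 7, 1, 2, 5, 3, 4, 7, 3, 8, 7, 3, 2, 1, 5,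
    4, 3, 2, 0, 1, 7, 6, 5, 4, 5, 2, 3, 4, 7, 1, 2, 3, 4, 7, 3, 2, 5,
    4, 8, 7, 1, 3, 7, 2, 1, 0, 3, 8]

def n485 : Node := .fuse [0, 0, 0, 0, 0, 0, 0, 1] 2 [] n484

def n486 : Node := .fuse [0, 0, 0, 0, 0, 0, 1] 2 [2] n485

def n487 : Node := .split n481 n483 n486

def n488 : Node := .fuse [0, 0, 0, 0, 1] 1 [0, 2, 1] n487

def n489 : Node := .fuse [0, 1, 2] 2 [2, 2, 0, 2] n488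

def n490 : Node := .fuse [0, 0, 1] 2 [0, 2, 0, 2, 1] n489

def n491 : Node := .fuse [0, 0, 0, 0, 0, 0, 0, 1] 2 [] (.bad 1)

def n492 : Node := .fuse [0, 0, 0, 0, 0, 0, 1] 1 [1] n491

def n493 : Node := .fuse [0, 0, 0, 0, 0, 0, 0, 1] 2 [] (.bad 1)

def n494 : Node := .fuse [0, 0, 0, 0, 0, 0, 1] 1 [1] n493

def n495 : Node := .conj 3 [1, 0, 3, 4, 5, 7, 3, 4, 2, 3, 6, 8, 7, 3, 1, 2, 5, 3, 4, 3, 7, 1,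
    2, 3, 1, 2, 0, 1, 0, 2, 3, 7, 4, 3, 2, 5, 6, 4, 5, 8, 0, 2, 3, 4,
    7, 3, 1, 0, 2, 1, 3, 2, 7, 4, 3, 2, 0, 1, 7, 4, 3, 2, 0, 1, 5, 6,
    4, 2, 3, 4, 7, 1, 0, 2, 3, 4, 7, 1, 2, 5, 3, 4, 7, 3, 8, 7, 3, 2,
    1, 5, 4, 3, 2, 0, 1, 7, 4, 3, 2, 8, 7, 6, 5, 4, 3, 4, 5, 2, 1, 3,
    5, 2, 0, 7, 5, 1, 3, 2, 8, 4, 3, 7, 3, 2, 1, 4, 3, 2, 0, 1, 8, 7,
    3, 2, 6, 7, 8, 5, 1, 0, 2, 3, 4, 7, 1, 2, 5, 3, 4, 7, 3, 8, 7, 3,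
    2, 1, 5, 4, 3, 2, 0, 1, 7, 6, 5, 4, 2, 3, 7, 0, 1, 2, 3, 4]

def n496 : Node := .fuse [0, 0, 0, 0, 0, 0, 0, 1] 2 [] n495

def n497 : Node := .fuse [0, 0, 0, 0, 0, 0, 1] 1 [1] n496

def n498 : Node := .split n492 n494 n497

def n499 : Node := .fuse [0, 0, 0, 0, 1] 2 [0, 1, 2] n498

def n500 : Node := .fuse [0, 1, 2] 2 [1, 2] n499

def n501 : Node := .fuse [0, 0, 1] 2 [0, 2, 0, 2, 1] n500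

def n502 : Node := .split n479 n490 n501

def n503 : Node := .fuse [0, 0, 0, 0, 0, 0, 0, 1] 2 [] (.bad 0)

def n504 : Node := .fuse [0, 0, 0, 0, 0, 0, 1] 2 [2] n503

def n505 : Node := .fuse [0, 0, 0, 1, 2] 1 [1, 1] n504

def n506 : Node := .fuse [0, 0, 0, 0, 1] 1 [2] n505

def n507 : Node := .fuse [0, 1, 2] 2 [2, 0, 2] n506

def n508 : Node := .fuse [0, 0, 1] 2 [0, 1, 0, 2, 1] n507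

def n509 : Node := .fuse [0, 0, 0, 0, 0, 0, 0, 1] 2 [] (.bad 0)

def n510 : Node := .fuse [0, 0, 0, 0, 0, 0, 1] 1 [1] n509

def n511 : Node := .fuse [0, 0, 0, 1, 1] 2 [1, 2] n510

def n512 : Node := .fuse [0, 0, 0, 0, 1] 2 [2, 0, 2] n511

def n513 : Node := .fuse [0, 1, 2] 2 [1, 0, 1] n512

def n514 : Node := .fuse [0, 0, 1] 2 [0, 1, 0, 2, 1] n513

def n515 : Node := .fuse [0, 0, 0, 0, 0, 0, 0, 1] 2 [] (.bad 0)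

def n516 : Node := .fuse [0, 0, 0, 0, 0, 1] 1 [1] n515

def n517 : Node := .fuse [0, 0, 0, 0, 1] 2 [0, 1] n516

def n518 : Node := .fuse [0, 0, 0, 1] 1 [0, 1, 1] n517

def n519 : Node := .fuse [1] 2 [] n518

def n520 : Node := .fuse [0, 0, 1] 2 [0, 1, 0, 2, 1] n519

def n521 : Node := .split n508 n514 n520

def n522 : Node := .fuse [0, 0, 0, 0, 0, 0, 0, 1] 2 [] (.bad 0)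

def n523 : Node := .fuse [0, 0, 0, 0, 0, 0, 1] 1 [1] n522

def n524 : Node := .fuse [0, 0, 0, 1, 2] 2 [1, 1] n523

def n525 : Node := .fuse [0, 0, 0, 0, 1] 2 [1, 2, 2] n524

def n526 : Node := .fuse [0, 1, 2] 2 [1, 1, 2] n525

def n527 : Node := .fuse [0, 0, 1] 2 [0, 0, 0, 1] n526

def n528 : Node := .fuse [0, 0, 0, 0, 0, 0, 0, 1] 2 [] (.bad 0)

def n529 : Node := .fuse [0, 0, 0, 0, 0, 1] 2 [2] n528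

def n530 : Node := .fuse [0, 0, 0, 0, 1] 1 [0, 2] n529

def n531 : Node := .fuse [0, 0, 0, 1] 2 [] n530

def n532 : Node := .fuse [1] 1 [0, 1] n531

def n533 : Node := .fuse [0, 0, 1] 2 [0, 0, 0, 1] n532

def n534 : Node := .fuse [0, 0, 0, 0, 0, 0, 0, 1] 2 [] (.bad 0)

def n535 : Node := .fuse [0, 0, 0, 0, 0, 0, 1] 2 [2] n534

def n536 : Node := .fuse [0, 0, 0, 1, 1] 1 [1] n535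

def n537 : Node := .fuse [0, 0, 0, 0, 1] 1 [1, 1, 2] n536

def n538 : Node := .fuse [0, 1, 2] 2 [2, 1, 1, 1] n537

def n539 : Node := .fuse [0, 0, 1] 2 [0, 0, 0, 1] n538

def n540 : Node := .split n527 n533 n539

def n541 : Node := .split n502 n521 n540

def n542 : Node := .split n279 n410 n541


/-- The fusion tree. -/
def tree : Node := n542

/-- Elements carrying the representatives to their inverses. -/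
def invs : List (List ℕ) := [
    [0],
    [5, 8],
    [5, 7, 4, 5, 8, 3, 4, 6, 5, 4, 7],
    [8, 6, 0]]

def sw0 : List (List ℕ) := [pcW pcg [0, 0, 0, 0, 0, 0, 0, 0, 1], pcW pcg [0, 0, 0, 0, 0, 0, 0, 1], pcW pcg [0, 0, 0, 0, 0, 0, 1], pcW pcg [0, 0, 0, 0, 0, 1], pcW pcg [0, 0, 0, 0, 1], pcW pcg [0, 0, 0, 1], pcW pcg [1]]

def grw0 : List (ℕ × ℕ) := [(1, 0), (615, 0), (81, 1), (1, 1), (615, 1), (161, 1), (22, 1), (605, 1), (1, 2), (161, 2),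
    (615, 2), (73, 2), (81, 2), (22, 2), (54, 2), (26, 2), (605, 2), (2052, 2), (2823, 2), (2029, 2),
    (2458, 2), (1968, 2), (1808, 2), (2802, 2), (2998, 2), (2102, 2), (1, 3), (2051, 3), (2052, 3), (2821, 3),
    (2823, 3), (1808, 3), (1938, 3), (22, 3), (2458, 3), (26, 3), (2461, 3), (161, 3), (1968, 3), (2481, 3),
    (1971, 3), (54, 3), (2998, 3), (2102, 3), (3006, 3), (73, 3), (81, 3), (2776, 3), (605, 3), (615, 3),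
    (2029, 3), (2032, 3), (2802, 3), (1922, 3), (6, 3), (265, 3), (779, 3), (917, 3), (281, 3), (922, 3),
    (1565, 3), (25, 3), (2086, 3), (1574, 3), (1459, 3), (441, 3), (1334, 3), (829, 3), (2754, 3), (1734, 3),
    (1991, 3), (588, 3), (1495, 3), (95, 3), (483, 3), (1251, 3), (1262, 3), (371, 3), (500, 3), (1658, 3),
    (2048, 4), (1, 4), (2051, 4), (2052, 4), (6, 4), (10, 4), (529, 4), (22, 4), (25, 4), (26, 4),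
    (1565, 4), (2086, 4), (1574, 4), (54, 4), (2102, 4), (1086, 4), (73, 4), (588, 4), (81, 4), (85, 4),
    (605, 4), (95, 4), (615, 4), (1658, 4), (161, 4), (165, 4), (1705, 4), (689, 4), (184, 4), (1722, 4),
    (2753, 4), (2754, 4), (1734, 4), (2765, 4), (206, 4), (2776, 4), (216, 4), (1251, 4), (1262, 4), (2802, 4),
    (761, 4), (2821, 4), (2823, 4), (265, 4), (779, 4), (1291, 4), (1808, 4), (1300, 4), (281, 4), (1311, 4),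
    (1334, 4), (829, 4), (840, 4), (1390, 4), (371, 4), (1922, 4), (388, 4), (1422, 4), (1938, 4), (917, 4),
    (2458, 4), (922, 4), (2461, 4), (938, 4), (1452, 4), (1968, 4), (2481, 4), (1971, 4), (1459, 4), (2998, 4),
    (441, 4), (3006, 4), (1991, 4), (1495, 4), (483, 4), (1513, 4), (2029, 4), (2032, 4), (497, 4), (500, 4),
    (1012, 4), (15, 4), (2582, 4), (1048, 4), (3104, 4), (1081, 4), (2110, 4), (2127, 4), (2640, 4), (1618, 4),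
    (3158, 4), (2135, 4), (3162, 4), (2144, 4), (1640, 4), (1129, 4), (2671, 4), (2163, 4), (116, 4), (1654, 4),
    (1145, 4), (3194, 4), (1151, 4), (2178, 4), (1667, 4), (3212, 4), (1165, 4), (2192, 4), (1685, 4), (2715, 4),
    (668, 4), (2720, 4), (2727, 4), (2231, 4), (3255, 4), (1211, 4), (189, 4), (1218, 4), (3266, 4), (2755, 4),
    (2758, 4), (1227, 4), (716, 4), (1750, 4), (3292, 4), (3318, 4), (1791, 4), (1286, 4), (781, 4), (3339, 4),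
    (2324, 4), (3357, 4), (2337, 4), (2338, 4), (803, 4), (2341, 4), (2357, 4), (2364, 4), (321, 4), (3401, 4),
    (344, 4), (1369, 4), (1889, 4), (1379, 4), (869, 4), (1384, 4), (363, 4), (1905, 4), (891, 4), (894, 4),
    (1414, 4), (406, 4), (2972, 4), (3486, 4), (419, 4), (933, 4), (3002, 4), (2494, 4), (963, 4), (2016, 4),
    (2550, 4), (2040, 4), (2048, 5), (1, 5), (2051, 5), (2052, 5), (516, 5), (6, 5), (10, 5), (2061, 5),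
    (15, 5), (1040, 5), (529, 5), (3087, 5), (22, 5), (2582, 5), (1048, 5), (25, 5), (26, 5), (1046, 5),
    (1565, 5), (3104, 5), (2592, 5), (3106, 5), (1568, 5), (2596, 5), (2086, 5), (1574, 5), (1065, 5), (54, 5),
    (2102, 5), (1591, 5), (1081, 5), (1084, 5), (1086, 5), (2110, 5), (73, 5), (588, 5), (2127, 5), (2640, 5),
    (81, 5), (1618, 5), (85, 5), (3158, 5), (2135, 5), (3162, 5), (605, 5), (95, 5), (2144, 5), (3169, 5),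
    (1123, 5), (612, 5), (2661, 5), (615, 5), (1640, 5), (1129, 5), (2158, 5), (2671, 5), (2163, 5), (116, 5),
    (1654, 5), (3192, 5), (1145, 5), (1658, 5), (3194, 5), (1151, 5), (2178, 5), (1667, 5), (2692, 5), (3211, 5),
    (3212, 5), (1165, 5), (2187, 5), (2192, 5), (2704, 5), (1685, 5), (1687, 5), (663, 5), (2713, 5), (2715, 5),
    (668, 5), (2720, 5), (161, 5), (3236, 5), (165, 5), (1189, 5), (2727, 5), (1705, 5), (689, 5), (177, 5),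
    (2231, 5), (184, 5), (3255, 5), (1722, 5), (1211, 5), (189, 5), (192, 5), (2753, 5), (2754, 5), (1218, 5),
    (3266, 5), (2755, 5), (1734, 5), (2758, 5), (2240, 5), (1227, 5), (716, 5), (2765, 5), (206, 5), (1740, 5),
    (1750, 5), (2776, 5), (216, 5), (730, 5), (3292, 5), (1251, 5), (2276, 5), (3300, 5), (1255, 5), (746, 5),
    (235, 5), (1262, 5), (751, 5), (1774, 5), (3311, 5), (2802, 5), (1779, 5), (3318, 5), (761, 5), (1791, 5),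
    (1795, 5), (2821, 5), (1286, 5), (2823, 5), (1799, 5), (265, 5), (2825, 5), (779, 5), (1291, 5), (781, 5),
    (3339, 5), (1808, 5), (2323, 5), (1300, 5), (2324, 5), (1812, 5), (281, 5), (3357, 5), (285, 5), (1311, 5),
    (2337, 5), (2338, 5), (803, 5), (2341, 5), (2357, 5), (1334, 5), (826, 5), (2364, 5), (829, 5), (831, 5),
    (1855, 5), (321, 5), (2372, 5), (3396, 5), (2885, 5), (840, 5), (3401, 5), (846, 5), (344, 5), (1369, 5),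
    (3423, 5), (1889, 5), (2913, 5), (1379, 5), (869, 5), (870, 5), (1384, 5), (2921, 5), (363, 5), (1390, 5),
    (1905, 5), (882, 5), (371, 5), (890, 5), (891, 5), (894, 5), (1922, 5), (388, 5), (3460, 5), (1414, 5),
    (2441, 5), (1422, 5), (1935, 5), (1938, 5), (1426, 5), (1940, 5), (917, 5), (406, 5), (2458, 5), (922, 5),
    (2972, 5), (2461, 5), (3486, 5), (1438, 5), (3482, 5), (419, 5), (933, 5), (3495, 5), (938, 5), (2986, 5),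
    (1452, 5), (1968, 5), (2481, 5), (1971, 5), (1459, 5), (2998, 5), (1974, 5), (441, 5), (3002, 5), (3006, 5),
    (2494, 5), (2495, 5), (1471, 5), (963, 5), (1991, 5), (1480, 5), (3026, 5), (2004, 5), (1495, 5), (2526, 5),
    (2016, 5), (483, 5), (1513, 5), (1003, 5), (2029, 5), (2032, 5), (497, 5), (2544, 5), (1011, 5), (500, 5),
    (1012, 5), (2550, 5), (1525, 5), (2040, 5), (2038, 5), (2, 5), (7, 5), (2056, 5), (14, 5), (2075, 5),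
    (2082, 5), (2087, 5), (43, 5), (44, 5), (2094, 5), (2099, 5), (2104, 5), (58, 5), (2107, 5), (61, 5),
    (66, 5), (2115, 5), (68, 5), (78, 5), (79, 5), (82, 5), (2149, 5), (105, 5), (2155, 5), (2170, 5),
    (2171, 5), (127, 5), (2193, 5), (2199, 5), (2201, 5), (157, 5), (158, 5), (2212, 5), (2220, 5), (188, 5),
    (198, 5), (2257, 5), (2266, 5), (219, 5), (224, 5), (248, 5), (255, 5), (2307, 5), (259, 5), (2313, 5),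
    (2314, 5), (2334, 5), (287, 5), (303, 5), (308, 5), (2359, 5), (2363, 5), (2381, 5), (2388, 5), (341, 5),
    (2392, 5), (356, 5), (2416, 5), (2430, 5), (392, 5), (403, 5), (2488, 5), (448, 5), (446, 5), (2500, 5),
    (453, 5), (2507, 5), (2514, 5), (2527, 5), (485, 5), (2542, 5), (494, 5), (2547, 5), (515, 5), (2577, 5),
    (534, 5), (2595, 5), (556, 5), (557, 5), (2608, 5), (581, 5), (582, 5), (2648, 5), (2655, 5), (2660, 5),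
    (616, 5), (614, 5), (621, 5), (2672, 5), (642, 5), (647, 5), (649, 5), (660, 5), (2714, 5), (667, 5),
    (670, 5), (2724, 5), (2732, 5), (2735, 5), (2747, 5), (2748, 5), (699, 5), (2764, 5), (2772, 5), (731, 5),
    (2778, 5), (740, 5), (2794, 5), (750, 5), (2806, 5), (2808, 5), (2811, 5), (764, 5), (2818, 5), (772, 5),
    (2831, 5), (785, 5), (788, 5), (2837, 5), (794, 5), (795, 5), (2848, 5), (816, 5), (833, 5), (2882, 5),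
    (2899, 5), (859, 5), (865, 5), (867, 5), (873, 5), (2925, 5), (886, 5), (2937, 5), (2959, 5), (2963, 5),
    (924, 5), (2974, 5), (932, 5), (942, 5), (943, 5), (948, 5), (950, 5), (982, 5), (983, 5), (3033, 5),
    (3035, 5), (989, 5), (994, 5), (1000, 5), (3055, 5), (3068, 5), (3069, 5), (1030, 5), (3082, 5), (3086, 5),
    (3093, 5), (3119, 5), (3128, 5), (1082, 5), (1085, 5), (1092, 5), (1097, 5), (3151, 5), (1111, 5), (3160, 5),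
    (3167, 5), (3171, 5), (3174, 5), (1127, 5), (1133, 5), (1140, 5), (1160, 5), (1163, 5), (3221, 5), (1175, 5),
    (3225, 5), (1182, 5), (1190, 5), (1196, 5), (1204, 5), (3263, 5), (1223, 5), (3293, 5), (1258, 5), (1275, 5),
    (1276, 5), (1282, 5), (1303, 5), (3360, 5), (3385, 5), (1338, 5), (3391, 5), (1386, 5), (1392, 5), (1420, 5),
    (1439, 5), (3505, 5), (3508, 5), (3507, 5), (1476, 5), (1492, 5), (1510, 5), (1520, 5), (1523, 5), (1533, 5),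
    (1562, 5), (1576, 5), (1599, 5), (1605, 5), (1609, 5), (1638, 5), (1651, 5), (1660, 5), (1669, 5), (1671, 5),
    (1678, 5), (1692, 5), (1693, 5), (1695, 5), (1709, 5), (1710, 5), (1759, 5), (1766, 5), (1775, 5), (1785, 5),
    (1789, 5), (1819, 5), (1829, 5), (1866, 5), (1890, 5), (1891, 5), (1915, 5), (1918, 5), (1921, 5), (1930, 5),
    (1937, 5), (1944, 5), (1945, 5), (1947, 5), (1986, 5), (2019, 5), (2020, 5), (2023, 5), (2048, 6), (1, 6),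
    (2, 6), (2051, 6), (2052, 6), (3, 6), (6, 6), (7, 6), (2056, 6), (2053, 6), (10, 6), (12, 6),
    (2061, 6), (14, 6), (15, 6), (2063, 6), (17, 6), (20, 6), (22, 6), (23, 6), (25, 6), (26, 6),
    (2075, 6), (2080, 6), (2082, 6), (2084, 6), (2085, 6), (2086, 6), (2087, 6), (43, 6), (44, 6), (2094, 6),
    (46, 6), (2096, 6), (2099, 6), (54, 6), (2102, 6), (2104, 6), (58, 6), (2107, 6), (61, 6), (2110, 6),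
    (2111, 6), (66, 6), (2115, 6), (68, 6), (2114, 6), (73, 6), (78, 6), (2127, 6), (79, 6), (81, 6),
    (82, 6), (85, 6), (2135, 6), (89, 6), (93, 6), (95, 6), (2144, 6), (2149, 6), (105, 6), (2155, 6),
    (2158, 6), (2161, 6), (2163, 6), (116, 6), (2167, 6), (2170, 6), (2171, 6), (2173, 6), (127, 6), (2178, 6),
    (2187, 6), (139, 6), (2192, 6), (2193, 6), (2199, 6), (2201, 6), (153, 6), (156, 6), (157, 6), (158, 6),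
    (161, 6), (162, 6), (2212, 6), (165, 6), (167, 6), (171, 6), (2220, 6), (176, 6), (177, 6), (182, 6),
    (2231, 6), (184, 6), (188, 6), (189, 6), (192, 6), (2240, 6), (2243, 6), (198, 6), (206, 6), (2257, 6),
    (2263, 6), (216, 6), (215, 6), (2266, 6), (219, 6), (220, 6), (223, 6), (224, 6), (225, 6), (2272, 6),
    (2276, 6), (235, 6), (2288, 6), (248, 6), (255, 6), (2307, 6), (259, 6), (265, 6), (2313, 6), (2314, 6),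
    (2315, 6), (267, 6), (271, 6), (2323, 6), (2324, 6), (277, 6), (2326, 6), (2327, 6), (281, 6), (2329, 6),
    (285, 6), (2334, 6), (287, 6), (2337, 6), (2338, 6), (2341, 6), (300, 6), (303, 6), (304, 6), (308, 6),
    (2357, 6), (2356, 6), (2359, 6), (2363, 6), (2364, 6), (2365, 6), (321, 6), (2369, 6), (2372, 6), (2381, 6),
    (337, 6), (2388, 6), (341, 6), (344, 6), (2392, 6), (353, 6), (2402, 6), (356, 6), (2405, 6), (361, 6),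
    (363, 6), (2411, 6), (364, 6), (2416, 6), (369, 6), (371, 6), (2427, 6), (2430, 6), (388, 6), (392, 6),
    (2441, 6), (400, 6), (403, 6), (2452, 6), (406, 6), (2458, 6), (2461, 6), (417, 6), (419, 6), (422, 6),
    (2470, 6), (424, 6), (2481, 6), (439, 6), (2488, 6), (441, 6), (2493, 6), (2494, 6), (2495, 6), (448, 6),
    (446, 6), (445, 6), (2500, 6), (453, 6), (2507, 6), (462, 6), (2514, 6), (472, 6), (2526, 6), (2527, 6),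
    (2528, 6), (483, 6), (485, 6), (490, 6), (491, 6), (2542, 6), (494, 6), (2544, 6), (497, 6), (2547, 6),
    (500, 6), (2550, 6), (511, 6), (515, 6), (516, 6), (517, 6), (2571, 6), (2576, 6), (529, 6), (2577, 6),
    (2582, 6), (534, 6), (2586, 6), (542, 6), (543, 6), (2592, 6), (2595, 6), (2596, 6), (2602, 6), (556, 6),
    (557, 6), (2605, 6), (2604, 6), (2608, 6), (2609, 6), (572, 6), (574, 6), (581, 6), (582, 6), (2635, 6),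
    (588, 6), (2640, 6), (2648, 6), (605, 6), (606, 6), (2655, 6), (2657, 6), (611, 6), (612, 6), (2661, 6),
    (2660, 6), (615, 6), (616, 6), (614, 6), (617, 6), (613, 6), (621, 6), (2671, 6), (2672, 6), (636, 6),
    (2687, 6), (642, 6), (2692, 6), (2693, 6), (647, 6), (2695, 6), (649, 6), (2699, 6), (2704, 6), (2707, 6),
    (660, 6), (663, 6), (2711, 6), (2713, 6), (2714, 6), (2715, 6), (668, 6), (667, 6), (670, 6), (666, 6),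
    (2720, 6), (671, 6), (2718, 6), (2724, 6), (2727, 6), (2730, 6), (2732, 6), (2734, 6), (2735, 6), (689, 6),
    (2747, 6), (2748, 6), (699, 6), (702, 6), (2753, 6), (2754, 6), (2755, 6), (2758, 6), (716, 6), (2765, 6),
    (2764, 6), (2767, 6), (2772, 6), (2773, 6), (726, 6), (2776, 6), (2777, 6), (730, 6), (731, 6), (2778, 6),
    (729, 6), (737, 6), (739, 6), (740, 6), (2788, 6), (746, 6), (2794, 6), (750, 6), (751, 6), (752, 6),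
    (2802, 6), (2804, 6), (2806, 6), (2808, 6), (761, 6), (2811, 6), (764, 6), (2812, 6), (2816, 6), (2818, 6),
    (772, 6), (2821, 6), (2823, 6), (2825, 6), (779, 6), (781, 6), (2831, 6), (785, 6), (788, 6), (2837, 6),
    (794, 6), (795, 6), (796, 6), (2848, 6), (803, 6), (2861, 6), (2862, 6), (816, 6), (823, 6), (826, 6),
    (2874, 6), (2876, 6), (829, 6), (831, 6), (832, 6), (833, 6), (2882, 6), (2881, 6), (2885, 6), (840, 6),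
    (846, 6), (2898, 6), (2899, 6), (854, 6), (859, 6), (2912, 6), (2913, 6), (865, 6), (867, 6), (869, 6),
    (870, 6), (2921, 6), (873, 6), (875, 6), (2923, 6), (2925, 6), (874, 6), (879, 6), (882, 6), (885, 6),
    (886, 6), (2937, 6), (890, 6), (891, 6), (889, 6), (2939, 6), (894, 6), (2944, 6), (896, 6), (2952, 6),
    (2957, 6), (2959, 6), (2963, 6), (917, 6), (2967, 6), (921, 6), (922, 6), (923, 6), (2972, 6), (924, 6),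
    (2974, 6), (932, 6), (933, 6), (938, 6), (2986, 6), (942, 6), (943, 6), (948, 6), (949, 6), (2998, 6),
    (950, 6), (3000, 6), (3002, 6), (956, 6), (3006, 6), (959, 6), (963, 6), (3012, 6), (3019, 6), (3022, 6),
    (3025, 6), (3026, 6), (980, 6), (982, 6), (983, 6), (3033, 6), (3035, 6), (989, 6), (994, 6), (1000, 6),
    (1003, 6), (3055, 6), (1009, 6), (1011, 6), (1012, 6), (1016, 6), (1018, 6), (3068, 6), (3069, 6), (1023, 6),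
    (3071, 6), (1030, 6), (3082, 6), (3086, 6), (3087, 6), (1040, 6), (3093, 6), (1046, 6), (1048, 6), (3099, 6),
    (3101, 6), (3103, 6), (3104, 6), (3106, 6), (1060, 6), (1065, 6), (3119, 6), (1079, 6), (3128, 6), (1081, 6),
    (1082, 6), (1084, 6), (1085, 6), (1086, 6), (1092, 6), (1094, 6), (3142, 6), (1097, 6), (3145, 6), (1100, 6),
    (3151, 6), (3158, 6), (1111, 6), (3160, 6), (3161, 6), (3162, 6), (3166, 6), (3167, 6), (3169, 6), (1123, 6),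
    (3171, 6), (3172, 6), (3174, 6), (1127, 6), (1129, 6), (1130, 6), (1132, 6), (1133, 6), (1140, 6), (3192, 6),
    (1145, 6), (3194, 6), (1150, 6), (1151, 6), (1159, 6), (1160, 6), (1161, 6), (3211, 6), (3212, 6), (1165, 6),
    (1163, 6), (3221, 6), (1175, 6), (3223, 6), (3225, 6), (1182, 6), (1187, 6), (3236, 6), (1189, 6), (1190, 6),
    (1192, 6), (1196, 6), (1204, 6), (3253, 6), (3255, 6), (1211, 6), (3260, 6), (3263, 6), (1216, 6), (1217, 6),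
    (1218, 6), (3266, 6), (1222, 6), (1223, 6), (1227, 6), (1234, 6), (1240, 6), (3292, 6), (3293, 6), (3295, 6),
    (1251, 6), (3300, 6), (1255, 6), (1257, 6), (1258, 6), (1262, 6), (3311, 6), (3318, 6), (3320, 6), (1275, 6),
    (1276, 6), (1279, 6), (1282, 6), (1285, 6), (1286, 6), (1291, 6), (3339, 6), (3347, 6), (1300, 6), (1303, 6),
    (3352, 6), (3357, 6), (1311, 6), (3360, 6), (1334, 6), (3385, 6), (1338, 6), (3391, 6), (3396, 6), (3401, 6),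
    (3407, 6), (3412, 6), (1364, 6), (1369, 6), (3423, 6), (1379, 6), (1384, 6), (1386, 6), (1390, 6), (1392, 6),
    (1396, 6), (1405, 6), (3460, 6), (1414, 6), (1416, 6), (3464, 6), (1420, 6), (3469, 6), (1422, 6), (1425, 6),
    (1426, 6), (1427, 6), (3482, 6), (1436, 6), (3486, 6), (1438, 6), (1439, 6), (3494, 6), (3495, 6), (1452, 6),
    (3502, 6), (3505, 6), (1459, 6), (3508, 6), (3507, 6), (1471, 6), (1476, 6), (1480, 6), (1490, 6), (1492, 6),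
    (1495, 6), (1510, 6), (1513, 6), (1520, 6), (1523, 6), (1525, 6), (1533, 6), (1535, 6), (1537, 6), (1542, 6),
    (1549, 6), (1562, 6), (1565, 6), (1568, 6), (1569, 6), (1573, 6), (1574, 6), (1576, 6), (1578, 6), (1591, 6),
    (1599, 6), (1605, 6), (1606, 6), (1609, 6), (1615, 6), (1617, 6), (1618, 6), (1622, 6), (1636, 6), (1638, 6),
    (1640, 6), (1650, 6), (1651, 6), (1654, 6), (1656, 6), (1657, 6), (1658, 6), (1659, 6), (1660, 6), (1667, 6),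
    (1669, 6), (1671, 6), (1676, 6), (1678, 6), (1685, 6), (1686, 6), (1687, 6), (1692, 6), (1693, 6), (1695, 6),
    (1696, 6), (1700, 6), (1705, 6), (1709, 6), (1710, 6), (1722, 6), (1734, 6), (1739, 6), (1740, 6), (1750, 6),
    (1751, 6), (1754, 6), (1759, 6), (1760, 6), (1766, 6), (1771, 6), (1774, 6), (1775, 6), (1779, 6), (1785, 6),
    (1789, 6), (1791, 6), (1795, 6), (1796, 6), (1799, 6), (1808, 6), (1812, 6), (1819, 6), (1829, 6), (1832, 6),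
    (1853, 6), (1855, 6), (1866, 6), (1876, 6), (1889, 6), (1890, 6), (1891, 6), (1892, 6), (1895, 6), (1902, 6),
    (1904, 6), (1905, 6), (1906, 6), (1909, 6), (1915, 6), (1918, 6), (1921, 6), (1922, 6), (1924, 6), (1930, 6),
    (1935, 6), (1937, 6), (1938, 6), (1940, 6), (1944, 6), (1945, 6), (1947, 6), (1960, 6), (1961, 6), (1968, 6),
    (1970, 6), (1971, 6), (1974, 6), (1983, 6), (1986, 6), (1991, 6), (2004, 6), (2007, 6), (2016, 6), (2019, 6),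
    (2020, 6), (2023, 6), (2029, 6), (2032, 6), (2038, 6), (2039, 6), (2040, 6), (9, 6), (13, 6), (18, 6),
    (27, 6), (30, 6), (33, 6), (35, 6), (36, 6), (37, 6), (47, 6), (48, 6), (49, 6), (55, 6),
    (59, 6), (60, 6), (75, 6), (77, 6), (80, 6), (84, 6), (87, 6), (88, 6), (90, 6), (96, 6),
    (101, 6), (107, 6), (109, 6), (112, 6), (114, 6), (115, 6), (119, 6), (128, 6), (130, 6), (131, 6),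
    (138, 6), (146, 6), (150, 6), (152, 6), (164, 6), (170, 6), (178, 6), (181, 6), (187, 6), (191, 6),
    (197, 6), (205, 6), (218, 6), (222, 6), (231, 6), (234, 6), (236, 6), (237, 6), (238, 6), (249, 6),
    (253, 6), (262, 6), (268, 6), (282, 6), (290, 6), (293, 6), (294, 6), (295, 6), (296, 6), (301, 6),
    (309, 6), (312, 6), (318, 6), (319, 6), (320, 6), (324, 6), (328, 6), (335, 6), (348, 6), (355, 6),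
    (362, 6), (372, 6), (374, 6), (375, 6), (377, 6), (380, 6), (396, 6), (399, 6), (401, 6), (402, 6),
    (410, 6), (412, 6), (426, 6), (434, 6), (442, 6), (451, 6), (452, 6), (463, 6), (468, 6), (476, 6),
    (477, 6), (481, 6), (484, 6), (492, 6), (496, 6), (498, 6), (499, 6), (501, 6), (502, 6), (508, 6),
    (512, 6), (514, 6), (531, 6), (532, 6), (545, 6), (546, 6), (550, 6), (558, 6), (561, 6), (565, 6),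
    (570, 6), (576, 6), (583, 6), (586, 6), (589, 6), (596, 6), (599, 6), (600, 6), (622, 6), (624, 6),
    (630, 6), (632, 6), (633, 6), (638, 6), (641, 6), (653, 6), (658, 6), (661, 6), (665, 6), (676, 6),
    (680, 6), (682, 6), (691, 6), (700, 6), (707, 6), (710, 6), (711, 6), (717, 6), (718, 6), (719, 6),
    (720, 6), (721, 6), (727, 6), (734, 6), (735, 6), (736, 6), (745, 6), (749, 6), (757, 6), (763, 6),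
    (765, 6), (768, 6), (775, 6), (776, 6), (777, 6), (782, 6), (783, 6), (784, 6), (787, 6), (792, 6),
    (793, 6), (801, 6), (802, 6), (806, 6), (813, 6), (815, 6), (817, 6), (818, 6), (822, 6), (825, 6),
    (835, 6), (841, 6), (842, 6), (847, 6), (852, 6), (858, 6), (866, 6), (868, 6), (877, 6), (883, 6),
    (887, 6), (895, 6), (899, 6), (900, 6), (904, 6), (907, 6), (914, 6), (919, 6), (920, 6), (941, 6),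
    (946, 6), (947, 6), (952, 6), (955, 6), (957, 6), (962, 6), (964, 6), (970, 6), (974, 6), (975, 6),
    (977, 6), (978, 6), (986, 6), (997, 6), (1004, 6), (1010, 6), (1027, 6), (1039, 6), (1045, 6), (1055, 6),
    (1058, 6), (1061, 6), (1070, 6), (1074, 6), (1078, 6), (1083, 6), (1095, 6), (1103, 6), (1125, 6), (1131, 6),
    (1137, 6), (1139, 6), (1141, 6), (1142, 6), (1148, 6), (1153, 6), (1176, 6), (1177, 6), (1183, 6), (1198, 6),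
    (1224, 6), (1225, 6), (1229, 6), (1232, 6), (1233, 6), (1237, 6), (1238, 6), (1241, 6), (1244, 6), (1245, 6),
    (1254, 6), (1256, 6), (1261, 6), (1265, 6), (1266, 6), (1272, 6), (1274, 6), (1277, 6), (1280, 6), (1283, 6),
    (1287, 6), (1290, 6), (1294, 6), (1296, 6), (1314, 6), (1315, 6), (1316, 6), (1317, 6), (1320, 6), (1322, 6),
    (1325, 6), (1329, 6), (1330, 6), (1331, 6), (1335, 6), (1337, 6), (1339, 6), (1342, 6), (1343, 6), (1345, 6),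
    (1351, 6), (1353, 6), (1357, 6), (1360, 6), (1361, 6), (1372, 6), (1374, 6), (1389, 6), (1395, 6), (1397, 6),
    (1407, 6), (1410, 6), (1413, 6), (1423, 6), (1430, 6), (1431, 6), (1435, 6), (1444, 6), (1451, 6), (1453, 6),
    (1461, 6), (1462, 6), (1466, 6), (1472, 6), (1481, 6), (1485, 6), (1504, 6), (1505, 6), (1511, 6), (1515, 6),
    (1517, 6), (1539, 6), (1541, 6), (1550, 6), (1555, 6), (1557, 6), (1564, 6), (1571, 6), (1579, 6), (1581, 6),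
    (1590, 6), (1593, 6), (1595, 6), (1600, 6), (1602, 6), (1603, 6), (1604, 6), (1614, 6), (1623, 6), (1627, 6),
    (1629, 6), (1639, 6), (1641, 6), (1646, 6), (1647, 6), (1648, 6), (1652, 6), (1655, 6), (1664, 6), (1666, 6),
    (1672, 6), (1682, 6), (1683, 6), (1698, 6), (1701, 6), (1703, 6), (1706, 6), (1711, 6), (1716, 6), (1723, 6),
    (1725, 6), (1726, 6), (1728, 6), (1730, 6), (1731, 6), (1733, 6), (1736, 6), (1738, 6), (1741, 6), (1742, 6),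
    (1744, 6), (1747, 6), (1756, 6), (1758, 6), (1761, 6), (1767, 6), (1777, 6), (1780, 6), (1781, 6), (1793, 6),
    (1794, 6), (1798, 6), (1809, 6), (1824, 6), (1827, 6), (1828, 6), (1830, 6), (1833, 6), (1835, 6), (1838, 6),
    (1839, 6), (1840, 6), (1845, 6), (1858, 6), (1865, 6), (1869, 6), (1878, 6), (1885, 6), (1894, 6), (1898, 6),
    (1910, 6), (1916, 6), (1919, 6), (1931, 6), (1941, 6), (1942, 6), (1946, 6), (1949, 6), (1951, 6), (1952, 6),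
    (1955, 6), (1956, 6), (1958, 6), (1959, 6), (1964, 6), (1966, 6), (1969, 6), (1980, 6), (1998, 6), (2003, 6),
    (2005, 6), (2009, 6), (2011, 6), (2013, 6), (2014, 6), (2030, 6), (2031, 6), (2033, 6), (2036, 6), (2041, 6),
    (2044, 6), (2047, 6), (2057, 6), (2060, 6), (2065, 6), (2067, 6), (2070, 6), (2072, 6), (2077, 6), (2090, 6),
    (2097, 6), (2098, 6), (2117, 6), (2121, 6), (2124, 6), (2143, 6), (2147, 6), (2148, 6), (2150, 6), (2151, 6),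
    (2154, 6), (2157, 6), (2160, 6), (2164, 6), (2169, 6), (2174, 6), (2176, 6), (2179, 6), (2181, 6), (2186, 6),
    (2197, 6), (2215, 6), (2216, 6), (2218, 6), (2221, 6), (2224, 6), (2230, 6), (2235, 6), (2236, 6), (2242, 6),
    (2244, 6), (2246, 6), (2247, 6), (2259, 6), (2265, 6), (2268, 6), (2270, 6), (2275, 6), (2283, 6), (2291, 6),
    (2298, 6), (2301, 6), (2303, 6), (2311, 6), (2321, 6), (2325, 6), (2330, 6), (2332, 6), (2340, 6), (2349, 6),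
    (2351, 6), (2360, 6), (2370, 6), (2375, 6), (2377, 6), (2378, 6), (2380, 6), (2382, 6), (2391, 6), (2393, 6),
    (2394, 6), (2395, 6), (2396, 6), (2401, 6), (2418, 6), (2422, 6), (2423, 6), (2425, 6), (2426, 6), (2428, 6),
    (2429, 6), (2432, 6), (2434, 6), (2435, 6), (2437, 6), (2439, 6), (2453, 6), (2457, 6), (2464, 6), (2469, 6),
    (2474, 6), (2479, 6), (2485, 6), (2489, 6), (2490, 6), (2508, 6), (2524, 6), (2532, 6), (2541, 6), (2545, 6),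
    (2548, 6), (2554, 6), (2557, 6), (2562, 6), (2565, 6), (2572, 6), (2583, 6), (2584, 6), (2591, 6), (2599, 6),
    (2600, 6), (2603, 6), (2606, 6), (2610, 6), (2624, 6), (2630, 6), (2633, 6), (2634, 6), (2636, 6), (2637, 6),
    (2647, 6), (2650, 6), (2651, 6), (2662, 6), (2666, 6), (2667, 6), (2673, 6), (2685, 6), (2691, 6), (2696, 6),
    (2697, 6), (2700, 6), (2703, 6), (2706, 6), (2709, 6), (2725, 6), (2728, 6), (2733, 6), (2737, 6), (2739, 6),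
    (2746, 6), (2750, 6), (2751, 6), (2757, 6), (2759, 6), (2762, 6), (2763, 6), (2766, 6), (2774, 6), (2782, 6),
    (2789, 6), (2790, 6), (2791, 6), (2792, 6), (2796, 6), (2797, 6), (2798, 6), (2801, 6), (2809, 6), (2820, 6),
    (2824, 6), (2827, 6), (2832, 6), (2840, 6), (2849, 6), (2853, 6), (2854, 6), (2857, 6), (2858, 6), (2868, 6),
    (2871, 6), (2872, 6), (2875, 6), (2884, 6), (2886, 6), (2890, 6), (2892, 6), (2894, 6), (2895, 6), (2897, 6),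
    (2901, 6), (2903, 6), (2905, 6), (2908, 6), (2911, 6), (2918, 6), (2931, 6), (2932, 6), (2933, 6), (2941, 6),
    (2942, 6), (2971, 6), (2979, 6), (2982, 6), (2983, 6), (2988, 6), (2991, 6), (2996, 6), (2999, 6), (3003, 6),
    (3014, 6), (3023, 6), (3027, 6), (3029, 6), (3030, 6), (3032, 6), (3034, 6), (3036, 6), (3039, 6), (3041, 6),
    (3043, 6), (3048, 6), (3052, 6), (3056, 6), (3057, 6), (3058, 6), (3062, 6), (3067, 6), (3070, 6), (3072, 6),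
    (3079, 6), (3092, 6), (3095, 6), (3098, 6), (3107, 6), (3109, 6), (3118, 6), (3121, 6), (3122, 6), (3123, 6),
    (3129, 6), (3131, 6), (3132, 6), (3134, 6), (3139, 6), (3141, 6), (3149, 6), (3153, 6), (3156, 6), (3157, 6),
    (3159, 6), (3163, 6), (3176, 6), (3179, 6), (3191, 6), (3202, 6), (3204, 6), (3205, 6), (3206, 6), (3207, 6),
    (3208, 6), (3209, 6), (3216, 6), (3218, 6), (3227, 6), (3239, 6), (3241, 6), (3243, 6), (3244, 6), (3245, 6),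
    (3248, 6), (3251, 6), (3261, 6), (3262, 6), (3273, 6), (3276, 6), (3282, 6), (3283, 6), (3286, 6), (3288, 6),
    (3289, 6), (3294, 6), (3298, 6), (3306, 6), (3308, 6), (3312, 6), (3316, 6), (3319, 6), (3325, 6), (3328, 6),
    (3329, 6), (3333, 6), (3354, 6), (3356, 6), (3370, 6), (3373, 6), (3374, 6), (3378, 6), (3381, 6), (3386, 6),
    (3393, 6), (3404, 6), (3411, 6), (3414, 6), (3419, 6), (3421, 6), (3422, 6), (3425, 6), (3426, 6), (3431, 6),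
    (3435, 6), (3437, 6), (3439, 6), (3440, 6), (3442, 6), (3453, 6), (3474, 6), (3477, 6), (3478, 6), (3483, 6),
    (3484, 6), (3489, 6), (3490, 6), (3498, 6), (3503, 6), (3506, 6)]

def pin0 : ℕ := 1

def sw1 : List (List ℕ) := [pcW pcg [0, 0, 1, 0, 0, 0, 0, 1], pcW pcg [0, 1, 0, 0, 0, 1, 1]]

def grw1 : List (ℕ × ℕ) := [(3, 0), (874, 0), (874, 1), (3, 1), (156, 1), (1285, 1), (2730, 1), (956, 1)]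

def pin1 : ℕ := 3

theorem table_ok : tableOK tbl = true := by decide +kernel

theorem tree_ok : chk tbl tree [] = true := by decide +kernel

theorem invs_ok : allBelow (fun k => sameWF (us.getD k [] ++ invs.getD k [])
    (invs.getD k [] ++ rep 2 (us.getD k []))) 4 = true := by decide +kernel

theorem grow0_ok : growOK sw0 pin0 grw0 2187 = true := by decide +kernel

theorem grow1_ok : growOK sw1 pin1 grw1 9 = true := by decide +kernel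

theorem sw1_fix : (sw1.all fun w => Nat.beq (actF w pin0) pin0) = true := by decide +kernel

end Cfsg.Agent.Fi22Local.ThreeFusion
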