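import Cfsg.Agent.Lib.Fi22Local.Triples

/-!
The centraliser order of a product of three commuting transpositions, and transport to isomorphic groups.
-/

set_option autoImplicit false
set_option maxRecDepth 100000

namespace Cfsg.Agent.Fi22Local.Triple

open Cfsg.Agent.CosetCert
open Cfsg.Agent.CosetData
open Cfsg.Agent.FischerPresented

theorem card_eq_image_mul {α : Type*} {S T : Subgroup GG} (f : GG → α) (hTS : T ≤ S)
    (hf : ∀ g ∈ S, ∀ h ∈ S, (f g = f h ↔ g⁻¹ * h ∈ T)) :
    Nat.card S = (f '' (S : Set GG)).ncard * Nat.card T := by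
  let T' := T.subgroupOf S
  let F : S ⧸ T' → f '' (S : Set GG) := fun q => Quotient.liftOn' q (fun g => ⟨f g, g, g.2, rfl⟩)
    fun a b hab => Subtype.ext ((hf a a.2 b b.2).2 (Subgroup.mem_subgroupOf.1 ((QuotientGroup.leftRel_apply (s := T')).1 hab)))
  have hF : Function.Bijective F := by
    constructor
    · intro a b
      induction a using QuotientGroup.induction_on with
      | _ a =>
        induction b using QuotientGroup.induction_on with
        | _ b =>
          intro h
          exact QuotientGroup.eq.2 ((hf a a.2 b b.2).1 (congrArg Subtype.val h))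
    · rintro ⟨_, g, hg, rfl⟩
      exact ⟨QuotientGroup.mk ⟨g, hg⟩, rfl⟩
  rw [Subgroup.card_eq_card_quotient_mul_card_subgroup T', Nat.card_eq_of_bijective F hF, Nat.card_coe_set_eq,
    Nat.card_congr (Subgroup.subgroupOfEquivOfLe hTS).toEquiv]

theorem image_eq_iff {g h : GG} {c : ℕ} : apt g c = apt h c ↔ apt (g⁻¹ * h) c = c := by
  rw [apt_mul]
  constructor
  · intro e; rw [← e, ← apt_mul, inv_mul_cancel, apt_one]
  · intro e
    have := congrArg (apt g) e
    rw [← apt_mul g g⁻¹, mul_inv_cancel, apt_one] at this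
    exact this.symm

theorem card_pfix_step {l : List ℕ} {c : ℕ} {P : ℕ → Bool} {N : ℕ}
    (hmaps : ∀ g ∈ pfix l, apt g c < 3510 ∧ P (apt g c) = true)
    (hsurj : ∀ p < 3510, P p = true → ∃ g ∈ pfix l, apt g c = p) (hN : Out22.countBelow P 3510 = N) :
    Nat.card (pfix l) = N * Nat.card (pfix (l ++ [c])) := by
  rw [card_eq_image_mul (S := pfix l) (T := pfix (l ++ [c])) (fun g => apt g c) (fun g hg d hd => hg d (List.mem_append_left _ hd))
    fun g hg h hh => ?_]
  · congr 1
    rw [← hN, Out22.countBelow_eq, ← Set.ncard_image_of_injective {p : Fin 3510 | P p = true} Fin.val_injective]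
    refine congrArg Set.ncard (Set.ext fun p => ?_)
    constructor
    · rintro ⟨g, hg, rfl⟩
      exact ⟨⟨_, (hmaps g hg).1⟩, (hmaps g hg).2, rfl⟩
    · rintro ⟨q, hq, rfl⟩
      exact hsurj q q.2 hq
  · rw [image_eq_iff]
    refine ⟨fun e d hd => ?_, fun e => e c (List.mem_append_right _ List.mem_cons_self)⟩
    rcases List.mem_append.1 hd with hd | hd
    · exact (pfix l).mul_mem ((pfix l).inv_mem hg) hh d hd
    · rw [List.mem_singleton.1 hd]; exact e

/-- The admissible images of the second base coset. -/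
noncomputable def in1 (p : ℕ) : Bool := !(Nat.beq p 0) && cm 0 p

/-- The admissible images of the third base coset. -/
noncomputable def in2 (p : ℕ) : Bool := !(Nat.beq p 0) && !(Nat.beq p 7) && (cm 0 p && cm 7 p)

theorem in_counts : Out22.countBelow (fun _ => true) 3510 = 3510 ∧ Out22.countBelow in1 3510 = 693 ∧
    Out22.countBelow in2 3510 = 180 := by decide +kernel

theorem card_stab3 : 3510 * (693 * (180 * Nat.card (pfix [0, 7, 50]))) = 64561751654400 := by
  obtain ⟨h0, h1, h2⟩ := in_counts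
  have htop : pfix [] = ⊤ := eq_top_iff.2 fun g _ => fun c hc => absurd hc List.not_mem_nil
  have e0 := card_pfix_step (l := []) (c := 0) (P := fun _ => true)
    (fun g _ => ⟨apt_lt _ (by norm_num), rfl⟩)
    (fun p hp _ => by obtain ⟨g, hg⟩ := exists_base hp; exact ⟨g, htop ▸ Subgroup.mem_top g, hg⟩) h0
  obtain ⟨c07, c050, c750, -⟩ := base_commute
  have e1 := card_pfix_step (l := [0]) (c := 7) (P := in1)
    (fun g hg => ⟨apt_lt _ (by norm_num), by
      have g0 := hg 0 List.mem_cons_self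
      have := tapp_move (g := g) (show 0 < 3510 by norm_num) (show 7 < 3510 by norm_num) c07
      rw [g0] at this
      simp only [in1, cm, Bool.and_eq_true, Bool.not_eq_true', Nat.beq_eq]
      refine ⟨?_, this⟩
      rw [Bool.eq_false_iff, Ne, Nat.beq_eq]
      exact fun h => absurd (apt_injective g (h.trans g0.symm)) (by norm_num)⟩)
    (fun p hp hP => by
      simp only [in1, cm, Bool.and_eq_true, Bool.not_eq_true', Nat.beq_eq, Bool.eq_false_iff, ne_eq] at hP
      obtain ⟨g, a, b⟩ := pair_normal hp hP.1 hP.2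
      exact ⟨g, fun c hc => by rw [List.mem_singleton.1 hc]; exact a, b⟩) h1
  have e2 := card_pfix_step (l := [0, 7]) (c := 50) (P := in2)
    (fun g hg => ⟨apt_lt _ (by norm_num), by
      have g0 := hg 0 (by simp)
      have g7 := hg 7 (by simp)
      have k0 := tapp_move (g := g) (show 0 < 3510 by norm_num) (show 50 < 3510 by norm_num) c050
      have k7 := tapp_move (g := g) (show 7 < 3510 by norm_num) (show 50 < 3510 by norm_num) c750
      rw [g0] at k0
      rw [g7] at k7
      simp only [in2, cm, Bool.and_eq_true, Bool.not_eq_true', Nat.beq_eq]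
      refine ⟨⟨?_, ?_⟩, k0, k7⟩
      · rw [Bool.eq_false_iff, Ne, Nat.beq_eq]
        exact fun h => absurd (apt_injective g (h.trans g0.symm)) (by norm_num)
      · rw [Bool.eq_false_iff, Ne, Nat.beq_eq]
        exact fun h => absurd (apt_injective g (h.trans g7.symm)) (by norm_num)⟩)
    (fun p hp hP => by
      simp only [in2, cm, Bool.and_eq_true, Bool.not_eq_true', Nat.beq_eq, Bool.eq_false_iff, ne_eq] at hP
      obtain ⟨⟨n0, n7⟩, k0, k7⟩ := hP
      obtain ⟨g, a, b, c⟩ := exists_triple (show 0 < 3510 by norm_num) (show 7 < 3510 by norm_num) hp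
        (by norm_num) (Ne.symm n0) (Ne.symm n7) c07 k0 k7
      exact ⟨g, fun d hd => by
        rcases List.mem_cons.1 hd with rfl | hd
        · exact a
        · rw [List.mem_singleton.1 hd]; exact b, c⟩) h2
  rw [← Fi22.order_facts.2.1]
  calc 3510 * (693 * (180 * Nat.card (pfix [0, 7, 50]))) = Nat.card (pfix []) := by
        rw [e0, List.nil_append, e1]
        show _ = 3510 * (693 * Nat.card (pfix [0, 7]))
        rw [e2]
        rfl
    _ = Nat.card GG := by rw [htop]; exact Subgroup.card_top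

/-- The twelve orderings of the two triples. -/
def orderings : List (ℕ × ℕ × ℕ) :=
  [(0, 7, 50), (0, 50, 7), (7, 0, 50), (7, 50, 0), (50, 0, 7), (50, 7, 0), (172, 2124, 2250), (172, 2250, 2124),
    (2124, 172, 2250), (2124, 2250, 172), (2250, 172, 2124), (2250, 2124, 172)]

theorem orderings_ok : (orderings.all fun o =>
    Nat.blt o.1 3510 && Nat.blt o.2.1 3510 && Nat.blt o.2.2 3510 &&
    (cm o.1 o.2.1 && cm o.1 o.2.2 && cm o.2.1 o.2.2) &&
    (!(Nat.beq o.1 o.2.1) && !(Nat.beq o.1 o.2.2) && !(Nat.beq o.2.1 o.2.2)) &&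
    sameW (wd [o.1, o.2.1, o.2.2]) (wd [0, 7, 50])) = true := by decide +kernel

theorem card_centralizer_base :
    Nat.card (Subgroup.centralizer ({trN 0 * trN 7 * trN 50} : Set GG)) = 2 ^ 16 * 3 ^ 3 := by
  obtain ⟨c07, c050, c750, -⟩ := base_commute
  have memC : ∀ g : GG, g ∈ Subgroup.centralizer ({trN 0 * trN 7 * trN 50} : Set GG) ↔
      trN (apt g 0) * trN (apt g 7) * trN (apt g 50) = trN 0 * trN 7 * trN 50 := fun g => by
    rw [trN_apt g (by norm_num), trN_apt g (by norm_num), trN_apt g (by norm_num),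
      show g * trN 0 * g⁻¹ * (g * trN 7 * g⁻¹) * (g * trN 50 * g⁻¹) = g * (trN 0 * trN 7 * trN 50) * g⁻¹ by group,
      Subgroup.mem_centralizer_singleton_iff, mul_inv_eq_iff_eq_mul]
  rw [card_eq_image_mul (T := pfix [0, 7, 50]) (fun g => (apt g 0, apt g 7, apt g 50)) ?_ ?_]
  · have him : (fun g => (apt g 0, apt g 7, apt g 50)) ''
        (Subgroup.centralizer ({trN 0 * trN 7 * trN 50} : Set GG) : Set GG) = (orderings.toFinset : Set (ℕ × ℕ × ℕ)) := by
      ext ⟨a, b, c⟩
      simp only [Set.mem_image, SetLike.mem_coe, List.coe_toFinset, Set.mem_setOf_eq, Prod.mk.injEq]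
      constructor
      · rintro ⟨g, hg, rfl, rfl, rfl⟩
        have n1 : apt g 0 ≠ apt g 7 := fun h => absurd (apt_injective g h) (by norm_num)
        have n2 : apt g 0 ≠ apt g 50 := fun h => absurd (apt_injective g h) (by norm_num)
        have n3 : apt g 7 ≠ apt g 50 := fun h => absurd (apt_injective g h) (by norm_num)
        have h := triple_base (apt_lt g (by norm_num)) (apt_lt g (by norm_num)) (apt_lt g (by norm_num)) n1 n2 n3
          (tapp_move (by norm_num) (by norm_num) c07) (tapp_move (by norm_num) (by norm_num) c050)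
          (tapp_move (by norm_num) (by norm_num) c750) ((memC g).1 hg)
        generalize apt g 0 = a, apt g 7 = b, apt g 50 = c at n1 n2 n3 h ⊢
        rcases h with h | h <;>
        · have ha : a ∈ ({a, b, c} : Set ℕ) := Or.inl rfl
          have hb : b ∈ ({a, b, c} : Set ℕ) := Or.inr (Or.inl rfl)
          have hc : c ∈ ({a, b, c} : Set ℕ) := Or.inr (Or.inr rfl)
          rw [h] at ha hb hc
          simp only [Set.mem_insert_iff, Set.mem_singleton_iff] at ha hb hc
          rcases ha with rfl | rfl | rfl <;> rcases hb with rfl | rfl | rfl <;> rcases hc with rfl | rfl | rfl <;>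
            simp_all [orderings]
      · intro hm
        have hok := List.all_eq_true.1 orderings_ok _ hm
        simp only [cm, Bool.and_eq_true, Bool.not_eq_true', Nat.beq_eq, Nat.blt_eq, Bool.eq_false_iff, ne_eq] at hok
        obtain ⟨⟨⟨⟨⟨ha, hb⟩, hc⟩, ⟨k1, k2⟩, k3⟩, ⟨n1, n2⟩, n3⟩, hw⟩ := hok
        obtain ⟨g, rfl, rfl, rfl⟩ := exists_triple ha hb hc n1 n2 n3 k1 k2 k3
        refine ⟨g, (memC g).2 ?_, rfl, rfl, rfl⟩
        rw [← el_triple, ← el_eq hw, wd]
        simp only [List.flatMap_cons, List.flatMap_nil, List.append_nil, el_append]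
        show _ = trN (apt g 50) * trN (apt g 7) * trN (apt g 0)
        rw [← ((commute_iff hb hc).2 k3).eq, mul_assoc (trN (apt g 7)), ← ((commute_iff ha hc).2 k2).eq,
          ← mul_assoc, ← ((commute_iff ha hb).2 k1).eq]
    rw [him, Set.ncard_coe_finset]
    have := card_stab3
    rw [show orderings.toFinset.card = 12 by decide]
    omega
  · intro g hg
    rw [memC, hg 0 (by simp), hg 7 (by simp), hg 50 (by simp)]
  · intro g _ h _
    simp only [Prod.mk.injEq, image_eq_iff]
    refine ⟨fun e d hd => ?_, fun e => ⟨e 0 (by simp), e 7 (by simp), e 50 (by simp)⟩⟩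
    simp only [List.mem_cons, List.not_mem_nil, or_false] at hd
    rcases hd with rfl | rfl | rfl
    · exact e.1
    · exact e.2.1
    · exact e.2.2

section

variable {G : Type*} [Group G] {e : GG ≃* G} {D : Set G}

theorem exists_num (he : e '' Fi22Class.D = D) {d : G} (hd : d ∈ D) : ∃ p, p < 3510 ∧ e (trN p) = d := by
  rw [← he] at hd
  obtain ⟨c, hc, rfl⟩ := hd
  obtain ⟨p, hp, rfl⟩ := exists_trN hc
  exact ⟨p, hp, rfl⟩

theorem num_commute {p q : ℕ} (hp : p < 3510) (hq : q < 3510) (h : Commute (e (trN p)) (e (trN q))) :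
    tapp p q = q :=
  (commute_iff hp hq).1 (e.injective (by rw [map_mul, map_mul]; exact h.eq))

theorem pair_statement (he : e '' Fi22Class.D = D) : ∀ (j : G) (l l' : List G),
    (l.Nodup ∧ l.length = 2 ∧ (∀ a ∈ l, a ∈ D) ∧ (∀ a ∈ l, ∀ b ∈ l, Commute a b) ∧ l.prod = j) →
    (l'.Nodup ∧ l'.length = 2 ∧ (∀ a ∈ l', a ∈ D) ∧ (∀ a ∈ l', ∀ b ∈ l', Commute a b) ∧ l'.prod = j) →
    (∀ x : G, x ∈ l ↔ x ∈ l') := by
  rintro j l l' ⟨hn, hl, hD, hc, hp⟩ ⟨hn', hl', hD', hc', hp'⟩
  obtain ⟨a, b, rfl⟩ := List.length_eq_two.1 hl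
  obtain ⟨c, d, rfl⟩ := List.length_eq_two.1 hl'
  obtain ⟨pa, la, rfl⟩ := exists_num he (hD a (by simp))
  obtain ⟨pb, lb, rfl⟩ := exists_num he (hD b (by simp))
  obtain ⟨pc, lc, rfl⟩ := exists_num he (hD' c (by simp))
  obtain ⟨pd, ld, rfl⟩ := exists_num he (hD' d (by simp))
  simp only [List.nodup_cons, List.mem_singleton, List.not_mem_nil, not_false_iff, List.nodup_nil, and_true] at hn hn'
  simp only [List.prod_cons, List.prod_nil, mul_one, ← map_mul] at hp hp'
  have hres := pair_unique la lb lc ld (fun h => hn (by rw [h])) (fun h => hn' (by rw [h]))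
    (num_commute la lb (hc (e (trN pa)) (by simp) (e (trN pb)) (by simp)))
    (num_commute lc ld (hc' (e (trN pc)) (by simp) (e (trN pd)) (by simp)))
    (e.injective (hp'.trans hp.symm))
  intro x
  rcases hres with ⟨rfl, rfl⟩ | ⟨rfl, rfl⟩ <;> simp [or_comm]
  

theorem triple_normal (he : e '' Fi22Class.D = D) {a b c : G} (ha : a ∈ D) (hb : b ∈ D) (hc : c ∈ D)
    (hab : a ≠ b) (hac : a ≠ c) (hbc : b ≠ c) (cab : Commute a b) (cac : Commute a c) (cbc : Commute b c) :
    ∃ g : GG, apt g 0 < 3510 ∧ e (trN (apt g 0)) = a ∧ e (trN (apt g 7)) = b ∧ e (trN (apt g 50)) = c := by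
  obtain ⟨p, lp, rfl⟩ := exists_num he ha
  obtain ⟨q, lq, rfl⟩ := exists_num he hb
  obtain ⟨r, lr, rfl⟩ := exists_num he hc
  obtain ⟨g, rfl, rfl, rfl⟩ := exists_triple lp lq lr (fun h => hab (by rw [h])) (fun h => hac (by rw [h]))
    (fun h => hbc (by rw [h])) (num_commute lp lq cab) (num_commute lp lr cac) (num_commute lq lr cbc)
  exact ⟨g, lp, rfl, rfl, rfl⟩

theorem triple_statement (he : e '' Fi22Class.D = D) : ∀ (j : G) (l₀ : List G),
    (l₀.Nodup ∧ l₀.length = 3 ∧ (∀ a ∈ l₀, a ∈ D) ∧ (∀ a ∈ l₀, ∀ b ∈ l₀, Commute a b) ∧ l₀.prod = j) →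
    ∃ l₁ l₂ : List G,
      (l₁.Nodup ∧ l₁.length = 3 ∧ (∀ a ∈ l₁, a ∈ D) ∧ (∀ a ∈ l₁, ∀ b ∈ l₁, Commute a b) ∧ l₁.prod = j) ∧
      (l₂.Nodup ∧ l₂.length = 3 ∧ (∀ a ∈ l₂, a ∈ D) ∧ (∀ a ∈ l₂, ∀ b ∈ l₂, Commute a b) ∧ l₂.prod = j) ∧
      ¬ (∀ x : G, x ∈ l₁ ↔ x ∈ l₂) ∧
      ∀ l : List G, (l.Nodup ∧ l.length = 3 ∧ (∀ a ∈ l, a ∈ D) ∧ (∀ a ∈ l, ∀ b ∈ l, Commute a b) ∧ l.prod = j) →
        ((∀ x : G, x ∈ l ↔ x ∈ l₁) ∨ (∀ x : G, x ∈ l ↔ x ∈ l₂)) := by
  rintro j l₀ ⟨hn, hl, hD, hcm, hp⟩
  obtain ⟨a, b, c, rfl⟩ := List.length_eq_three.1 hl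
  simp only [List.nodup_cons, List.mem_cons, List.not_mem_nil, or_false, not_or, List.nodup_nil, and_true,
    not_false_iff] at hn
  obtain ⟨g, -, ea, eb, ec⟩ := triple_normal he (hD a (by simp)) (hD b (by simp)) (hD c (by simp)) hn.1.1 hn.1.2 hn.2
    (hcm _ (by simp) _ (by simp)) (hcm _ (by simp) _ (by simp)) (hcm _ (by simp) _ (by simp))
  set f : ℕ → G := fun p => e (trN (apt g p)) with hf
  have fmem : ∀ p < 3510, f p ∈ D := fun p hp => he ▸ Set.mem_image_of_mem e (trN_mem (apt_lt g hp))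
  have finj : ∀ {p q}, p < 3510 → q < 3510 → f p = f q → p = q := fun {p q} hp hq h =>
    apt_injective g (trN_inj (apt_lt g hp) (apt_lt g hq) (e.injective h))
  have fcomm : ∀ {p q}, p < 3510 → q < 3510 → tapp p q = q → Commute (f p) (f q) := fun {p q} hp hq h =>
    ((commute_iff (apt_lt g hp) (apt_lt g hq)).2 (tapp_move hp hq h)).map e
  have fprod : ∀ {p q r}, p < 3510 → q < 3510 → r < 3510 →
      f p * f q * f r = e (g * (trN p * trN q * trN r) * g⁻¹) := fun {p q r} hp hq hr => by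
    simp only [hf]
    rw [← map_mul, ← map_mul, trN_apt g hp, trN_apt g hq, trN_apt g hr]
    congr 1
    group
  obtain ⟨k1, k2, k3, k4, k5, k6⟩ := base_commute
  have hj : j = e (g * (trN 0 * trN 7 * trN 50) * g⁻¹) := by
    rw [← hp, ← fprod (by norm_num) (by norm_num) (by norm_num)]
    simp only [hf, ea, eb, ec, List.prod_cons, List.prod_nil, mul_one, mul_assoc]
  have mk : ∀ {p q r}, p < 3510 → q < 3510 → r < 3510 → p ≠ q → p ≠ r → q ≠ r → tapp p q = q → tapp p r = r →
      tapp q r = r → trN p * trN q * trN r = trN 0 * trN 7 * trN 50 →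
      ([f p, f q, f r].Nodup ∧ [f p, f q, f r].length = 3 ∧ (∀ x ∈ [f p, f q, f r], x ∈ D) ∧
        (∀ x ∈ [f p, f q, f r], ∀ y ∈ [f p, f q, f r], Commute x y) ∧ [f p, f q, f r].prod = j) := by
    intro p q r hp hq hr npq npr nqr cpq cpr cqr hprod
    refine ⟨?_, rfl, ?_, ?_, ?_⟩
    · simp only [List.nodup_cons, List.mem_cons, List.not_mem_nil, or_false, not_or, List.nodup_nil, and_true,
        not_false_iff]
      exact ⟨⟨fun h => npq (finj hp hq h), fun h => npr (finj hp hr h)⟩, fun h => nqr (finj hq hr h)⟩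
    · simp only [List.mem_cons, List.not_mem_nil, or_false]
      rintro x (rfl | rfl | rfl)
      exacts [fmem p hp, fmem q hq, fmem r hr]
    · simp only [List.mem_cons, List.not_mem_nil, or_false]
      rintro x (rfl | rfl | rfl) y (rfl | rfl | rfl)
      exacts [Commute.refl _, fcomm hp hq cpq, fcomm hp hr cpr, (fcomm hp hq cpq).symm, Commute.refl _,
        fcomm hq hr cqr, (fcomm hp hr cpr).symm, (fcomm hq hr cqr).symm, Commute.refl _]
    · rw [hj, ← hprod, ← fprod hp hq hr]
      simp [mul_assoc]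
  refine ⟨[f 0, f 7, f 50], [f 172, f 2124, f 2250],
    mk (by norm_num) (by norm_num) (by norm_num) (by norm_num) (by norm_num) (by norm_num) k1 k2 k3 rfl,
    mk (by norm_num) (by norm_num) (by norm_num) (by norm_num) (by norm_num) (by norm_num) k4 k5 k6 other_prod,
    fun h => ?_, ?_⟩
  · have := (h (f 0)).1 (by simp)
    simp only [List.mem_cons, List.not_mem_nil, or_false] at this
    rcases this with h | h | h <;> exact absurd (finj (by norm_num) (by norm_num) h) (by norm_num)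
  rintro l ⟨hn', hl', hD', hcm', hp'⟩
  obtain ⟨a', b', c', rfl⟩ := List.length_eq_three.1 hl'
  simp only [List.nodup_cons, List.mem_cons, List.not_mem_nil, or_false, not_or, List.nodup_nil, and_true,
    not_false_iff] at hn'
  have back : ∀ x ∈ [a', b', c'], ∃ p, p < 3510 ∧ f p = x := fun x hx => by
    obtain ⟨p, hp, rfl⟩ := exists_num he (hD' x hx)
    exact ⟨apt g⁻¹ p, apt_lt _ hp, by rw [hf]; simp only; rw [← apt_mul, mul_inv_cancel, apt_one]⟩
  obtain ⟨p, hp1, rfl⟩ := back a' (by simp)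
  obtain ⟨q, hq1, rfl⟩ := back b' (by simp)
  obtain ⟨r, hr1, rfl⟩ := back c' (by simp)
  have uncomm : ∀ {u v}, u < 3510 → v < 3510 → Commute (f u) (f v) → tapp u v = v := fun {u v} hu hv h => by
    have := num_commute (apt_lt g hu) (apt_lt g hv) h
    rw [← apt_tapp g hu hv] at this
    exact apt_injective g this
  have hres := triple_base hp1 hq1 hr1 (fun h => hn'.1.1 (by rw [h])) (fun h => hn'.1.2 (by rw [h]))
    (fun h => hn'.2 (by rw [h])) (uncomm hp1 hq1 (hcm' _ (by simp) _ (by simp)))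
    (uncomm hp1 hr1 (hcm' _ (by simp) _ (by simp))) (uncomm hq1 hr1 (hcm' _ (by simp) _ (by simp))) (by
      have h := e.injective (((fprod hp1 hq1 hr1).symm.trans (by simpa [mul_assoc] using hp')).trans hj)
      exact mul_left_cancel (mul_right_cancel h))
  have conv : ∀ {u v w : ℕ}, ({p, q, r} : Set ℕ) = {u, v, w} → ∀ x, x ∈ [f p, f q, f r] ↔ x ∈ [f u, f v, f w] := by
    intro u v w h x
    have := congrArg (fun S => x ∈ f '' S) h
    simpa [Set.image_insert_eq, Set.image_singleton] using iff_of_eq this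
  exact hres.imp (fun h => conv h) (fun h => conv h)

theorem centralizer_statement (he : e '' Fi22Class.D = D) {d₁ d₂ d₃ : G} (h₁ : d₁ ∈ D) (h₂ : d₂ ∈ D) (h₃ : d₃ ∈ D)
    (h12 : d₁ ≠ d₂) (h13 : d₁ ≠ d₃) (h23 : d₂ ≠ d₃) (c12 : Commute d₁ d₂) (c13 : Commute d₁ d₃)
    (c23 : Commute d₂ d₃) :
    Nat.card ↥(Subgroup.centralizer ({d₁ * d₂ * d₃} : Set G)) = 2 ^ 16 * 3 ^ 3 := by
  obtain ⟨g, -, rfl, rfl, rfl⟩ := triple_normal he h₁ h₂ h₃ h12 h13 h23 c12 c13 c23
  let φ : GG ≃* G := (MulAut.conj g).trans e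
  have himg : φ (trN 0 * trN 7 * trN 50) = e (trN (apt g 0)) * e (trN (apt g 7)) * e (trN (apt g 50)) := by
    rw [trN_apt g (by norm_num), trN_apt g (by norm_num), trN_apt g (by norm_num), ← map_mul, ← map_mul]
    show e (g * _ * g⁻¹) = _
    congr 1
    group
  rw [← card_centralizer_base, ← himg]
  refine (Nat.card_congr ?_).symm
  refine φ.toEquiv.subtypeEquiv fun a => ?_
  rw [Subgroup.mem_centralizer_singleton_iff, Subgroup.mem_centralizer_singleton_iff]
  show _ ↔ φ a * φ _ = φ _ * φ a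
  rw [← map_mul, ← map_mul, φ.apply_eq_iff_eq]

end

end Cfsg.Agent.Fi22Local.Triple
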