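import Cfsg.Agent.Lib.Fi22Local.ThreeWidthData
import Cfsg.Agent.Lib.Fi22Local.ThreeClass
import Cfsg.Agent.Lib.Fi22Local.Transport
import Cfsg.Prelude.Def_FischerSpaces

/-!
The transpositions commuting with an element of order three of the presented Fi22: the largest numbers of
pairwise commuting ones are 6, 4, 3, 0.
-/

set_option autoImplicit false
set_option maxRecDepth 100000

namespace Cfsg.Agent.Fi22Local.ThreeWidth

open Cfsg.Agent.CosetCert
open Cfsg.Agent.FischerPresented

/-- No list of `k` pairwise adjacent indices inside a list of candidates. -/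
def noClique (R : List ℕ) : ℕ → List ℕ → Bool
  | 0, _ => false
  | k + 1, l => l.rec true fun a t ih => noClique R k (t.filter fun b => bit (R.getD a 0) b) && ih

theorem noClique_sound (R : List ℕ) : ∀ (k : ℕ) (l : List ℕ), noClique R k l = true →
    ∀ s : List ℕ, s.Sublist l → s.Pairwise (fun a b => bit (R.getD a 0) b = true) → s.length < k
  | 0, l, h => by simp [noClique] at h
  | k + 1, [], _ => fun s hs _ => by rw [List.sublist_nil.1 hs]; simp
  | k + 1, a :: t, h => fun s hs hp => by
    have h' : noClique R k (t.filter fun b => bit (R.getD a 0) b) = true ∧ noClique R (k + 1) t = true := by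
      simpa [noClique] using h
    rcases List.sublist_cons_iff.1 hs with hs | ⟨r, rfl, hr⟩
    · exact noClique_sound R (k + 1) t h'.2 s hs hp
    · rw [List.pairwise_cons] at hp
      have hr' : r.Sublist (t.filter fun b => bit (R.getD a 0) b) := by
        have := hr.filter fun b => bit (R.getD a 0) b
        rwa [List.filter_eq_self.2 hp.1] at this
      exact Nat.succ_lt_succ (noClique_sound R k _ h'.1 r hr' hp.2)

/-- Fixed points and commuting graph of a word. -/
noncomputable def graphOK (w F R : List ℕ) : Bool :=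
  wok w && (allBelow (fun p => Nat.beq (actF w p) p == F.any fun q => Nat.beq p q) 3510 &&
    ((F.all fun p => Nat.blt p 3510) && (allBelow (fun i => allBelow (fun j => Nat.beq i j ||
      (!(Nat.beq (F.getD i 0) (F.getD j 0)) &&
        (bit (R.getD i 0) j == Nat.beq (tappF (F.getD i 0) (F.getD j 0)) (F.getD j 0)))) F.length) F.length)))

/-- The width checks. -/
noncomputable def widthOK (w F R c : List ℕ) (k : ℕ) : Bool :=
  graphOK w F R && (noClique R (k + 1) (List.range F.length) && (Nat.beq c.length k &&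
    ((c.all fun i => Nat.blt i F.length) && allBelow (fun a => allBelow (fun b => Nat.beq a b ||
      (!(Nat.beq (c.getD a 0) (c.getD b 0)) && bit (R.getD (c.getD a 0) 0) (c.getD b 0))) k) k)))

theorem width_eq {w F R c : List ℕ} {k : ℕ} (h : widthOK w F R c k = true) :
    Cfsg.commutingWidth (Fi22Class.D ∩ (Subgroup.centralizer ({el w} : Set GG) : Set GG)) = k := by
  classical
  haveI := Fi22.order_facts.1
  simp only [widthOK, graphOK, Bool.and_eq_true, List.all_eq_true, Nat.blt_eq, Nat.beq_eq] at h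
  obtain ⟨⟨hw, hfix, hF, hgr⟩, hno, hlen, hc, hcl⟩ := h
  have hFi : ∀ i < F.length, F.getD i 0 < 3510 := fun i hi => by
    rw [List.getD_eq_getElem _ _ hi]; exact hF _ (List.getElem_mem hi)
  have hg : ∀ i < F.length, ∀ j < F.length, i ≠ j → F.getD i 0 ≠ F.getD j 0 ∧
      (bit (R.getD i 0) j = true ↔ Commute (trN (F.getD i 0)) (trN (F.getD j 0))) := by
    intro i hi j hj hne
    have := allBelow_spec (allBelow_spec hgr hi) hj
    simp only [Bool.or_eq_true, Nat.beq_eq, hne, false_or, Bool.and_eq_true, Bool.not_eq_true', beq_iff_eq] at this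
    refine ⟨fun e => ?_, ?_⟩
    · rw [e, Nat.beq_refl] at this; exact Bool.noConfusion this.1
    · rw [this.2, Nat.beq_eq, (tappF_eq (hFi i hi) (hFi j hj)).1, ← apt_trN (hFi i hi) (hFi j hj)]
      exact apt_fix_iff _ (hFi j hj)
  have hinj : ∀ i < F.length, ∀ j < F.length, trN (F.getD i 0) = trN (F.getD j 0) → i = j := fun i hi j hj e => by
    by_contra hne
    exact (hg i hi j hj hne).1 (trN_inj (hFi i hi) (hFi j hj) e)
  have hmem : ∀ d : GG, d ∈ Fi22Class.D ∩ (Subgroup.centralizer ({el w} : Set GG) : Set GG) ↔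
      ∃ i < F.length, trN (F.getD i 0) = d := by
    intro d
    constructor
    · rintro ⟨hd, hdc⟩
      obtain ⟨p, hp, rfl⟩ := exists_trN hd
      have hp' := allBelow_spec hfix hp
      have hact : Nat.beq (actF w p) p = true := by
        rw [Nat.beq_eq, (actF_eq hw hp).1, ← apt_el hw hp, apt_fix_iff _ hp]
        exact (Subgroup.mem_centralizer_singleton_iff.1 hdc).symm
      simp only [hact, beq_iff_eq] at hp'
      obtain ⟨q, hq, e⟩ := List.any_eq_true.1 hp'.symm
      rw [Nat.eq_of_beq_eq_true e]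
      obtain ⟨i, hi, rfl⟩ := List.getElem_of_mem hq
      exact ⟨i, hi, by rw [List.getD_eq_getElem _ _ hi]⟩
    · rintro ⟨i, hi, rfl⟩
      refine ⟨trN_mem (hFi i hi), Subgroup.mem_centralizer_singleton_iff.2 ?_⟩
      have hact : Commute (el w) (trN (F.getD i 0)) := by
        rw [← apt_fix_iff _ (hFi i hi), apt_el hw (hFi i hi), ← (actF_eq hw (hFi i hi)).1]
        have := allBelow_spec hfix (hFi i hi)
        simp only [beq_iff_eq] at this
        refine Nat.eq_of_beq_eq_true (this.trans (List.any_eq_true.2 ⟨_, ?_, Nat.beq_refl _⟩))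
        rw [List.getD_eq_getElem _ _ hi]; exact List.getElem_mem hi
      exact hact.eq.symm
  have hbd : ∀ n ∈ {n : ℕ | ∃ E : Set GG, E ⊆ Fi22Class.D ∩ (Subgroup.centralizer ({el w} : Set GG) : Set GG) ∧
      E.Finite ∧ (∀ a ∈ E, ∀ b ∈ E, Commute a b) ∧ E.ncard = n}, n ≤ k := by
    rintro n ⟨E, hE, -, hcm, rfl⟩
    set s := (List.range F.length).filter fun i => decide (trN (F.getD i 0) ∈ E) with hs
    have hsub : s.Sublist (List.range F.length) := List.filter_sublist
    have hs' : ∀ i ∈ s, i < F.length ∧ trN (F.getD i 0) ∈ E := fun i hi => by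
      simpa [hs] using hi
    have hnd : s.Nodup := hsub.nodup List.nodup_range
    have hpw : s.Pairwise (fun a b => bit (R.getD a 0) b = true) :=
      hnd.pairwise_of_forall_ne fun a ha b hb hne =>
        (hg a (hs' a ha).1 b (hs' b hb).1 hne).2.2 (hcm _ (hs' a ha).2 _ (hs' b hb).2)
    have hlt := noClique_sound R _ _ hno s hsub hpw
    have : E ⊆ (fun i => trN (F.getD i 0)) '' ↑s.toFinset := fun d hd => by
      obtain ⟨i, hi, rfl⟩ := (hmem d).1 (hE hd)
      refine ⟨i, List.mem_toFinset.2 (List.mem_filter.2 ⟨List.mem_range.2 hi, ?_⟩), rfl⟩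
      exact decide_eq_true hd
    calc E.ncard ≤ ((fun i => trN (F.getD i 0)) '' ↑s.toFinset).ncard := Set.ncard_le_ncard this (Set.toFinite _)
      _ ≤ (↑s.toFinset : Set ℕ).ncard := Set.ncard_image_le (Finset.finite_toSet _)
      _ = s.toFinset.card := Set.ncard_coe_finset _
      _ ≤ k := (List.toFinset_card_le _).trans (Nat.lt_succ_iff.1 hlt)
  refine le_antisymm (csSup_le ⟨0, ∅, Set.empty_subset _, Set.finite_empty, fun _ h => absurd h
    (Set.notMem_empty _), Set.ncard_empty _⟩ hbd) (le_csSup ⟨k, hbd⟩ ?_)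
  have hca : ∀ a < k, c.getD a 0 < F.length := fun a ha => by
    rw [List.getD_eq_getElem _ _ (hlen ▸ ha)]; exact hc _ (List.getElem_mem _)
  have hcb : ∀ a < k, ∀ b < k, a ≠ b → c.getD a 0 ≠ c.getD b 0 ∧
      bit (R.getD (c.getD a 0) 0) (c.getD b 0) = true := fun a ha b hb hne => by
    have := allBelow_spec (allBelow_spec hcl ha) hb
    simp only [Bool.or_eq_true, Nat.beq_eq, hne, false_or, Bool.and_eq_true, Bool.not_eq_true'] at this
    exact ⟨fun e => by rw [e, Nat.beq_refl] at this; exact Bool.noConfusion this.1, this.2⟩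
  refine ⟨(fun a => trN (F.getD (c.getD a 0) 0)) '' Set.Iio k, ?_, Set.toFinite _, ?_, ?_⟩
  · rintro _ ⟨a, ha, rfl⟩
    exact (hmem _).2 ⟨_, hca a ha, rfl⟩
  · rintro _ ⟨a, ha, rfl⟩ _ ⟨b, hb, rfl⟩
    rcases eq_or_ne a b with rfl | hne
    · exact Commute.refl _
    · obtain ⟨h1, h2⟩ := hcb a ha b hb hne
      exact (hg _ (hca a ha) _ (hca b hb) h1).2.1 h2
  · rw [Set.InjOn.ncard_image fun a ha b hb e => ?_, ← Nat.card_coe_set_eq, Nat.card_eq_fintype_card,
      Fintype.card_Iio, Nat.Iio_eq_range, Finset.card_range]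
    by_contra hne
    exact (hcb a ha b hb hne).1 (hinj _ (hca a ha) _ (hca b hb) e)

/-- The widths. -/
def width : Fin 4 → ℕ := ![6, 4, 3, 0]

theorem width6_ok : widthOK Three.U6.xw fix6 row6 cli6 6 = true := by decide +kernel

theorem width4_ok : widthOK Three.U4.xw fix4 row4 cli4 4 = true := by decide +kernel

theorem width3_ok : widthOK Three.U3.xw fix3 row3 cli3 3 = true := by decide +kernel

theorem width0_ok : widthOK Three.U0.xw fix0 row0 cli0 0 = true := by decide +kernel

theorem width_u (i : Fin 4) : Cfsg.commutingWidth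
    (Fi22Class.D ∩ (Subgroup.centralizer ((Subgroup.zpowers (Three.u i) : Subgroup GG) : Set GG) : Set GG)) =
      width i := by
  rw [Three.centralizer_zpowers]
  fin_cases i
  · exact width_eq width6_ok
  · exact width_eq width4_ok
  · exact width_eq width3_ok
  · exact width_eq width0_ok

variable {G : Type*} [Group G]

theorem width_image (φ : GG ≃* G) {S : Set GG} :
    Cfsg.commutingWidth (φ '' S) = Cfsg.commutingWidth S := by
  refine congrArg sSup (Set.ext fun n => ⟨?_, ?_⟩)
  · rintro ⟨E, hE, hfin, hc, rfl⟩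
    refine ⟨φ.symm '' E, ?_, hfin.image _, ?_, Set.ncard_image_of_injective _ φ.symm.injective⟩
    · rintro _ ⟨d, hd, rfl⟩
      obtain ⟨s, hs, rfl⟩ := hE hd
      rwa [φ.symm_apply_apply]
    · rintro _ ⟨a, ha, rfl⟩ _ ⟨b, hb, rfl⟩
      exact (hc a ha b hb).map φ.symm
  · rintro ⟨E, hE, hfin, hc, rfl⟩
    refine ⟨φ '' E, Set.image_mono hE, hfin.image _, ?_, Set.ncard_image_of_injective _ φ.injective⟩
    rintro _ ⟨a, ha, rfl⟩ _ ⟨b, hb, rfl⟩
    exact (hc a ha b hb).map φ

theorem width_map {φ : GG ≃* G} {D : Set G} (hφ : φ '' Fi22Class.D = D) (X : Subgroup GG) :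
    Cfsg.commutingWidth (D ∩ (Subgroup.centralizer ((X.map φ.toMonoidHom : Subgroup G) : Set G) : Set G)) =
      Cfsg.commutingWidth (Fi22Class.D ∩ (Subgroup.centralizer ((X : Subgroup GG) : Set GG) : Set GG)) := by
  rw [← width_image φ, Set.image_inter φ.injective, hφ]
  congr 2
  rw [Subgroup.coe_map, show (φ.toMonoidHom : GG → G) = φ from rfl, ← map_centralizer_equiv, Subgroup.coe_map]
  rfl

/-- A subgroup of order three of a group of type M(22) is the image of a representative. -/
theorem exists_frame_three {e : GG ≃* G} {D : Set G} (he : e '' Fi22Class.D = D) {X : Subgroup G}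
    (hX : Nat.card X = 3) : ∃ (i : Fin 4) (φ : GG ≃* G), φ '' Fi22Class.D = D ∧
      (Subgroup.zpowers (Three.u i)).map φ.toMonoidHom = X ∧
      Cfsg.commutingWidth (D ∩ (Subgroup.centralizer ((X : Subgroup G) : Set G) : Set G)) = width i := by
  obtain ⟨i, g, hg⟩ := Three.classify_subgroup (X := X.map e.symm.toMonoidHom)
    (by rw [Subgroup.card_map_of_injective e.symm.injective, hX])
  refine ⟨i, (MulAut.conj g).trans e, ?_, ?_, ?_⟩
  · rw [MulEquiv.coe_trans, Set.image_comp, ← he]
    refine congrArg (Set.image e) (Set.ext fun d => ⟨?_, fun hd => ?_⟩)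
    · rintro ⟨c, hc, rfl⟩
      obtain ⟨k, rfl⟩ := Fi22Class.mem_D.1 hc
      exact Fi22Class.mem_D.2 ⟨g * k, by simp [mul_assoc]⟩
    · obtain ⟨k, rfl⟩ := Fi22Class.mem_D.1 hd
      exact ⟨g⁻¹ * k * Fi22Class.z * (g⁻¹ * k)⁻¹, Fi22Class.mem_D.2 ⟨_, rfl⟩, by simp [mul_assoc]⟩
  · rw [show ((MulAut.conj g).trans e).toMonoidHom = e.toMonoidHom.comp (MulAut.conj g).toMonoidHom from rfl,
      ← Subgroup.map_map, hg, Subgroup.map_map]
    convert Subgroup.map_id X
    ext a
    simp
  · have hX' : X = ((Subgroup.zpowers (Three.u i)).map (MulAut.conj g).toMonoidHom).map e.toMonoidHom := by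
      rw [hg, Subgroup.map_map]; symm; convert Subgroup.map_id X; ext; simp
    have hD' : (MulAut.conj g : GG ≃* GG) '' Fi22Class.D = Fi22Class.D := by
      refine Set.ext fun d => ⟨?_, fun hd => ?_⟩
      · rintro ⟨c, hc, rfl⟩
        obtain ⟨k, rfl⟩ := Fi22Class.mem_D.1 hc
        exact Fi22Class.mem_D.2 ⟨g * k, by simp [mul_assoc]⟩
      · obtain ⟨k, rfl⟩ := Fi22Class.mem_D.1 hd
        exact ⟨g⁻¹ * k * Fi22Class.z * (g⁻¹ * k)⁻¹, Fi22Class.mem_D.2 ⟨_, rfl⟩, by simp [mul_assoc]⟩
    rw [hX', width_map he, width_map hD', width_u]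

end Cfsg.Agent.Fi22Local.ThreeWidth
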