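import Cfsg.Agent.Lib.Fi22Local.Basic

/-! Orbit certificates for the stabilisers of a commuting pair and triple of transpositions. -/

set_option autoImplicit false

namespace Cfsg.Agent.Fi22Local.Triple

/-- Transpositions commuting with the pair. -/
def gensA : List ℕ := [50, 51, 52, 54, 56, 66, 137]

/-- Growth of the orbit of the third coset. -/
def growA : List (ℕ × ℕ) := [
    (50, 1), (50, 2), (50, 5), (134, 0), (134, 2), (134, 3), (134, 6), (136, 0), (136, 4), (136, 5),
    (136, 6), (135, 0), (135, 3), (135, 6), (51, 3), (51, 5), (51, 6), (53, 3), (53, 4), (53, 6),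
    (55, 5), (55, 6), (138, 2), (138, 5), (52, 4), (52, 6), (57, 5), (57, 6), (72, 3), (72, 6),
    (139, 1), (139, 5), (66, 3), (66, 6), (76, 6), (143, 2), (105, 1), (105, 6), (423, 1), (423, 2),
    (107, 4), (107, 5), (107, 6), (118, 6), (921, 1), (921, 2), (921, 5), (141, 1), (141, 2), (919, 4),
    (919, 5), (117, 2), (117, 6), (579, 5), (128, 3), (128, 6), (147, 5), (108, 6), (936, 1), (936, 2),
    (936, 5), (935, 3), (106, 6), (1012, 2), (1012, 5), (913, 0), (913, 4), (123, 5), (123, 6), (910, 0),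
    (910, 6), (1097, 1), (1097, 2), (1097, 5), (1056, 5), (425, 3), (580, 5), (1468, 0), (1468, 3), (1052, 5),
    (1467, 0), (1467, 6), (1016, 5), (917, 0), (917, 3), (133, 6), (1117, 1), (1117, 2), (1117, 5), (1035, 0),
    (1099, 1), (1469, 0), (1469, 2), (1469, 3), (1079, 0), (1079, 4), (1079, 5), (140, 4), (1226, 0), (1226, 6),
    (1095, 5), (173, 6), (1925, 1), (1925, 5), (2112, 0), (2112, 3), (1856, 0), (1856, 3), (1013, 5), (937, 3),
    (937, 6), (939, 3), (1484, 1), (1855, 0), (1855, 6), (428, 6), (448, 1), (1106, 0), (1106, 3), (144, 3),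
    (1118, 1), (1858, 0), (1858, 3), (1017, 1), (2121, 0), (2121, 3), (948, 3), (947, 3), (1485, 5), (1096, 5),
    (2106, 0), (2106, 6), (186, 2), (186, 6), (1493, 1), (1493, 2), (1493, 5), (2108, 0), (2108, 3), (2762, 1),
    (2762, 2), (2762, 5), (1516, 0), (1516, 3), (1146, 1), (1146, 2), (1057, 2), (1127, 6), (1494, 6), (1506, 6),
    (1068, 2), (1068, 6), (1363, 1), (1363, 2), (985, 2), (987, 3), (1119, 2), (1147, 2), (1508, 6), (2110, 6),
    (175, 6), (1528, 2), (2763, 5), (1526, 2), (2282, 5), (187, 2), (187, 6), (2227, 6), (2454, 6), (1815, 2),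
    (1786, 2), (2451, 6), (2156, 6), (1219, 2), (1237, 2), (2676, 6), (2670, 6), (2244, 5), (2128, 5)]

/-- Transpositions commuting with the triple. -/
def gensB : List ℕ := [53, 54, 56, 72, 137, 172, 174]

/-- Growth of the orbit of a coset commuting with the triple. -/
def growB : List (ℕ × ℕ) := [
    (53, 1), (53, 2), (53, 3), (53, 4), (53, 6), (107, 0), (107, 2), (107, 4), (107, 6), (118, 0),
    (118, 4), (118, 6), (215, 0), (921, 0), (921, 6), (1065, 0), (54, 3), (123, 3), (123, 4), (123, 6),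
    (1097, 3), (1097, 6), (1506, 3), (56, 3), (1056, 3), (1056, 6), (947, 3), (72, 4), (72, 6), (1786, 3),
    (108, 2), (108, 4), (108, 6), (1095, 0), (1095, 6), (1502, 0), (1810, 0), (128, 4), (128, 6), (987, 0),
    (936, 6), (133, 4), (133, 6), (1099, 6), (1209, 3), (1117, 6), (1118, 6)]

end Cfsg.Agent.Fi22Local.Triple
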